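import Cfsg.Agent.H40.Ree.Levi

/-!
Products of two cells of a split Tits system with central longest element that meet the big cell.
-/

set_option autoImplicit false
set_option linter.unusedSectionVars false

namespace Cfsg.Agent.H84.Gauss

open Cfsg.Agent.H28 Cfsg.Agent.H54.BNC Cfsg.Agent.H13.Split Cfsg.Agent.H74.RootExt
open Cfsg.Agent.H37 (Tits.Ambient)

variable {G W : Type*} [Group G] [Group W] {A : Tits.Ambient G W} {p : ℕ} {w₀ : W}

/-- The standing hypotheses: a split Tits system with central longest involution. -/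
structure Ctx (A : Tits.Ambient G W) (p : ℕ) (w₀ : W) : Prop where
  base : SBase A p w₀
  norm : ∀ s ∈ A.S, ∀ u ∈ A.U, ∀ d ∈ rad A s, u * d * u⁻¹ ∈ rad A s
  cen : ∀ s ∈ A.S, s * w₀ = w₀ * s
  sq : w₀ * w₀ = 1

theorem mem_cell_iff {w : W} {g : G} :
    g ∈ cell A w ↔ ∃ a ∈ A.B, ∃ b ∈ A.B, g = a * A.n w * b := mem_dc A.pair

theorem mem_cell_one {g : G} (hg : g ∈ cell A 1) : g ∈ A.B := by
  obtain ⟨a, ha, b, hb, rfl⟩ := mem_cell_iff.1 hg
  rw [A.n_one, mul_one]
  exact mul_mem ha hb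

/-- Some element of the cell of `m` times one of the cell of `v` lies in the cell of `u`. -/
def Meets (A : Tits.Ambient G W) (m v u : W) : Prop :=
  ∃ x ∈ cell A m, ∃ y ∈ cell A v, x * y ∈ cell A u

theorem Meets.exists_right {m v u : W} (h : Meets A m v u) {g : G} (hg : g ∈ cell A m) :
    ∃ y ∈ cell A v, g * y ∈ cell A u := by
  obtain ⟨x, hx, y, hy, hxy⟩ := h
  obtain ⟨a, ha, b, hb, rfl⟩ := mem_cell_iff.1 hx
  obtain ⟨c, hc, d, hd, rfl⟩ := mem_cell_iff.1 hg
  refine ⟨d⁻¹ * b * y, cell_left A (mul_mem (inv_mem hd) hb) hy, ?_⟩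
  rw [show c * A.n m * d * (d⁻¹ * b * y) = (c * a⁻¹) * (a * A.n m * b * y) by group]
  exact cell_left A (mul_mem hc (inv_mem ha)) hxy

theorem Meets.exists_left {m v u : W} (h : Meets A m v u) {g : G} (hg : g ∈ cell A v) :
    ∃ x ∈ cell A m, x * g ∈ cell A u := by
  obtain ⟨x, hx, y, hy, hxy⟩ := h
  obtain ⟨a, ha, b, hb, rfl⟩ := mem_cell_iff.1 hy
  obtain ⟨c, hc, d, hd, rfl⟩ := mem_cell_iff.1 hg
  refine ⟨x * a * c⁻¹, cell_right A (cell_right A hx ha) (inv_mem hc), ?_⟩
  rw [show x * a * c⁻¹ * (c * A.n v * d) = x * (a * A.n v * b) * (b⁻¹ * d) by group]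
  exact cell_right A hxy (mul_mem (inv_mem hb) hd)

theorem Meets.inv {m v u : W} (h : Meets A m v u) : Meets A v⁻¹ m⁻¹ u⁻¹ := by
  obtain ⟨x, hx, y, hy, hxy⟩ := h
  exact ⟨y⁻¹, cell_inv A hy, x⁻¹, cell_inv A hx, by rw [← mul_inv_rev]; exact cell_inv A hxy⟩

theorem meets_one (v : W) : Meets A 1 v v :=
  ⟨A.n 1, n_mem_cell A 1, A.n v, n_mem_cell A v, by rw [A.n_one, one_mul]; exact n_mem_cell A v⟩

theorem meets_up {a b : W} (h : ell A (a * b) = ell A a + ell A b) : Meets A a b (a * b) :=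
  ⟨A.n a, n_mem_cell A a, A.n b, n_mem_cell A b, cell_mul A h (n_mem_cell A a) (n_mem_cell A b)⟩

theorem meets_down {r v : W} (hr : r ∈ A.S) (h : ell A (r * v) + 1 = ell A v) :
    Meets A r v v := by
  obtain ⟨b, hb, hb'⟩ := exists_conj_mem_dc (P := A.pair) (nS_mem A hr)
  have hadd : ell A (r * (r * v)) = ell A r + ell A (r * v) := by
    rw [← mul_assoc, A.sq_S r hr, one_mul, ell_S A hr]; omega
  have hy : A.n r * A.n (r * v) ∈ cell A v := by
    have := cell_mul A hadd (n_mem_cell A r) (n_mem_cell A (r * v))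
    rwa [← mul_assoc, A.sq_S r hr, one_mul] at this
  refine ⟨A.n r, n_mem_cell A r, b * (A.n r * A.n (r * v)), cell_left A hb hy, ?_⟩
  have := cell_mul A hadd (show A.n r * b * A.n r ∈ cell A r from hb') (n_mem_cell A (r * v))
  rw [← mul_assoc r, A.sq_S r hr, one_mul] at this
  simpa [mul_assoc] using this

/-- Composition along a reduced product. -/
theorem Meets.comp {r a v c d : W} (hr : r ∈ A.S) (hl : ell A (r * a) = ell A a + 1)
    (h1 : Meets A a v c) (h2 : Meets A r c d) : Meets A (r * a) v d := by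
  obtain ⟨x, hx, y, hy, hxy⟩ := h1
  obtain ⟨z, hz, hzxy⟩ := h2.exists_left hxy
  exact ⟨z * x, cell_mul A (by rw [ell_S A hr]; omega) hz hx, y, hy, by rwa [mul_assoc]⟩

variable [Finite G] (hC : Ctx A p w₀)
include hC

theorem Ctx.meets_w₀_self {r : W} (hr : r ∈ A.S) : Meets A r w₀ w₀ :=
  meets_down hr (descent_of_full A hC.base.full hr).2

theorem Ctx.inv_w₀ : w₀⁻¹ = w₀ := inv_eq_of_mul_eq_one_right hC.sq

theorem Ctx.ell_co {t : W} (ht : t ∈ A.S) : ell A (w₀ * t) + 1 = ell A w₀ :=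
  (descent_of_full A hC.base.full ht).1

theorem Ctx.meets_co_up {t : W} (ht : t ∈ A.S) : Meets A t (w₀ * t) w₀ := by
  have e : t * (w₀ * t) = w₀ := by rw [← mul_assoc, hC.cen t ht, mul_assoc, A.sq_S t ht, mul_one]
  have := meets_up (A := A) (a := t) (b := w₀ * t) (by
    rw [e, ell_S A ht]; have := hC.ell_co ht; omega)
  rwa [e] at this

theorem Ctx.meets_co_self {r t : W} (hr : r ∈ A.S) (ht : t ∈ A.S) (hrt : r ≠ t) :
    Meets A r (w₀ * t) (w₀ * t) := by
  refine meets_down hr ?_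
  have h1 := hC.base.ell_w₀_mul (r * t)⁻¹
  rw [inv_inv, ell_inv, ← mul_assoc, ← hC.cen r hr] at h1
  have h2 : ell A (r * t) = 2 := by
    rcases ell_cases A hr t with h | h
    · rw [h, ell_S A ht]
    · rw [ell_S A ht] at h
      exact absurd ((mul_eq_one_iff_eq_inv.1 (eq_one_of_ell A (w := r * t) (by omega))).trans
        (A.S_inv ht)) hrt
  have h3 := hC.ell_co ht
  rw [← mul_assoc]
  omega

/-- Outside the parabolic subgroup missing `t` every cell carries the cell of `w₀ t` to the big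
cell. -/
theorem Ctx.meets_big {t : W} (ht : t ∈ A.S) {m : W} (hm : m ∉ Subgroup.closure (A.S \ {t})) :
    Meets A m (w₀ * t) w₀ := by
  suffices ∀ n, ∀ m : W, ell A m = n → Meets A m (w₀ * t) w₀ ∨
      (m ∈ Subgroup.closure (A.S \ {t}) ∧ Meets A m (w₀ * t) (w₀ * t)) from
    (this _ m rfl).resolve_right fun h => hm h.1
  intro n
  induction n using Nat.strong_induction_on with
  | _ n ih =>
  intro m hn
  by_cases h1 : m = 1
  · subst h1; exact Or.inr ⟨one_mem _, meets_one _⟩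
  obtain ⟨r, hr, e⟩ := exists_left_descent A h1
  have hm' : m = r * (r * m) := by rw [← mul_assoc, A.sq_S r hr, one_mul]
  have hl : ell A (r * (r * m)) = ell A (r * m) + 1 := by rw [← hm']; omega
  rcases ih (ell A (r * m)) (by omega) (r * m) rfl with h | ⟨hmem, h⟩
  · exact Or.inl (hm' ▸ Meets.comp hr hl h (hC.meets_w₀_self hr))
  · by_cases hrt : r = t
    · subst hrt
      exact Or.inl (hm' ▸ Meets.comp hr hl h (hC.meets_co_up hr))
    · refine Or.inr ⟨?_, hm' ▸ Meets.comp hr hl h (hC.meets_co_self hr ht hrt)⟩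
      rw [hm']
      exact mul_mem (Subgroup.subset_closure ⟨hr, hrt⟩) hmem

end Cfsg.Agent.H84.Gauss
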