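import Cfsg.Agent.H84.Gauss.Main
import Cfsg.Agent.H87.RankOne
import Cfsg.Agent.Chevalley.SL2Hom

/-!
Shifting the torus part by a coroot in a rank one subgroup parametrised by `SL₂`.
-/

set_option autoImplicit false
set_option linter.unusedSectionVars false

namespace Cfsg.Agent.H84.Gauss

open Cfsg.Agent.H13.Split Cfsg.Agent.H74.RootExt
open Cfsg.Agent.H37 (Tits.Ambient)
open Cfsg.Agent.H87 (upMat lowMat)

variable {G W : Type*} [Group G] [Group W] {A : Tits.Ambient G W} {k : Type*} [Field k]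

/-- The diagonal matrix of determinant one. -/
def dm (d : kˣ) : Matrix.SpecialLinearGroup (Fin 2) k :=
  ⟨!![(d : k), 0; 0, ((d⁻¹ : kˣ) : k)], by simp [Matrix.det_fin_two_of]⟩

theorem dm_coe (d : kˣ) : ((dm d : Matrix.SpecialLinearGroup (Fin 2) k) : Matrix (Fin 2) (Fin 2) k) =
    !![(d : k), 0; 0, ((d⁻¹ : kˣ) : k)] := rfl

theorem dm_mul (d d' : kˣ) : dm d * dm d' = dm (d * d') := by
  refine H87.sl2_ext ?_
  rw [Matrix.SpecialLinearGroup.coe_mul, dm_coe, dm_coe, dm_coe, Matrix.mul_fin_two]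
  simp [mul_comm]

theorem up_low (α r : k) (d : kˣ) (hd : (d : k) = 1 + α * r) :
    upMat α * lowMat r = lowMat (r / d) * dm d * upMat (α / d) := by
  refine H87.sl2_ext ?_
  rw [Matrix.SpecialLinearGroup.coe_mul, Matrix.SpecialLinearGroup.coe_mul,
    Matrix.SpecialLinearGroup.coe_mul, dm_coe, H87.upMat_coe, H87.upMat_coe, H87.lowMat_coe,
    H87.lowMat_coe, Matrix.mul_fin_two, Matrix.mul_fin_two, Matrix.mul_fin_two]
  have h0 := d.ne_zero
  ext i j
  fin_cases i <;> fin_cases j <;> simp <;> (try field_simp) <;> (try rw [hd]) <;> ring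

/-- A rank one subgroup parametrised by `SL₂` shifts the torus part by its coroots. -/
theorem adjust_sl2 (hH : ∀ a ∈ A.H, ∀ b ∈ A.H, a * b = b * a) {p : ℕ} {w₀ : W}
    (hA : SBase A p w₀) {t : W} (ht : t ∈ A.S) (f : Matrix.SpecialLinearGroup (Fin 2) k →* G)
    (hx : ∀ e ∈ A.Uw t, ∃ r, e = f (upMat r)) (hxm : ∀ r, f (upMat r) ∈ A.Uw t)
    (hy : ∀ e ∈ A.Uw t, ∃ r, A.n t * e * (A.n t)⁻¹ = f (lowMat r))
    (hym : ∀ r, ∃ e ∈ A.Uw t, f (lowMat r) = A.n t * e * (A.n t)⁻¹)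
    (hd : ∀ d, f (dm d) ∈ A.H) :
    Adjust A t (Set.range fun d => f (dm d)) := by
  intro e he he1 h hh e' he' τ hτ
  obtain ⟨d, rfl⟩ := hτ
  obtain ⟨r, er⟩ := hy e he
  have hr : r ≠ 0 := fun h0 => he1 (by
    rw [h0, H87.lowMat_zero, map_one, conj_eq_one_iff] at er
    exact er)
  obtain ⟨s, rfl⟩ := hx e' he'
  set α : k := ((d : k) - 1) / r
  have hα : (d : k) = 1 + α * r := by
    simp only [α]; field_simp; ring
  obtain ⟨e₂, he₂, e₂'⟩ := hym (r / d)
  refine ⟨f (upMat α), Uw_le_Lg _ (hxm α), e₂, he₂,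
    h⁻¹ * f (upMat (α / d)) * h * (f (upMat s) * (f (upMat α))⁻¹),
    mul_mem ?_ (mul_mem (hxm s) (inv_mem (hxm α))), ?_⟩
  · have := hA.H_conj_Uw ht (inv_mem hh) (hxm (α / d))
    rwa [inv_inv] at this
  rw [er, ← e₂']
  calc f (upMat α) * (f (lowMat r) * h * f (upMat s)) * (f (upMat α))⁻¹
      = f (upMat α * lowMat r) * h * (f (upMat s) * (f (upMat α))⁻¹) := by rw [map_mul]; group
    _ = f (lowMat (r / d)) * (f (dm d) * h) * (h⁻¹ * f (upMat (α / d)) * h *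
          (f (upMat s) * (f (upMat α))⁻¹)) := by
        rw [up_low α r d hα, map_mul, map_mul]; group
    _ = _ := by rw [hH _ (hd d) _ hh]

end Cfsg.Agent.H84.Gauss
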