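import Cfsg.Agent.H84.Gauss.Prod

/-!
An element whose cell is maximal in its conjugacy class: every ascent of the cell commutes with it.
-/

set_option autoImplicit false
set_option linter.unusedSectionVars false

namespace Cfsg.Agent.H84.Gauss

open Cfsg.Agent.H28 Cfsg.Agent.H54.BNC Cfsg.Agent.H13.Split
open Cfsg.Agent.H74.RootExt (exchange_eq)
open Cfsg.Agent.H37 (Tits.Ambient)

variable {G W : Type*} [Group G] [Group W] {A : Tits.Ambient G W}

theorem conj_n_mem_B {r : W} (hr : r ∈ A.S) {v : G} (hv : v ∈ A.Uw r)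
    (h : A.n r * v * (A.n r)⁻¹ ∈ A.B) : v = 1 := by
  obtain ⟨u, hu, k, hk, e⟩ := h
  exact (A.unique (one_mem _) hu (one_mem _) hk hv (one_mem _)
    (show 1 * 1 * A.n r * v = u * k * A.n r * 1 by rw [← e]; group)).2.2.2

theorem exists_eq_ne_one {r : W} (hr : r ∈ A.S) (v : G) :
    ∃ e ∈ A.Uw r, e ≠ v := by
  by_cases hv : v = 1
  · obtain ⟨⟨x, hx⟩, hx1⟩ := Subgroup.ne_bot_iff_exists_ne_one.1 (A.Uw_S_ne r hr)
    exact ⟨x, hx, fun h => hx1 (Subtype.ext (h.trans hv))⟩
  · exact ⟨1, one_mem _, Ne.symm hv⟩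

/-- A left ascent of the cell commutes with it, or some conjugate lies in a longer cell. -/
theorem exists_longer {r w : W} (hr : r ∈ A.S) (hl : ell A (r * w) = ell A w + 1)
    (hne : r * w ≠ w * r) {g : G} (hg : g ∈ cell A w) :
    ∃ (y : G) (w' : W), y * g * y⁻¹ ∈ cell A w' ∧ ell A w < ell A w' := by
  have hl1 : ell A (r * w) = ell A r + ell A w := by rw [ell_S A hr, hl, add_comm]
  have hni : (A.n r)⁻¹ ∈ cell A r := by
    have := cell_inv A (n_mem_cell A r)
    rwa [A.S_inv hr] at this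
  rcases ell_cases' A hr w with hwr | hwr
  · rcases ell_cases A hr (w * r) with h | h
    · refine ⟨A.n r, r * w * r, ?_, by rw [mul_assoc]; omega⟩
      exact cell_mul A (by rw [mul_assoc, ell_S A hr, h, hwr, hl]) (cell_mul A hl1 (n_mem_cell A r) hg) hni
    · exact absurd (exchange_eq hr hr hl hwr h) hne
  · set w' := w * r with hw'
    have hw : w = w' * r := by rw [hw', mul_assoc, A.sq_S r hr, mul_one]
    have h1 : ell A (r * w' * r) = ell A (r * w') + ell A r := by
      have h2 := ell_mul_le A (r * w') r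
      rw [mul_assoc r w' r, ← hw, ell_S A hr] at h2 ⊢
      rcases ell_cases A hr w' with h | h <;> omega
    have h3 : ell A (r * w') = ell A r + ell A w' := by
      rw [mul_assoc r w' r, ← hw, ell_S A hr] at h1
      rw [ell_S A hr]
      omega
    obtain ⟨a, ha, b, hb, e⟩ := mem_cell_iff.1 hg
    obtain ⟨k, hk, ek⟩ := A.n_mul w' r
    rw [← hw] at ek
    set z := A.n r * b with hz
    have hzc : z ∈ cell A r := cell_right A (n_mem_cell A r) hb
    obtain ⟨u, hu, h, hh, v, hv, ez⟩ := cell_nf A hzc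
    obtain ⟨e₀, he₀, hev⟩ := exists_eq_ne_one hr v
    have hy : a * k⁻¹ * A.n w' ∈ cell A w' :=
      cell_left A (mul_mem ha (A.H_le_B (inv_mem hk))) (n_mem_cell A w')
    have heB : e₀ ∈ A.B := A.U_le_B (A.Uw_le r he₀)
    have hgy : g = a * k⁻¹ * A.n w' * z := by
      rw [e, hz, show A.n w = k⁻¹ * (A.n w' * A.n r) by rw [ek]; group]; group
    refine ⟨A.n r * e₀, r * w, ?_, by omega⟩
    have hleft : A.n r * e₀ * (a * k⁻¹ * A.n w') ∈ cell A (r * w') := by
      rw [mul_assoc]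
      exact cell_mul A h3 (n_mem_cell A r) (cell_left A heB hy)
    have hright : A.n r * (v * e₀⁻¹) * (A.n r)⁻¹ ∈ cell A r := by
      rcases axiom_left (P := A.pair) (nS_mem A hr) (n_mem A r)
          (A.U_le_B (A.Uw_le r (mul_mem hv (inv_mem he₀)))) with hc | hc
      · rw [dc_of_mem_B (A.pair.sq_mem _ (nS_mem A hr)), mem_dc_one] at hc
        refine absurd (mul_inv_eq_one.1 (conj_n_mem_B hr (mul_mem hv (inv_mem he₀)) ?_)) (Ne.symm hev)
        rw [show A.n r * (v * e₀⁻¹) * (A.n r)⁻¹ =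
          A.n r * (v * e₀⁻¹) * A.n r * (A.n r * A.n r)⁻¹ by group]
        exact mul_mem hc (inv_mem (A.pair.sq_mem _ (nS_mem A hr)))
      · rw [show A.n r * (v * e₀⁻¹) * (A.n r)⁻¹ =
          A.n r * (v * e₀⁻¹) * A.n r * (A.n r * A.n r)⁻¹ by group]
        exact cell_right A hc (inv_mem (A.pair.sq_mem _ (nS_mem A hr)))
    rw [hgy, show A.n r * e₀ * (a * k⁻¹ * A.n w' * z) * (A.n r * e₀)⁻¹ =
      A.n r * e₀ * (a * k⁻¹ * A.n w') * ((u * h) * (A.n r * (v * e₀⁻¹) * (A.n r)⁻¹)) by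
        rw [ez]; group]
    have := cell_mul A h1 hleft (cell_left A ⟨u, hu, h, hh, rfl⟩ hright)
    rwa [mul_assoc r w' r, ← hw] at this

/-- Some conjugate lies in a cell whose ascents all commute with it, at least as long as the given
one. -/
theorem exists_max [Finite W] {w : W} {g : G} (hg : g ∈ cell A w) :
    ∃ (y : G) (w' : W), y * g * y⁻¹ ∈ cell A w' ∧ ell A w ≤ ell A w' ∧
      ∀ r ∈ A.S, ell A (r * w') = ell A w' + 1 → r * w' = w' * r := by
  classical
  haveI := Fintype.ofFinite W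
  set s : Finset W := Finset.univ.filter fun v => ∃ y : G, y * g * y⁻¹ ∈ cell A v
  have hw : w ∈ s := Finset.mem_filter.2 ⟨Finset.mem_univ _, 1, by simpa using hg⟩
  obtain ⟨v, hv, hmax⟩ := s.exists_max_image (ell A) ⟨w, hw⟩
  obtain ⟨y, hy⟩ := (Finset.mem_filter.1 hv).2
  refine ⟨y, v, hy, hmax w hw, fun r hr hl => ?_⟩
  by_contra hne
  obtain ⟨z, v', hz, hlt⟩ := exists_longer hr hl hne hy
  have hmem : v' ∈ s := Finset.mem_filter.2 ⟨Finset.mem_univ _, z * y, by
    convert hz using 1; group⟩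
  exact absurd (hmax v' hmem) (not_le.2 hlt)

/-- An element other than the longest has an ascent. -/
theorem exists_ascent [Finite G] {w₀ w : W} (hfull : A.Uw w₀ = A.U) (hw : w ≠ w₀) :
    ∃ r ∈ A.S, ell A (r * w) = ell A w + 1 := by
  have hne : w₀ * w⁻¹ ≠ 1 := fun h => hw (mul_inv_eq_one.1 h).symm
  obtain ⟨r, hr, e⟩ := exists_right_descent A hne
  refine ⟨r, hr, ?_⟩
  have h1 := ell_full A hfull w
  have h2 := ell_full A hfull (r * w)
  rw [mul_inv_rev, A.S_inv hr, ← mul_assoc] at h2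
  omega

end Cfsg.Agent.H84.Gauss
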