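import Cfsg.Agent.H84.Gauss.MatTwo

/-!
In characteristic three every element of `SL₂` is a product of two conjugates of `±g`, `g` the element
of order eight with determinant `-1`.
-/

set_option autoImplicit false

namespace Cfsg.Agent.H84.Gauss

open Matrix Polynomial

variable {k : Type*} [Field k] [Fintype k]

/-- The element of order eight. -/
def g8 (k : Type*) [Field k] : Matrix (Fin 2) (Fin 2) k := !![0, 1; 1, 1]

theorem exists_two_squares {a b : k} (ha : a ≠ 0) (hb : b ≠ 0) (h2 : ringChar k ≠ 2) :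
    ∃ x y : k, a * x ^ 2 + b * y ^ 2 = 1 := by
  have hodd : Fintype.card k % 2 = 1 := FiniteField.odd_card_of_char_ne_two h2
  obtain ⟨x, y, h⟩ := FiniteField.exists_root_sum_quadratic (f := C a * X ^ 2)
    (g := C b * X ^ 2 + C 0 * X + C (-1)) (by rw [degree_C_mul_X_pow 2 ha]; rfl)
    (degree_quadratic hb) hodd
  exact ⟨x, y, by simp at h; linear_combination h⟩

/-- An element with the invariants of `g8` is conjugate to it. -/
theorem conj_g8 (h3 : (3 : k) = 0) {M : Matrix (Fin 2) (Fin 2) k} (hd : M.det = -1)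
    (ht : M.trace = 1) :
    ∃ S : SpecialLinearGroup (Fin 2) k, M = (S : Matrix (Fin 2) (Fin 2) k) * g8 k *
      ((S⁻¹ : SpecialLinearGroup (Fin 2) k) : Matrix (Fin 2) (Fin 2) k) := by
  have h2 : ringChar k ≠ 2 := fun h => by
    haveI := ringChar.charP k
    have h2 : ((2 : ℕ) : k) = 0 := by rw [← h]; exact CharP.cast_eq_zero k _
    push_cast at h2
    exact one_ne_zero (show (1 : k) = 0 by linear_combination h3 - h2)
  obtain ⟨a, b, c, d, rfl⟩ : ∃ a b c d, M = !![a, b; c, d] := ⟨_, _, _, _, Matrix.eta_fin_two M⟩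
  rw [Matrix.det_fin_two_of] at hd
  rw [Matrix.trace_fin_two_of] at ht
  obtain ⟨v0, v1, hv⟩ : ∃ v0 v1 : k, c * v0 ^ 2 + (d - a) * v0 * v1 - b * v1 ^ 2 = 1 := by
    have hdisc : (d - a) ^ 2 + 4 * b * c = 2 := by
      linear_combination (ht) * (a + d + 1) - 4 * hd + h3
    have h20 : (2 : k) ≠ 0 := fun h => one_ne_zero (show (1 : k) = 0 by linear_combination h3 - h)
    by_cases hc : c = 0
    · subst hc
      have hne : d - a ≠ 0 := fun h => h20 (by rw [← hdisc, h]; ring)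
      exact ⟨(1 + b) / (d - a), 1, by field_simp; ring⟩
    · have h4 : (4 : k) ≠ 0 := fun h => one_ne_zero (show (1 : k) = 0 by linear_combination h - h3)
      have he : -(2 / (4 * c)) ≠ 0 := neg_ne_zero.2 (div_ne_zero h20 (mul_ne_zero h4 hc))
      obtain ⟨x, y, hxy⟩ := exists_two_squares hc he h2
      refine ⟨x - (d - a) / (2 * c) * y, y, ?_⟩
      field_simp at hxy ⊢
      linear_combination hxy - y ^ 2 * hdisc
  set P : Matrix (Fin 2) (Fin 2) k := !![v0, a * v0 + b * v1; v1, c * v0 + d * v1]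
  have hP : P.det = 1 := by
    rw [Matrix.det_fin_two_of]; linear_combination hv
  refine ⟨⟨P, hP⟩, ?_⟩
  have e : !![a, b; c, d] * P = P * g8 k := by
    simp only [P, g8, Matrix.mul_fin_two]
    ext i j
    fin_cases i <;> fin_cases j <;> simp
    · linear_combination (a * v0 + b * v1) * ht - v0 * hd
    · linear_combination (c * v0 + d * v1) * ht - v1 * hd
  obtain ⟨S, hS⟩ : ∃ S : SpecialLinearGroup (Fin 2) k,
      S = ⟨P, hP⟩ ∧ (S : Matrix (Fin 2) (Fin 2) k) = P := ⟨_, rfl, rfl⟩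
  rw [← hS.1]
  have hSS : (S : Matrix (Fin 2) (Fin 2) k) *
      ((S⁻¹ : SpecialLinearGroup (Fin 2) k) : Matrix (Fin 2) (Fin 2) k) = 1 :=
    congrArg Subtype.val (mul_inv_cancel S)
  rw [hS.2, ← e, mul_assoc]
  rw [hS.2] at hSS
  rw [hSS, mul_one]

/-- Every element of `SL₂` is a product of a conjugate of `g8` and one of `± g8`. -/
theorem three_prod (h3 : (3 : k) = 0) {M : Matrix (Fin 2) (Fin 2) k} (hd : M.det = 1) :
    ∃ S R : SpecialLinearGroup (Fin 2) k, ∃ ε : k, (ε = 1 ∨ ε = -1) ∧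
      M = (S : Matrix (Fin 2) (Fin 2) k) * g8 k *
          ((S⁻¹ : SpecialLinearGroup (Fin 2) k) : Matrix (Fin 2) (Fin 2) k) *
        (ε • ((R : Matrix (Fin 2) (Fin 2) k) * g8 k *
          ((R⁻¹ : SpecialLinearGroup (Fin 2) k) : Matrix (Fin 2) (Fin 2) k))) := by
  suffices ∃ A B : Matrix (Fin 2) (Fin 2) k, ∃ ε : k, (ε = 1 ∨ ε = -1) ∧
      A.det = -1 ∧ A.trace = 1 ∧ B.det = -1 ∧ B.trace = ε ∧ M = A * B by
    obtain ⟨A, B, ε, hε, hA, hA', hB, hB', e⟩ := this
    have hεε : ε * ε = 1 := by rcases hε with rfl | rfl <;> ring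
    obtain ⟨S, hS⟩ := conj_g8 h3 hA hA'
    obtain ⟨R, hR⟩ := conj_g8 h3 (M := ε • B)
      (by rw [Matrix.det_smul, Fintype.card_fin, hB, pow_two, hεε, one_mul])
      (by rw [Matrix.trace_smul, hB', smul_eq_mul, hεε])
    exact ⟨S, R, ε, hε, by rw [← hS, ← hR, smul_smul, hεε, one_smul]; exact e⟩
  by_cases hs : ∃ c : k, M = !![c, 0; 0, c]
  · obtain ⟨c, rfl⟩ := hs
    rw [Matrix.det_fin_two_of, mul_zero, sub_zero] at hd
    refine ⟨g8 k, c • !![-1, 1; 1, 0], -c, ?_, ?_, ?_, ?_, ?_, ?_⟩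
    · rcases mul_self_eq_one_iff.1 hd with h | h <;> simp [h]
    · simp [g8, Matrix.det_fin_two_of]
    · simp [g8, Matrix.trace_fin_two_of]
    · simp [Matrix.det_smul, Matrix.det_fin_two_of, pow_two, hd]
    · simp [Matrix.trace_smul, Matrix.trace_fin_two_of]
    · simp [g8, Matrix.mul_fin_two]
  push Not at hs
  obtain ⟨Q, hQ, hMQ⟩ := exists_cyclic M hs
  rw [hd] at hMQ
  set c := M.trace
  have h2 : ringChar k ≠ 2 := fun h => by
    haveI := ringChar.charP k
    have h2 : ((2 : ℕ) : k) = 0 := by rw [← h]; exact CharP.cast_eq_zero k _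
    push_cast at h2
    exact one_ne_zero (show (1 : k) = 0 by linear_combination h3 - h2)
  have h20 : (2 : k) ≠ 0 := fun h => one_ne_zero (show (1 : k) = 0 by linear_combination h3 - h)
  obtain ⟨ε, x, w, hε, hw⟩ : ∃ ε x w : k, (ε = 1 ∨ ε = -1) ∧
      (c ^ 2 - 4) * x ^ 2 + (2 * c * ε + 4) * x + (ε ^ 2 + 4 * -1 * -1) = w ^ 2 := by
    by_cases h4 : c ^ 2 - 4 = 0
    · have hc : c * c = 1 := by linear_combination h4 + h3
      have key : ∀ ε : k, ε = 1 ∨ ε = -1 → 2 * c * ε + 4 ≠ 0 →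
          ∃ ε x w : k, (ε = 1 ∨ ε = -1) ∧
            (c ^ 2 - 4) * x ^ 2 + (2 * c * ε + 4) * x + (ε ^ 2 + 4 * -1 * -1) = w ^ 2 :=
        fun ε hε hne => ⟨ε, -(ε ^ 2 + 4 * -1 * -1) / (2 * c * ε + 4), 0, hε, by
          rw [h4, zero_mul, zero_add, mul_div_cancel₀ _ hne]; ring⟩
      rcases mul_self_eq_one_iff.1 hc with h | h
      · refine key (-1) (Or.inr rfl) ?_
        rw [h]
        intro h'
        exact h20 (by linear_combination h')
      · refine key 1 (Or.inl rfl) ?_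
        rw [h]
        intro h'
        exact h20 (by linear_combination h')
    · have hodd : Fintype.card k % 2 = 1 := FiniteField.odd_card_of_char_ne_two h2
      obtain ⟨x, w, h⟩ := FiniteField.exists_root_sum_quadratic
        (f := C (c ^ 2 - 4) * X ^ 2 + C (2 * c * 1 + 4) * X + C (1 ^ 2 + 4 * -1 * -1))
        (g := C (-1) * X ^ 2) (degree_quadratic h4)
        (by rw [degree_C_mul_X_pow 2 (neg_ne_zero.2 (one_ne_zero (α := k)))]; rfl) hodd
      simp only [eval_add, eval_mul, eval_C, eval_pow, eval_X] at h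
      exact ⟨1, x, w, Or.inl rfl, by linear_combination h⟩
  set β : k := (x * c + ε + w) / 2
  have hβ : β * β - β * (x * c + ε) - x * (1 - x) - 1 = 0 := by
    simp only [β]
    field_simp
    linear_combination -hw
  set γ : k := β - x * c - ε
  set Xc : Matrix (Fin 2) (Fin 2) k := !![x, β; γ, 1 - x]
  set Yc : Matrix (Fin 2) (Fin 2) k := !![β, 1 - x + β * c; -x, -γ - x * c]
  have hXd : Xc.det = -1 := by
    rw [Matrix.det_fin_two_of]; simp only [γ]; linear_combination -hβ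
  have hC : Xc * Yc = !![0, -1; 1, c] := by
    have hYv : Yc = !![β, 1 - x + β * c; -x, -γ - x * c] := rfl
    simp only [Xc, hYv, Matrix.mul_fin_two]
    ext i j
    fin_cases i <;> fin_cases j <;> simp [γ]
    · ring
    · linear_combination -hβ
    · linear_combination hβ
    · linear_combination c * hβ
  have hQu : IsUnit Q.det := isUnit_iff_ne_zero.2 hQ
  have hQQ : Q⁻¹ * Q = 1 := Matrix.nonsing_inv_mul Q hQu
  have hQQ' : Q * Q⁻¹ = 1 := Matrix.mul_nonsing_inv Q hQu
  have hdd : Q.det * (Q⁻¹).det = 1 := by rw [← Matrix.det_mul, hQQ', Matrix.det_one]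
  have hdet : ∀ Z : Matrix (Fin 2) (Fin 2) k, (Q * Z * Q⁻¹).det = Z.det := fun Z => by
    rw [Matrix.det_mul, Matrix.det_mul]; linear_combination Z.det * hdd
  have htr : ∀ Z : Matrix (Fin 2) (Fin 2) k, (Q * Z * Q⁻¹).trace = Z.trace := fun Z => by
    rw [Matrix.trace_mul_comm, ← mul_assoc, hQQ, one_mul]
  refine ⟨Q * Xc * Q⁻¹, Q * Yc * Q⁻¹, ε, hε, ?_, ?_, ?_, ?_, ?_⟩
  · rw [hdet, hXd]
  · rw [htr, Matrix.trace_fin_two_of]; ring
  · rw [hdet]
    have := congrArg Matrix.det hC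
    rw [Matrix.det_mul, hXd] at this
    simp only [Matrix.det_fin_two_of] at this ⊢
    linear_combination -this
  · rw [htr, Matrix.trace_fin_two_of]; simp only [γ]; ring
  · calc M = M * Q * Q⁻¹ := by rw [mul_assoc, hQQ', mul_one]
      _ = Q * Xc * (Q⁻¹ * Q) * Yc * Q⁻¹ := by rw [hMQ, ← hC, hQQ, mul_one]; noncomm_ring
      _ = _ := by noncomm_ring

end Cfsg.Agent.H84.Gauss
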