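import Cfsg.Agent.H84.Gauss.D4Long
import Cfsg.Agent.H84.Gauss.MatThree

/-!
Every nontrivial element of `³D₄(3)` is a product of two conjugates of one element of order eight.
-/

set_option autoImplicit false
set_option maxRecDepth 100000
set_option linter.unusedSectionVars false

namespace Cfsg.Agent.H84.Gauss.D4

open Cfsg.Lie Cfsg.Agent.H37 Cfsg.Agent.H37.RootSys Cfsg.Agent.H37.Twist Cfsg.Agent.H56.ChevAut
open Cfsg.Agent.H56.TwAut Cfsg.Agent.H37.Twist.D4
open Cfsg.Agent.H13.Split Cfsg.Agent.H74.RootExt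
open Cfsg.Agent.H87 (upMat lowMat)
open Cfsg.Agent.H37.NormalForm
open Cfsg.Agent.D4Cyclic (par nexp)

theorem parity_roots : ∀ r < 24, r ∉ [12, 13, 18, 23] → 12 ≤ r →
    ((chevD4.cartan 0 r + chevD4.cartan 2 r + chevD4.cartan 3 r) % 2 = 1 ∧
      (chevD4.cartan 0 (23 - r) + chevD4.cartan 2 (23 - r) + chevD4.cartan 3 (23 - r)) % 2 = 1) := by
  decide +kernel

theorem top_chars : chevD4.cartan 0 23 = 0 ∧ chevD4.cartan 1 23 = 1 ∧ chevD4.cartan 2 23 = 0 ∧
    chevD4.cartan 3 23 = 0 ∧ chevD4.cartan 0 0 = 0 ∧ chevD4.cartan 1 0 = -1 ∧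
    chevD4.cartan 2 0 = 0 ∧ chevD4.cartan 3 0 = 0 ∧ Sym.dataD4a.sg 23 = 1 ∧
    Sym.dataD4a.sg 0 = 1 ∧ tables.rh 23 = 23 ∧ tables.rh 0 = 0 ∧ chevD4.neg 23 = 0 := by
  decide +kernel

theorem top_comm : ∀ s ∈ [18, 13, 12, 5, 10, 11], ∀ r ∈ [23, 0],
    (s ≠ r ∧ s ≠ chevD4.neg r ∧ s < chevD4.nroots) ∧ chevD4.commTerms r s = [] := by decide +kernel

theorem top_parity : ∀ x : Fin 24, (Chevalley.pairingSum chevD4 23 x.val -
    (Chevalley.pairingSum chevD4 18 x.val + Chevalley.pairingSum chevD4 13 x.val +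
      Chevalley.pairingSum chevD4 12 x.val)) % 2 = 0 := by decide +kernel

universe u

variable {K : Type u} [Field K] [Fintype K] {φ : K →+* K}
  (hφ : ∀ t, φ t = t ^ 3) (hK : Fintype.card K = 3 ^ 3)

include hK in
theorem three_zero : (3 : K) = 0 := by
  have h : ((Fintype.card K : ℕ) : K) = 0 := FiniteField.cast_card_eq_zero K
  rw [hK] at h
  push_cast at h
  exact pow_eq_zero_iff (n := 3) (by norm_num) |>.1 (show (3 : K) ^ 3 = 0 by linear_combination h)

include hK in
theorem neg_one_ne : (-1 : K) ≠ 1 := fun h =>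
  one_ne_zero (show (1 : K) = 0 by linear_combination three_zero hK + h)

/-- The reflection in the highest root. -/
noncomputable def nTop : ↥(chevD4.group K) := nUG (QD K) 23 1

theorem xe_top_comm {r s : ℕ} (hr : r ∈ [23, 0]) (hs : s ∈ [18, 13, 12, 5, 10, 11]) (a t : K) :
    Commute (xe r a) (xe s t) := by
  obtain ⟨⟨h1, h2, h3⟩, h4⟩ := top_comm s hs r hr
  have hr24 : r < chevD4.nroots :=
    (show ∀ r ∈ [23, 0], r < chevD4.nroots by decide +kernel) r hr
  have h : xe s t * xe r a = _ := xG_comm (Q := QD K) hr24 h3 h1 h2 a t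
  rw [h4, List.map_nil, List.prod_nil, mul_one] at h
  exact h.symm

theorem nTop_eq : nTop (K := K) = xe 23 1 * xe 0 (-1) * xe 23 1 := by
  rw [nTop, nUG_eq, top_chars.2.2.2.2.2.2.2.2.2.2.2.2, inv_one]

theorem nTop_comm {s : ℕ} (hs : s ∈ [18, 13, 12, 5, 10, 11]) (t : K) :
    Commute (nTop (K := K)) (xe s t) := by
  rw [nTop_eq]
  exact ((xe_top_comm (by simp) hs _ t).mul_left (xe_top_comm (by simp) hs _ t)).mul_left
    (xe_top_comm (by simp) hs _ t)

include hφ in
theorem nTop_fixed : (endo φ).σ (nTop (K := K)) = nTop := by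
  obtain ⟨-, -, -, -, -, -, -, -, s23, s0, r23, r0, -⟩ := top_chars
  have h23 : ∀ t : K, (endo φ).σ (xe 23 t) = xe 23 (t ^ 3) := fun t => by
    rw [xe, (endo φ).σ_x 23 (by decide)]
    show xG (QD K).K K (tables.rh 23) ((endo φ).f 23 t) = _
    rw [show (endo φ).f 23 t = t ^ 3 from graphEndo_f_pow hφ s23 t, r23]
  have h0 : ∀ t : K, (endo φ).σ (xe 0 t) = xe 0 (t ^ 3) := fun t => by
    rw [xe, (endo φ).σ_x 0 (by decide)]
    show xG (QD K).K K (tables.rh 0) ((endo φ).f 0 t) = _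
    rw [show (endo φ).f 0 t = t ^ 3 from graphEndo_f_pow hφ s0 t, r0]
  rw [nTop_eq, map_mul, map_mul, h23, h0, one_pow, show (-1 : K) ^ 3 = -1 by ring]

theorem hUG_top : hUG (QD K) 23 ((-1 : Kˣ) : K) = tG (QD K) (par 3 (-1 : Kˣ) 1) := by
  refine Subtype.ext ?_
  show (QD K).K.hU K 23 _ = Chevalley.torus chevD4 K _
  rw [(QD K).K.hU_diag K (show 23 < chevD4.nroots by decide)]
  show Chevalley.dU _ = Chevalley.dU _
  congr 1
  funext x
  show (-1 : Kˣ) ^ Chevalley.pe 23 x = ∏ m : Fin 4, par 3 (-1 : Kˣ) 1 m ^ Chevalley.pe (chevD4.simple m.val) x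
  rw [Fin.prod_univ_four]
  obtain ⟨e0, e1, e2, e3⟩ := D4.simple_ok
  show _ = (-1 : Kˣ) ^ Chevalley.pe (chevD4.simple 0) x * (1 : Kˣ) ^ Chevalley.pe (chevD4.simple 1) x *
    ((-1 : Kˣ) ^ 3) ^ Chevalley.pe (chevD4.simple 2) x *
    (((-1 : Kˣ) ^ 3) ^ 3) ^ Chevalley.pe (chevD4.simple 3) x
  rw [e0, e1, e2, e3, one_zpow, mul_one, show ((-1 : Kˣ) ^ 3) = -1 by simp [pow_succ],
    show ((-1 : Kˣ) ^ 3) = -1 by simp [pow_succ], ← zpow_add, ← zpow_add]
  have key : ∀ a b : ℤ, (a - b) % 2 = 0 → (-1 : Kˣ) ^ a = (-1 : Kˣ) ^ b := fun a b h => by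
    obtain ⟨c, hc⟩ := Int.dvd_of_emod_eq_zero h
    rw [show a = b + (c + c) by omega, zpow_add, zpow_add, ← mul_zpow, neg_mul_neg, one_mul,
      one_zpow, mul_one]
  refine key _ _ ?_
  rcases x with m | s
  · simp [Chevalley.pe]
  · exact top_parity s

theorem g8_pow : g8 K * g8 K = !![(1 : K), 1; 1, 2] := by
  simp [g8, Matrix.mul_fin_two]; norm_num

/-- The twist by the diagonal involution. -/
def dl (K : Type u) [Field K] :
    Matrix.SpecialLinearGroup (Fin 2) K →* Matrix.SpecialLinearGroup (Fin 2) K :=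
  D4Cyclic.dconj (-1)

theorem dl_coe (M : Matrix.SpecialLinearGroup (Fin 2) K) :
    (dl K M : Matrix (Fin 2) (Fin 2) K) =
      !![(1 : K), 0; 0, -1] * (M : Matrix (Fin 2) (Fin 2) K) * !![1, 0; 0, -1] := by
  rw [dl, D4Cyclic.dconj_coe, Matrix.eta_fin_two (M : Matrix (Fin 2) (Fin 2) K)]
  simp [Matrix.mul_fin_two]

/-- The special linear element attached to a matrix of determinant `-1`. -/
def sD (X : Matrix (Fin 2) (Fin 2) K) (h : X.det = -1) : Matrix.SpecialLinearGroup (Fin 2) K :=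
  ⟨X * !![1, 0; 0, -1], by rw [Matrix.det_mul, h, Matrix.det_fin_two_of]; ring⟩

theorem three_two_conj : ∃ x : GD hφ hK, x ^ 8 = 1 ∧
    ∀ g : GD hφ hK, g ≠ 1 → ∃ u v : GD hφ hK, g = u * x * u⁻¹ * (v * x * v⁻¹) := by
  haveI := finiteGD hφ hK
  have hC := ctx hφ hK
  set A := Ad hφ hK
  set f := fS hφ hK
  have h3 := three_zero hK
  have hk1 : ((-1 : K)) ∈ kq φ := by
    show φ (-1) = -1
    rw [map_neg, map_one]
  set m1 : (kq φ)ˣ := Units.mk0 ⟨-1, hk1⟩ fun h => by
    have := congrArg Subtype.val h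
    simp at this
  set E := fL hφ hK (dm m1)
  have hE : lift (model hφ hK) E = tG (QD K) (par 3 1 (-1 : Kˣ)) := by
    rw [fL_dm]
    congr 2
    exact Units.ext rfl
  have hEH : E ∈ A.H := (mem_H (model hφ hK)).2 (hE ▸ tG_mem _ _)
  have hEE : E * E = 1 := lift_injective _ (by
    rw [lift_mul, hE, ← map_mul, ← D4Cyclic.par_mul, mul_one, neg_mul_neg, one_mul, D4Cyclic.par_one,
      map_one]
    rfl)
  have hy1 : (-1 : Kˣ) ^ 3 = -1 := by simp [pow_succ]
  -- the long torus twists the short subgroup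
  have hconj : ∀ M, E * f M * E⁻¹ = f (dl K M) := by
    intro M
    refine DFunLike.congr_fun (D4Cyclic.lev_hom_ext (f := (MulAut.conj E).toMonoidHom.comp f)
      (g := f.comp (dl K)) (fun t => ?_) fun t => ?_) M
    · refine lift_injective _ ?_
      show lift _ (E * f (upMat t) * E⁻¹) = lift _ (f (dl K (upMat t)))
      obtain ⟨⟨c1, c2, c3⟩, -⟩ := chT_short (q := 3) (1 : Kˣ) (-1) hy1
      rw [show dl K (upMat t) = upMat (-t) from H87.sl2_ext (by
        rw [dl_coe, H87.upMat_coe, H87.upMat_coe]; simp [Matrix.mul_fin_two]),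
        lift_mul, lift_mul, lift_inv, hE, fS_up_lift, fS_up_lift,
        show ∀ T a b d : ↥(chevD4.group K), T * (a * b * d) * T⁻¹ =
          (T * a * T⁻¹) * (T * b * T⁻¹) * (T * d * T⁻¹) by intros; group,
        tG_conj_xe _ (by decide), tG_conj_xe _ (by decide), tG_conj_xe _ (by decide), c1, c2, c3]
      norm_num
      ring_nf
    · refine lift_injective _ ?_
      show lift _ (E * f (lowMat t) * E⁻¹) = lift _ (f (dl K (lowMat t)))
      obtain ⟨-, d1, d2, d3⟩ := chT_short (q := 3) (1 : Kˣ) (-1) hy1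
      rw [show dl K (lowMat t) = lowMat (-t) from H87.sl2_ext (by
        rw [dl_coe, H87.lowMat_coe, H87.lowMat_coe]; simp [Matrix.mul_fin_two]),
        lift_mul, lift_mul, lift_inv, hE, fS_low_lift, fS_low_lift,
        show ∀ T a b d : ↥(chevD4.group K), T * (a * b * d) * T⁻¹ =
          (T * a * T⁻¹) * (T * b * T⁻¹) * (T * d * T⁻¹) by intros; group,
        tG_conj_xe _ (by decide), tG_conj_xe _ (by decide), tG_conj_xe _ (by decide), d1, d2, d3]
      norm_num
      ring_nf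
  have hg8 : (g8 K).det = -1 := by simp [g8, Matrix.det_fin_two_of]
  set M0 := sD (g8 K) hg8
  set x := f M0 * E with hx
  have hEf : ∀ M, E * f M = f (dl K M) * E := fun M => by rw [← hconj]; group
  set negI : Matrix.SpecialLinearGroup (Fin 2) K := dm (-1 : Kˣ)
  have hnegI : (negI : Matrix (Fin 2) (Fin 2) K) = !![-1, 0; 0, -1] := by
    rw [dm_coe, inv_neg, inv_one, Units.val_neg, Units.val_one]
  have sq : ∀ M, f M * E * (f M * E) = f (M * dl K M) := fun M => by
    rw [show f M * E * (f M * E) = f M * (E * f M) * E by group, hEf, map_mul,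
      show f M * (f (dl K M) * E) * E = f M * f (dl K M) * (E * E) by group, hEE, mul_one]
  have fourth : ∀ ε : K, ε * ε = 1 → ∀ M : Matrix.SpecialLinearGroup (Fin 2) K,
      (M : Matrix (Fin 2) (Fin 2) K) = ε • (g8 K * !![1, 0; 0, -1]) →
      (f M * E) ^ 4 = f negI := by
    intro ε hε M hM
    rw [show 4 = 2 * 2 from rfl, pow_mul, pow_two (f M * E), sq, pow_two, ← map_mul]
    congr 1
    refine H87.sl2_ext ?_
    simp only [Matrix.SpecialLinearGroup.coe_mul, dl_coe, hM, hnegI]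
    simp [g8, Matrix.mul_fin_two]
    refine ⟨⟨?_, ?_⟩, ?_, ?_⟩ <;> (try rw [pow_two]) <;> ring_nf <;>
      simp only [show ε ^ 2 = 1 by rw [pow_two, hε],
        show ε ^ 4 = 1 by rw [show 4 = 2 * 2 from rfl, pow_mul, pow_two ε, hε, one_pow]] <;>
      first
        | linear_combination (0 : K) * h3
        | linear_combination h3
        | linear_combination (2 : K) * h3
        | linear_combination -h3
        | linear_combination (-2 : K) * h3
  have hfL : ∀ M, f M ∈ Lg A (sI φ 0) := by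
    intro M
    have hle : (⊤ : Subgroup (Matrix.SpecialLinearGroup (Fin 2) K)) ≤ (Lg A (sI φ 0)).comap f := by
      rw [← Chevalley.SL2Hom.closure_upMat_lowMat, Subgroup.closure_le]
      rintro _ (⟨t, rfl⟩ | ⟨t, rfl⟩)
      · rw [SetLike.mem_coe, Subgroup.mem_comap, fS_up]
        exact Uw_le_Lg _ ((H56.TwAut.D4.spec hφ hK).tx_mem_Uw _ _)
      · obtain ⟨e, he, ee⟩ := xS_opp hφ hK t
        rw [SetLike.mem_coe, Subgroup.mem_comap, fS_low, ee]
        exact mul_mem (mul_mem (n_mem_Lg _) (Uw_le_Lg _ he)) (inv_mem (n_mem_Lg _))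
    exact hle (Subgroup.mem_top M)
  have fcomm : ∀ r ∈ [23, 0], ∀ (M : Matrix.SpecialLinearGroup (Fin 2) K) (t : K),
      Commute (lift (model hφ hK) (f M)) (xe r t) := by
    intro r hr M t
    have h := D4Cyclic.lev_hom_ext
      (f := (MulAut.conj (xe r t)).toMonoidHom.comp ((liftHom (model hφ hK)).comp f))
      (g := (liftHom (model hφ hK)).comp f) (fun a => ?_) fun a => ?_
    · exact (mul_inv_eq_iff_eq_mul.1 (DFunLike.congr_fun h M)).symm
    all_goals refine mul_inv_eq_iff_eq_mul.2 ?_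
    all_goals show xe r t * lift (model hφ hK) _ = lift (model hφ hK) _ * xe r t
    · rw [fS_up_lift]
      exact (((xe_top_comm hr (by decide) t _).mul_right (xe_top_comm hr (by decide) t _)).mul_right
        (xe_top_comm hr (by decide) t _)).eq
    · rw [fS_low_lift]
      exact (((xe_top_comm hr (by decide) t _).mul_right (xe_top_comm hr (by decide) t _)).mul_right
        (xe_top_comm hr (by decide) t _)).eq
  have fpf : ∀ M, (f M * E) ^ 4 = f negI → Fpf A (sI φ 0) (model hφ hK).w0 (f M * E) := by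
    intro M h4
    refine ⟨mul_mem (hfL M) (H_le_Lg _ hEH), fun d hd => ?_⟩
    set y := f M * E
    have hz : lift (model hφ hK) (f negI) = tG (QD K) (par 3 (-1 : Kˣ) 1) := fS_dm hφ hK (-1)
    obtain ⟨f1, f2⟩ := rad_fixed hφ hK (i := 0) {23} (par 3 (-1 : Kˣ) 1) (fun r h12 h24 hr hZ => by
      have hm : r ∉ [12, 13, 18, 23] := by
        simp only [orbL, Fin.val_zero, List.mem_cons, List.not_mem_nil, or_false] at hr
        simp only [List.mem_cons, List.not_mem_nil, or_false]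
        simp only [Set.mem_singleton_iff] at hZ
        omega
      obtain ⟨p1, p2⟩ := parity_roots r h24 hm h12
      have key : ∀ s, (chevD4.cartan 0 s + chevD4.cartan 2 s + chevD4.cartan 3 s) % 2 = 1 →
          chT (par 3 (-1 : Kˣ) 1) s ≠ 1 := by
        intro s hs h
        rw [D4Cyclic.chT_par, one_zpow, mul_one, hy1, hy1, ← zpow_add, ← zpow_add] at h
        obtain ⟨c, hc⟩ : Odd (chevD4.cartan 0 s + chevD4.cartan 2 s + chevD4.cartan 3 s) :=
          Int.odd_iff.2 hs
        rw [hc, zpow_add, zpow_one, zpow_mul, zpow_two, neg_mul_neg, one_mul, one_zpow, one_mul] at h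
        exact neg_one_ne hK (by simpa using congrArg Units.val h)
      exact ⟨key r p1, key _ p2⟩) hd hz
    have pw : ∀ v, y * v * y⁻¹ = v → f negI * v * (f negI)⁻¹ = v := fun v hv => by
      have hc : Commute y v := mul_inv_eq_iff_eq_mul.1 hv
      rw [← h4, (hc.pow_left 4).eq, mul_inv_cancel_right]
    have single : lift (model hφ hK) d ∈ XS (QD K).sys.x ({23} : Set ℕ) →
        ∃ t, lift (model hφ hK) d = xe 23 t := by
      suffices ∀ z, z ∈ XS (QD K).sys.x ({23} : Set ℕ) → ∃ t : K, z = xe 23 t from this _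
      intro z h
      induction h using Subgroup.closure_induction with
      | mem z hz =>
        obtain ⟨r, hr, t, rfl⟩ := hz
        rw [Set.mem_singleton_iff] at hr
        subst hr
        exact ⟨t, rfl⟩
      | one => exact ⟨0, ((QD K).sys.x_zero' (show 23 < chevD4.nroots by decide)).symm⟩
      | mul a b _ _ iha ihb =>
        obtain ⟨t, rfl⟩ := iha
        obtain ⟨t', rfl⟩ := ihb
        exact ⟨t + t', ((QD K).sys.x_add' 23 (by decide) t t').symm⟩
      | inv a _ iha =>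
        obtain ⟨t, rfl⟩ := iha
        refine ⟨-t, inv_eq_of_mul_eq_one_right ?_⟩
        exact (((QD K).sys.x_add' 23 (by decide) t (-t)).symm.trans (congrArg _ (add_neg_cancel t))).trans
          ((QD K).sys.x_zero' (by decide))
    obtain ⟨t23, t13, t223, t33, t00, t10, t20, t30, -⟩ := top_chars
    have ch23 : chT (par 3 (1 : Kˣ) (-1)) 23 = -1 := by
      rw [D4Cyclic.chT_par, t23, t13, t223, t33]; simp
    have ch0 : chT (par 3 (1 : Kˣ) (-1)) 0 = -1 := by
      rw [D4Cyclic.chT_par, t00, t10, t20, t30]; simp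
    have move : ∀ r ∈ [23, 0], ∀ t : K, r < chevD4.nroots →
        chT (par 3 (1 : Kˣ) (-1)) r = -1 →
        lift (model hφ hK) y * xe r t * (lift (model hφ hK) y)⁻¹ = xe r t → t = 0 := by
      intro r hr t hlt hch h
      rw [show lift (model hφ hK) y = lift (model hφ hK) (f M) * lift (model hφ hK) E from rfl, hE,
        show ∀ a T v : ↥(chevD4.group K), a * T * v * (a * T)⁻¹ = a * (T * v * T⁻¹) * a⁻¹ by
          intros; group, tG_conj_xe _ hlt, hch, (fcomm r hr M _).eq, mul_inv_cancel_right] at h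
      have h' := xG_inj (QD K) hlt h
      rw [Units.val_neg, Units.val_one, neg_one_mul] at h'
      have h20 : (2 : K) ≠ 0 := fun e => one_ne_zero
        (show (1 : K) = 0 by linear_combination h3 - e)
      exact (mul_eq_zero.1 (show (2 : K) * t = 0 by linear_combination -h')).resolve_left h20
    have fin : ∀ t : K, lift (model hφ hK) d = xe 23 t → t = 0 → d = 1 := fun t ht h0 => by
      subst h0
      refine lift_injective _ (ht.trans ?_)
      exact ((QD K).sys.x_zero' (show 23 < chevD4.nroots by decide)).trans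
        (map_one (liftHom (model hφ hK))).symm
    refine ⟨fun e => ?_, fun e => ?_⟩
    · obtain ⟨t, ht⟩ := single (f1 (pw _ e))
      refine fin t ht (move 23 (by simp) t (by decide) ch23 ?_)
      have e' := congrArg (lift (model hφ hK)) e
      rwa [lift_mul, lift_mul, lift_inv, ht] at e'
    · obtain ⟨t, ht⟩ := single (f2 (pw _ e))
      obtain ⟨k, hk, ek⟩ := lift_n (model hφ hK) (model hφ hK).w0
      rw [Model.ι_w0] at ek
      obtain ⟨t', et'⟩ := (QD K).sys.rep_conj (QD K).X.w0 23 (show 23 < chevD4.nroots by decide) t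
      rw [w0_val (K := K) (show 23 < chevD4.nroots by decide), show 23 - 23 = 0 from rfl] at et'
      obtain ⟨t'', et''⟩ := (QD K).sys.h_conj k hk 0 (by decide) t'
      have he : lift (model hφ hK) (A.n (model hφ hK).w0 * d * (A.n (model hφ hK).w0)⁻¹) = xe 0 t'' := by
        rw [lift_mul, lift_mul, lift_inv, ek, ht]
        show k * (QD K).sys.rep (QD K).X.w0 * (QD K).sys.x 23 t *
          (k * (QD K).sys.rep (QD K).X.w0)⁻¹ = _
        refine Eq.trans ?_ et''
        rw [← et']; group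
      have e' := congrArg (lift (model hφ hK)) e
      rw [lift_mul, lift_mul _ _ (A.n _ * d * _), lift_inv, he] at e'
      have h0 := move 0 (by simp) t'' (by decide) ch0 e'
      subst h0
      have h1 : A.n (model hφ hK).w0 * d * (A.n (model hφ hK).w0)⁻¹ = 1 :=
        lift_injective _ (he.trans (((QD K).sys.x_zero' (show 0 < chevD4.nroots by decide)).trans
          (map_one (liftHom (model hφ hK))).symm))
      exact conj_eq_one_iff.1 h1
  -- the reflection in the highest root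
  set c : GD hφ hK := (model hφ hK).iso ⟨nTop, nTop_fixed hφ⟩
  have hc : lift (model hφ hK) c = nTop := lift_iso _ _
  have hcx : c * x * c⁻¹ = f (M0 * negI) * E := by
    refine lift_injective _ ?_
    rw [hx, lift_mul, lift_mul, lift_inv, lift_mul, lift_mul, hc]
    have hcf : Commute (nTop (K := K)) (lift (model hφ hK) (f M0)) := by
      rw [nTop_eq]
      exact ((fcomm 23 (by simp) M0 1).symm.mul_left (fcomm 0 (by simp) M0 (-1)).symm).mul_left
        (fcomm 23 (by simp) M0 1).symm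
    have hcE : nTop * lift (model hφ hK) E * (nTop (K := K))⁻¹ =
        tG (QD K) (par 3 (-1 : Kˣ) 1) * lift (model hφ hK) E := by
      rw [hE, ← hUG_top (K := K)]
      set T := tG (QD K) (par 3 1 (-1 : Kˣ))
      obtain ⟨t23, t13, t223, t33, t00, t10, t20, t30, -⟩ := top_chars
      have ch23 : chT (par 3 (1 : Kˣ) (-1)) 23 = -1 := by
        rw [D4Cyclic.chT_par, t23, t13, t223, t33]; simp
      have ch0 : chT (par 3 (1 : Kˣ) (-1)) 0 = -1 := by
        rw [D4Cyclic.chT_par, t00, t10, t20, t30]; simp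
      have hT : T * nTop * T⁻¹ = (nTop (K := K))⁻¹ := by
        rw [nTop_eq, show ∀ a b d : ↥(chevD4.group K), T * (a * b * d) * T⁻¹ =
          (T * a * T⁻¹) * (T * b * T⁻¹) * (T * d * T⁻¹) by intros; group,
          tG_conj_xe _ (by decide), tG_conj_xe _ (by decide), ch23, ch0, ← nTop_eq, nTop, nUG_inv,
          nUG_eq, top_chars.2.2.2.2.2.2.2.2.2.2.2.2]
        congr 2 <;> simp
      have hh : hUG (QD K) 23 ((-1 : Kˣ) : K) = nTop * nTop := by
        have e1 : hUG (QD K) 23 ((-1 : Kˣ) : K) = (nTop (K := K))⁻¹ * nTop⁻¹ := by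
          rw [hUG_eq, nTop, nUG_inv, Units.val_neg, Units.val_one]
        have e2 : hUG (QD K) 23 ((-1 : Kˣ) : K) * hUG (QD K) 23 ((-1 : Kˣ) : K) = 1 := by
          rw [hUG_top, ← map_mul, ← D4Cyclic.par_mul, neg_mul_neg]
          simp only [one_mul, D4Cyclic.par_one, map_one]
        rw [eq_inv_of_mul_eq_one_left e2, e1, mul_inv_rev, inv_inv]
      rw [hh]
      have hT' : T * nTop⁻¹ * T⁻¹ = nTop (K := K) := by
        rw [← conj_inv, hT, inv_inv]
      calc nTop * T * (nTop (K := K))⁻¹ = nTop * (T * nTop⁻¹ * T⁻¹) * T := by group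
        _ = _ := by rw [hT']
    rw [show lift (model hφ hK) (f (M0 * negI)) = lift (model hφ hK) (f M0) * lift _ (f negI) by
      rw [map_mul]; rfl, fS_dm]
    calc nTop * (lift (model hφ hK) (f M0) * lift (model hφ hK) E) * (nTop (K := K))⁻¹
        = lift (model hφ hK) (f M0) * (nTop * lift (model hφ hK) E * (nTop (K := K))⁻¹) := by
          rw [← mul_assoc, hcf.eq]; group
      _ = _ := by rw [hcE, mul_assoc]
  have hM0 : (M0 : Matrix (Fin 2) (Fin 2) K) = g8 K * !![1, 0; 0, -1] := rfl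
  have hfx : Fpf A (sI φ 0) (model hφ hK).w0 x :=
    fpf M0 (fourth 1 (one_mul 1) M0 (by rw [one_smul]; exact hM0))
  have hM1 : ((M0 * negI : Matrix.SpecialLinearGroup (Fin 2) K) : Matrix (Fin 2) (Fin 2) K) =
      (-1 : K) • (g8 K * !![1, 0; 0, -1]) := by
    rw [Matrix.SpecialLinearGroup.coe_mul, hM0, hnegI]
    simp [g8, Matrix.mul_fin_two]
  have hfx' : Fpf A (sI φ 0) (model hφ hK).w0 (c * x * c⁻¹) := by
    rw [hcx]; exact fpf _ (fourth (-1) (by ring) _ hM1)
  refine ⟨x, ?_, fun w hw => ?_⟩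
  · rw [show 8 = 4 * 2 from rfl, pow_mul, fourth 1 (one_mul 1) M0 (by rw [one_smul]; exact hM0),
      pow_two, ← map_mul, show negI * negI = 1 from H87.sl2_ext (by
        rw [Matrix.SpecialLinearGroup.coe_mul, hnegI, Matrix.SpecialLinearGroup.coe_one]
        simp [Matrix.mul_fin_two, Matrix.one_fin_two]), map_one]
  have hadj : Adjust A (sI φ 1) (Set.range fun d => fL hφ hK (dm d)) :=
    adjust_sl2 (H_comm hφ hK) (ad_sbase hφ hK) (sI_mem hφ hK 1) (fL hφ hK)
      (fun e he => (long_cases hφ hK he).1) (fL_up_mem hφ hK)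
      (fun e he => (long_cases hφ hK he).2) (fL_opp hφ hK)
      (fun d => (mem_H (model hφ hK)).2 (by rw [fL_dm]; exact tG_mem _ _))
  refine hC.two_conj (sI_mem hφ hK 0) (sI_mem hφ hK 1) (ne_gens hφ hK).symm
    (hgen hφ hK (i := 0) (j := 1) (by decide)) (H37.Twist.D4.simple hφ hK).1 hadj ?_ hw
  intro h hh
  obtain ⟨u, y, hy, hl⟩ := D4Cyclic.exists_par hφ hK ((mem_H (model hφ hK)).1 hh)
    (((model hφ hK).iso.symm h).2 |> fun e => by rwa [iso_symm_coe] at e)
  have hyf : φ (y : K) = y := by rw [hφ, ← Units.val_pow_eq_pow_val, hy]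
  set yk : (kq φ)ˣ := Units.mk0 ⟨y, hyf⟩ fun h0 => y.ne_zero (congrArg Subtype.val h0)
  have hτ : h * fL hφ hK (dm yk⁻¹) = f (dm u) := by
    refine lift_injective _ ?_
    rw [lift_mul, ← hl, fL_dm, fS_dm, ← map_mul, ← D4Cyclic.par_mul, mul_one, map_inv,
      show (Units.map ((kq φ).subtype : kq φ →* K) yk) = y from Units.ext rfl, mul_inv_cancel]
  refine ⟨_, ⟨yk⁻¹, rfl⟩, mul_mem hh ((mem_H (model hφ hK)).2 (by rw [fL_dm]; exact tG_mem _ _)),
    fun e he e' he' => ?_⟩
  rw [hτ]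
  obtain ⟨te, rfl⟩ := (H56.TwAut.D4.spec hφ hK).mem_tw_Uw (0 : Fin 2) e he
  obtain ⟨tr, hr⟩ := (H56.TwAut.D4.spec hφ hK).n_conj (0 : Fin 2) te
  obtain ⟨ts, rfl⟩ := (H56.TwAut.D4.spec hφ hK).mem_tw_Uw (0 : Fin 2) e' he'
  have hlow : A.n (sI φ 0) * (H56.TwAut.D4.spec hφ hK).tx (0 : Fin 2) te * (A.n (sI φ 0))⁻¹ =
      f (lowMat tr.1) := hr.trans (fS_low hφ hK tr.1).symm
  have hup : (H56.TwAut.D4.spec hφ hK).tx (0 : Fin 2) ts = f (upMat ts.1) :=
    (fS_up hφ hK ts.1).symm
  rw [hlow, hup, ← map_mul, ← map_mul]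
  set M := lowMat tr.1 * dm u * upMat ts.1
  obtain ⟨S, R, ε, hε, eM⟩ := three_prod h3 M.2
  have cf : ∀ (S N : Matrix.SpecialLinearGroup (Fin 2) K),
      f S * (f N * E) * (f S)⁻¹ = f (S * N * dl K S⁻¹) * E := fun S N => by
    rw [map_mul, map_mul, ← map_inv f S, mul_assoc (f S * f N) (f (dl K S⁻¹)) E, ← hEf]; group
  obtain ⟨b, N1, hN1, hb, hbf⟩ : ∃ (b : GD hφ hK) (N1 : Matrix.SpecialLinearGroup (Fin 2) K),
      (N1 : Matrix (Fin 2) (Fin 2) K) = ε • (g8 K * !![1, 0; 0, -1]) ∧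
      b * x * b⁻¹ = f N1 * E ∧ Fpf A (sI φ 0) (model hφ hK).w0 (b * x * b⁻¹) := by
    rcases hε with rfl | rfl
    · exact ⟨1, M0, by rw [one_smul]; exact hM0, by rw [one_mul, inv_one, mul_one, hx],
        by rw [one_mul, inv_one, mul_one]; exact hfx⟩
    · exact ⟨c, M0 * negI, hM1, hcx, hfx'⟩
  refine ⟨f S, f R * b, hC.fpf_conj (sI_mem hφ hK 0) hfx (hfL S), ?_, ?_⟩
  · rw [show f R * b * x * (f R * b)⁻¹ = f R * (b * x * b⁻¹) * (f R)⁻¹ by group]
    exact hC.fpf_conj (sI_mem hφ hK 0) hbf (hfL R)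
  rw [show f R * b * x * (f R * b)⁻¹ = f R * (b * x * b⁻¹) * (f R)⁻¹ by group, hb, hx, cf, cf,
    show f (S * M0 * dl K S⁻¹) * E * (f (R * N1 * dl K R⁻¹) * E) =
      f (S * M0 * dl K S⁻¹) * (E * f (R * N1 * dl K R⁻¹)) * E by group, hEf,
    ← mul_assoc (f (S * M0 * dl K S⁻¹)), mul_assoc _ E E, hEE, mul_one, ← map_mul]
  congr 1
  refine H87.sl2_ext ?_
  rw [eM]
  simp only [Matrix.SpecialLinearGroup.coe_mul, dl_coe, hM0, hN1]
  have hDD : (!![(1 : K), 0; 0, -1] : Matrix (Fin 2) (Fin 2) K) * !![1, 0; 0, -1] = 1 := by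
    simp [Matrix.mul_fin_two, Matrix.one_fin_two]
  simp only [Matrix.smul_mul, Matrix.mul_smul, mul_assoc]
  simp only [← mul_assoc !![(1 : K), 0; 0, -1] !![(1 : K), 0; 0, -1], hDD, one_mul, mul_one]

end Cfsg.Agent.H84.Gauss.D4
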