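import Mathlib

/-!
In a group generated by the six root involutions of `SL₃(2)` a product of a lower and an upper
unipotent element is conjugate by one of them to such a product of even parity.
-/

set_option autoImplicit false

namespace Cfsg.Agent.H84.Gauss.D4Two

/-- A power with exponent zero or one. -/
def bp {G : Type*} [Monoid G] (x : G) (b : Bool) : G := cond b x 1

/-- The relations of the upper involutions acting on the lower ones. -/
structure UpRel {G : Type*} [Group G] (p q r P Q R : G) : Prop where
  PP : P * P = 1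
  QQ : Q * Q = 1
  RR : R * R = 1
  RP : R * P = P * R
  RQ : R * Q = Q * R
  PQ : P * Q = Q * P * R
  Rp : R * p = p * Q * R
  Rq : R * q = q * P * R
  Pq : P * q = q * P
  Qp : Q * p = p * Q
  Pr : P * r = r * q * P
  Qr : Q * r = r * p * Q
  pp : p * p = 1
  qq : q * q = 1
  rp : r * p = p * r
  rq : r * q = q * r

variable {G : Type*} [Group G] {p q r P Q R : G}

/-- An odd lower part and an even upper part. -/
theorem UpRel.move (h : UpRel p q r P Q R) {a b i j : Bool} (c k : Bool) (hab : xor a b = true)
    (hij : i = j) :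
    ∃ z, (z = P ∨ z = Q ∨ z = R) ∧ ∃ a' b' c' i' j' k' : Bool,
      xor (xor a' b') (xor i' j') = false ∧
      z * (bp p a * bp q b * bp r c * (bp Q i * bp P j * bp R k)) * z =
        bp p a' * bp q b' * bp r c' * (bp Q i' * bp P j' * bp R k') := by
  have mv : ∀ {x y : G}, x = y → ∀ w : G, x * w = y * w := fun e w => by rw [e]
  have RP := fun w => mv h.RP w
  have RQ := fun w => mv h.RQ w
  have PQ := fun w => mv h.PQ w
  have Rp := fun w => mv h.Rp w
  have Rq := fun w => mv h.Rq w
  have Pq := fun w => mv h.Pq w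
  have Qp := fun w => mv h.Qp w
  have Pr := fun w => mv h.Pr w
  have Qr := fun w => mv h.Qr w
  have rp := fun w => mv h.rp w
  have rq := fun w => mv h.rq w
  have pp := fun w => mv h.pp w
  have qq := fun w => mv h.qq w
  have PP := fun w => mv h.PP w
  have QQ := fun w => mv h.QQ w
  have RR := fun w => mv h.RR w
  simp only [mul_assoc, one_mul] at RP RQ PQ Rp Rq Pq Qp Pr Qr rp rq pp qq PP QQ RR
  subst hij
  cases a <;> cases b <;> simp only [Bool.xor_false, Bool.xor_true, Bool.not_false, Bool.not_true,
    Bool.false_eq_true] at hab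
  · cases c
    · refine ⟨R, Or.inr (Or.inr rfl), false, true, false, i, !i, xor k i, by cases i <;> rfl, ?_⟩
      cases i <;> cases k <;> simp [bp, mul_assoc, RP, RQ, PQ, Rq, PP, QQ, RR, h.RP, h.RQ, h.PQ,
        h.Rq, h.PP, h.QQ, h.RR]
    · refine ⟨P, Or.inl rfl, false, false, true, i, i, xor k i, by cases i <;> rfl, ?_⟩
      cases i <;> cases k <;> simp [bp, mul_assoc, RP, RQ, PQ, Pq, Pr, rq, qq, PP, QQ, RR, h.RP,
        h.RQ, h.PQ, h.Pq, h.Pr, h.rq, h.qq, h.PP, h.QQ, h.RR]
  · cases c
    · refine ⟨R, Or.inr (Or.inr rfl), true, false, false, !i, i, k, by cases i <;> rfl, ?_⟩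
      cases i <;> cases k <;> simp [bp, mul_assoc, RP, RQ, PQ, Rp, PP, QQ, RR, h.RP, h.RQ, h.PQ,
        h.Rp, h.PP, h.QQ, h.RR]
    · refine ⟨Q, Or.inr (Or.inl rfl), false, false, true, i, i, xor k i, by cases i <;> rfl, ?_⟩
      cases i <;> cases k <;> simp [bp, mul_assoc, RP, RQ, PQ, Qp, Qr, rp, pp, PP, QQ, RR, h.RP,
        h.RQ, h.PQ, h.Qp, h.Qr, h.rp, h.pp, h.PP, h.QQ, h.RR]

theorem bp_op (x : G) (b : Bool) : MulOpposite.op (bp x b) = bp (MulOpposite.op x) b := by
  cases b <;> rfl

/-- An even lower part and an odd upper part, through the opposite group. -/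
theorem move_all (h : UpRel p q r P Q R)
    (ho : UpRel (MulOpposite.op P) (MulOpposite.op Q) (MulOpposite.op R) (MulOpposite.op p)
      (MulOpposite.op q) (MulOpposite.op r)) (hqp : q * p = p * q * r) (hrp : r * p = p * r)
    (hrq : r * q = q * r) (hRQ : R * Q = Q * R) (hRP : R * P = P * R) (hPQ : P * Q = Q * P * R)
    {a b i j : Bool} (c k : Bool) (hodd : xor (xor a b) (xor i j) = true) :
    ∃ z, (z = p ∨ z = q ∨ z = r ∨ z = P ∨ z = Q ∨ z = R) ∧ ∃ a' b' c' i' j' k' : Bool,
      xor (xor a' b') (xor i' j') = false ∧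
      z * (bp p a * bp q b * bp r c * (bp Q i * bp P j * bp R k)) * z =
        bp p a' * bp q b' * bp r c' * (bp Q i' * bp P j' * bp R k') := by
  by_cases hab : xor a b = true
  · have hij : i = j := by cases a <;> cases b <;> cases i <;> cases j <;> simp_all
    obtain ⟨z, hz, rest⟩ := h.move c k hab hij
    exact ⟨z, by tauto, rest⟩
  · have hab' : a = b := by cases a <;> cases b <;> simp_all
    have hij : xor j i = true := by cases a <;> cases b <;> cases i <;> cases j <;> simp_all
    have low : ∀ a b c : Bool, bp p a * bp q b * bp r c = bp r c * bp p a * bp q b := fun a b c => by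
      cases a <;> cases b <;> cases c <;> simp only [bp, cond_true, cond_false, one_mul, mul_one]
      · exact hrq.symm
      · exact hrp.symm
      · rw [mul_assoc, ← hrq, ← mul_assoc, ← hrp]
    have up : ∀ i j k : Bool, bp Q i * bp P j * bp R k = bp R k * bp Q i * bp P j := fun i j k => by
      cases i <;> cases j <;> cases k <;> simp only [bp, cond_true, cond_false, one_mul, mul_one]
      · exact hRP.symm
      · exact hRQ.symm
      · rw [mul_assoc, ← hRP, ← mul_assoc, ← hRQ]
    obtain ⟨z, hz, a', b', c', i', j', k', hpar, e⟩ := ho.move (a := j) (b := i) (i := b) (j := a) k c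
      hij hab'.symm
    have e' := congrArg MulOpposite.unop e
    simp only [← bp_op, MulOpposite.unop_mul, MulOpposite.unop_op] at e'
    refine ⟨z.unop, ?_, j', i', k', b', a', c', ?_, ?_⟩
    · rcases hz with rfl | rfl | rfl <;> simp
    · cases a' <;> cases b' <;> cases i' <;> cases j' <;> simp_all
    · calc z.unop * (bp p a * bp q b * bp r c * (bp Q i * bp P j * bp R k)) * z.unop
          = z.unop * (bp r c * (bp p a * bp q b) * (bp R k * (bp Q i * bp P j))) * z.unop := by
            rw [low, up]; simp only [mul_assoc]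
        _ = bp r k' * (bp p j' * bp q i') * (bp R c' * (bp Q b' * bp P a')) := by
            simpa only [mul_assoc] using e'
        _ = _ := by rw [low j' i' k', up b' a' c']; simp only [mul_assoc]

end Cfsg.Agent.H84.Gauss.D4Two
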