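import Cfsg.Agent.H84.Gauss.D4TwoLin

/-!
The torus of `³D₄(2)`, the element of order twenty one and its fixed point freeness.
-/

set_option autoImplicit false
set_option maxRecDepth 100000
set_option linter.unusedSectionVars false

namespace Cfsg.Agent.H84.Gauss.D4Two

open Cfsg.Lie Cfsg.Agent.H37 Cfsg.Agent.H37.RootSys Cfsg.Agent.H37.Twist Cfsg.Agent.H56.ChevAut
open Cfsg.Agent.H56.TwAut Cfsg.Agent.H37.Twist.D4
open Cfsg.Agent.H13.Split Cfsg.Agent.H74.RootExt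
open Cfsg.Agent.H87 (upMat lowMat)
open Cfsg.Agent.D4Cyclic (par)
open Cfsg.Agent.H84.Gauss.D4

theorem long_chars : ∀ r ∈ [14, 22, 23, 9, 1, 0],
    r < chevD4.nroots ∧ (7 : ℤ) ∣ chevD4.cartan 0 r + 2 * chevD4.cartan 2 r + 4 * chevD4.cartan 3 r := by
  decide +kernel

theorem short_chars : ∀ r < 24, r ∉ [14, 22, 23, 9, 1, 0] →
    ¬ (7 : ℤ) ∣ chevD4.cartan 0 r + 2 * chevD4.cartan 2 r + 4 * chevD4.cartan 3 r := by
  decide +kernel

theorem keep_long : ∀ r < 24, 12 ≤ r → r ≠ 14 → r ∈ signL 0 ∧ r ≠ R 0 (l₀ 0) := by decide +kernel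

theorem keep_short : ∀ r < 24, 12 ≤ r → r ∉ [12, 13, 18] → r ∈ layL 0 ∧ 23 - r ∈ layL 1 := by
  decide +kernel

theorem w0_word : ∀ r : Fin 24,
    Weyl.certD4.act ([0, 2, 3, 1, 0, 2, 3, 1, 0, 2, 3, 1] : List ℕ) r.val = 23 - r.val := by
  decide +kernel

universe u

variable {K : Type u} [Field K] [Fintype K] [CharP K 2] {φ : K →+* K}
  (hφ : ∀ t, φ t = t ^ 2) (hK : Fintype.card K = 2 ^ 3)

include hK in
theorem unit_pow7 (u : Kˣ) : u ^ 7 = 1 := by
  refine orderOf_dvd_iff_pow_eq_one.1 ?_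
  have h : Nat.card Kˣ = 7 := by
    rw [Nat.card_units, Nat.card_eq_fintype_card, hK]; rfl
  exact h ▸ orderOf_dvd_natCard u

include hφ in
theorem kq_cases (s : kq φ) : s = 0 ∨ s = 1 := by
  have h : φ (s : K) = s := s.2
  rw [hφ] at h
  rcases mul_eq_zero.1 (show (s : K) * ((s : K) - 1) = 0 by linear_combination h) with h0 | h1
  · exact Or.inl (Subtype.ext h0)
  · exact Or.inr (Subtype.ext (sub_eq_zero.1 h1))

/-- The torus element. -/
noncomputable def TU (u : Kˣ) : GD hφ hK := fS hφ hK (dm u)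

theorem lift_TU (u : Kˣ) : lift (model hφ hK) (TU hφ hK u) = tG (QD K) (par 2 u 1) := fS_dm hφ hK u

theorem TU_mul (u v : Kˣ) : TU hφ hK u * TU hφ hK v = TU hφ hK (u * v) := by
  rw [TU, TU, TU, ← map_mul, dm_mul]

theorem TU_one : TU hφ hK 1 = 1 := by
  rw [TU, show dm (1 : Kˣ) = 1 from H87.sl2_ext (by
    rw [dm_coe, Matrix.SpecialLinearGroup.coe_one, Matrix.one_fin_two]; simp), map_one]

theorem TU_inv (u : Kˣ) : (TU hφ hK u)⁻¹ = TU hφ hK u⁻¹ :=
  inv_eq_of_mul_eq_one_right (by rw [TU_mul, mul_inv_cancel, TU_one])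

theorem TU_pow (u : Kˣ) : ∀ n : ℕ, TU hφ hK u ^ n = TU hφ hK (u ^ n)
  | 0 => by rw [pow_zero, pow_zero, TU_one]
  | n + 1 => by rw [pow_succ, pow_succ, TU_pow u n, TU_mul]

theorem TU_mem (u : Kˣ) : TU hφ hK u ∈ (Ad hφ hK).H :=
  (mem_H (model hφ hK)).2 (by rw [lift_TU]; exact tG_mem _ _)

theorem H_eq {h : GD hφ hK} (hh : h ∈ (Ad hφ hK).H) : ∃ u, h = TU hφ hK u := by
  obtain ⟨u, y, hy, hl⟩ := D4Cyclic.exists_par hφ hK ((mem_H (model hφ hK)).1 hh)
    (((model hφ hK).iso.symm h).2 |> fun e => by rwa [iso_symm_coe] at e)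
  have : y = 1 := by
    rw [pow_two] at hy
    exact mul_eq_left.1 hy
  subst this
  exact ⟨u, lift_injective _ (hl.symm.trans (lift_TU hφ hK u).symm)⟩

include hK in
theorem chT_TU (u : Kˣ) (r : ℕ) : chT (par 2 u 1) r =
    u ^ (chevD4.cartan 0 r + 2 * chevD4.cartan 2 r + 4 * chevD4.cartan 3 r) := by
  rw [D4Cyclic.chT_par, one_zpow, mul_one]
  simp only [← zpow_natCast, ← zpow_mul, ← zpow_add]
  congr 1

include hK in
theorem chT_long (u : Kˣ) {r : ℕ} (hr : r ∈ [14, 22, 23, 9, 1, 0]) : chT (par 2 u 1) r = 1 := by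
  rw [chT_TU hK]
  obtain ⟨c, hc⟩ := (long_chars r hr).2
  rw [hc, zpow_mul, show (7 : ℤ) = ((7 : ℕ) : ℤ) from rfl, zpow_natCast, unit_pow7 hK, one_zpow]

theorem TU_comm_xe (u : Kˣ) {r : ℕ} (hr : r ∈ [14, 22, 23, 9, 1, 0]) (t : K) :
    Commute (lift (model hφ hK) (TU hφ hK u)) (xe r t) := by
  refine mul_inv_eq_iff_eq_mul.1 ?_
  rw [lift_TU, tG_conj_xe _ (long_chars r hr).1, chT_long hK u hr, Units.val_one, one_mul]

theorem TU_comm_fL (u : Kˣ) (s : kq φ) :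
    Commute (TU hφ hK u) (fL hφ hK (upMat s)) ∧ Commute (TU hφ hK u) (fL hφ hK (lowMat s)) := by
  refine ⟨lift_injective _ ?_, lift_injective _ ?_⟩
  · rw [lift_mul, lift_mul, fL_up]
    exact (TU_comm_xe hφ hK u (by simp) _).eq
  · rw [lift_mul, lift_mul, fL_low]
    exact (TU_comm_xe hφ hK u (by simp) _).eq

theorem n_conj_TU_gen (i : Fin 2) (u : Kˣ) :
    (Ad hφ hK).n (sI φ i) * TU hφ hK u * ((Ad hφ hK).n (sI φ i))⁻¹ =
      TU hφ hK (if i = 0 then u⁻¹ else u) := by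
  set P := H56.TwAut.D4.spec hφ hK
  obtain ⟨h, hh, e⟩ := P.nt_mem i 1 one_ne_zero
  set N : GD hφ hK := P.tx i 1 * P.ty i (-(1 : P.k i)⁻¹) * P.tx i 1 with hN
  have key : ∀ v, N * TU hφ hK u * N⁻¹ = TU hφ hK v →
      (Ad hφ hK).n (sI φ i) * TU hφ hK u * ((Ad hφ hK).n (sI φ i))⁻¹ = TU hφ hK v := fun v hv => by
    rw [show (Ad hφ hK).n (sI φ i) = h⁻¹ * N from
      (inv_mul_cancel_left h _).symm.trans (congrArg (h⁻¹ * ·) e.symm)]
    calc h⁻¹ * N * TU hφ hK u * (h⁻¹ * N)⁻¹ = h⁻¹ * (N * TU hφ hK u * N⁻¹) * h := by group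
      _ = _ := by rw [hv, H_comm hφ hK _ (inv_mem hh) _ (TU_mem hφ hK v), inv_mul_cancel_right]
  rcases (show ∀ i : Fin 2, i = 0 ∨ i = 1 by decide) i with rfl | rfl
  · refine key u⁻¹ ?_
    have eN : N = fS hφ hK (upMat 1 * lowMat (-1) * upMat 1) := by
      rw [hN, map_mul, map_mul, fS_up, fS_low]
      refine congrArg₂ (· * ·) (congrArg₂ (· * ·) rfl ?_) rfl
      exact congrArg (P.ty (0 : Fin 2)) (Subtype.ext (by push_cast; rw [inv_one]))
    refine lift_injective _ ?_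
    rw [eN, reflect_short hφ hK (one_pow 2) (lift_TU hφ hK u), lift_TU, one_mul]
  · refine key u ?_
    have hu : ∀ t : kq φ, P.tx (1 : Fin 2) t = fL hφ hK (upMat t) := fun t =>
      lift_injective _ ((H56.TwAut.D4.elems (t : K)).2.1.trans (fL_up hφ hK t).symm)
    have hl : ∀ t : kq φ, P.ty (1 : Fin 2) t = fL hφ hK (lowMat t) := fun t =>
      lift_injective _ ((H56.TwAut.D4.elems (t : K)).2.2.2.trans (fL_low hφ hK t).symm)
    have eN : N = fL hφ hK (upMat 1 * lowMat (-1) * upMat 1) := by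
      rw [hN, map_mul, map_mul, ← hu, ← hl]
      refine congrArg₂ (· * ·) (congrArg₂ (· * ·) rfl ?_) rfl
      exact congrArg (P.ty (1 : Fin 2)) (Subtype.ext (by push_cast; rw [inv_one]))
    refine lift_injective _ ?_
    rw [eN, reflect_long hφ hK (one_pow 2) (lift_TU hφ hK u), lift_TU]
    congr 2
    rw [inv_one, mul_one]
    exact unit_pow7 hK u

include hφ hK in
theorem w0_prod : (model hφ hK).w0 =
    sI φ 0 * sI φ 1 * sI φ 0 * sI φ 1 * sI φ 0 * sI φ 1 := by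
  refine (fold φ).ι_inj ?_
  rw [Model.ι_w0]
  simp only [map_mul, sI, ι_gen]
  simp only [← Weyl.wOf_append]
  refine (QD K).X.good.hom_injective (Equiv.ext fun r => Fin.ext ?_)
  rw [w0_val r.isLt]
  refine Eq.trans ?_ ((QD K).X.good.hom_wOf_val (w := [0, 2, 3, 1, 0, 2, 3, 1, 0, 2, 3, 1])
    (fun a ha => show a < 4 from
      (show ∀ a ∈ [0, 2, 3, 1, 0, 2, 3, 1, 0, 2, 3, 1], a < 4 by decide) a ha) r).symm
  exact (w0_word r).symm

theorem n0_conj_TU (u : Kˣ) :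
    (Ad hφ hK).n (model hφ hK).w0 * TU hφ hK u * ((Ad hφ hK).n (model hφ hK).w0)⁻¹ =
      TU hφ hK u⁻¹ := by
  set A := Ad hφ hK
  have step : ∀ (a : CoxeterMatrix.G₂.Group) (i : Fin 2) (e e' : Kˣ → Kˣ),
      (∀ v, A.n a * TU hφ hK v * (A.n a)⁻¹ = TU hφ hK (e v)) →
      (∀ v, e (if i = 0 then v⁻¹ else v) = e' v) →
      ∀ v, A.n (a * sI φ i) * TU hφ hK v * (A.n (a * sI φ i))⁻¹ = TU hφ hK (e' v) := by
    intro a i e e' ha he v
    obtain ⟨h, hh, eh⟩ := A.n_mul a (sI φ i)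
    rw [show A.n (a * sI φ i) = h⁻¹ * (A.n a * A.n (sI φ i)) by rw [eh, inv_mul_cancel_left]]
    calc h⁻¹ * (A.n a * A.n (sI φ i)) * TU hφ hK v * (h⁻¹ * (A.n a * A.n (sI φ i)))⁻¹
        = h⁻¹ * (A.n a * (A.n (sI φ i) * TU hφ hK v * (A.n (sI φ i))⁻¹) * (A.n a)⁻¹) * h := by group
      _ = _ := by
        rw [n_conj_TU_gen, ha, he, H_comm hφ hK _ (inv_mem hh) _ (TU_mem hφ hK _),
          inv_mul_cancel_right]
  have h1 : ∀ v, A.n (sI φ 0) * TU hφ hK v * (A.n (sI φ 0))⁻¹ = TU hφ hK v⁻¹ := fun v => by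
    rw [n_conj_TU_gen, if_pos rfl]
  have h2 := step (sI φ 0) 1 (fun v => v⁻¹) (fun v => v⁻¹) h1 fun v => by simp
  have h3 := step _ 0 (fun v => v⁻¹) id h2 fun v => by simp
  have h4 := step _ 1 id id h3 fun v => by simp
  have h5 := step _ 0 id (fun v => v⁻¹) h4 fun v => by simp
  have h6 := step _ 1 (fun v => v⁻¹) (fun v => v⁻¹) h5 fun v => by simp
  rw [w0_prod hφ hK]
  exact h6 u

theorem n0_sq_comm (u : Kˣ) (M : Matrix.SpecialLinearGroup (Fin 2) (kq φ)) (hM : ∀ v,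
    Commute (TU hφ hK v) (fL hφ hK M)) :
    Commute ((Ad hφ hK).n (model hφ hK).w0 * (Ad hφ hK).n (model hφ hK).w0)
      (fL hφ hK M * TU hφ hK u) := by
  haveI := finiteGD hφ hK
  obtain ⟨v, hv⟩ := H_eq hφ hK (ctx hφ hK).w₀_mul_self
  rw [hv]
  exact (hM v).mul_right (by show _ = _; rw [TU_mul, TU_mul, mul_comm])

theorem kq_add_self (s : kq φ) : s + s = 0 := Subtype.ext (CharTwo.add_self_eq_zero (s : K))

theorem n0_conj_up : (Ad hφ hK).n (model hφ hK).w0 * fL hφ hK (upMat 1) *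
    ((Ad hφ hK).n (model hφ hK).w0)⁻¹ = fL hφ hK (lowMat 1) := by
  haveI := finiteGD hφ hK
  have hC := ctx hφ hK
  obtain ⟨e, he, ee⟩ := hC.conj_w₀_Uw (sI_mem hφ hK 1) (fL_up_mem hφ hK 1)
  obtain ⟨r, er⟩ := (long_cases hφ hK he).2
  rw [er] at ee
  rcases kq_cases hφ r with rfl | rfl
  · exfalso
    rw [H87.lowMat_zero, map_one, conj_eq_one_iff] at ee
    have h := congrArg (lift (model hφ hK)) ee
    rw [fL_up] at h
    exact one_ne_zero (xG_inj (QD K) (show 14 < chevD4.nroots by decide)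
      (h.trans ((map_one (liftHom (model hφ hK))).trans ((QD K).sys.x_zero' (by decide)).symm)))
  · exact ee

/-- The elements of order three. -/
def rho (φ : K →+* K) (b : Bool) : Matrix.SpecialLinearGroup (Fin 2) (kq φ) :=
  if b then upMat 1 * lowMat 1 else lowMat 1 * upMat 1

theorem up_sq : fL hφ hK (upMat 1) * fL hφ hK (upMat 1) = 1 := by
  rw [← map_mul, show upMat (1 : kq φ) * upMat 1 = 1 from H87.sl2_ext (by
    rw [Matrix.SpecialLinearGroup.coe_mul, H87.upMat_coe, Matrix.SpecialLinearGroup.coe_one,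
      Matrix.one_fin_two]; simp [Matrix.mul_fin_two, kq_add_self]), map_one]

theorem low_sq : fL hφ hK (lowMat 1) * fL hφ hK (lowMat 1) = 1 := by
  rw [← map_mul, show lowMat (1 : kq φ) * lowMat 1 = 1 from H87.sl2_ext (by
    rw [Matrix.SpecialLinearGroup.coe_mul, H87.lowMat_coe, Matrix.SpecialLinearGroup.coe_one,
      Matrix.one_fin_two]; simp [Matrix.mul_fin_two, kq_add_self]), map_one]

theorem rho_sq (b : Bool) : rho φ b * rho φ b = rho φ !b := by
  cases b <;> refine H87.sl2_ext ?_ <;>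
    simp [rho, H87.upMat_coe, H87.lowMat_coe, Matrix.mul_fin_two, kq_add_self (φ := φ) 1]

theorem rho_mul_not (b : Bool) : rho φ b * rho φ (!b) = 1 := by
  cases b <;> refine H87.sl2_ext ?_ <;>
    simp [rho, H87.upMat_coe, H87.lowMat_coe, Matrix.mul_fin_two, Matrix.one_fin_two,
      kq_add_self (φ := φ) 1]

theorem TU_comm_rho (u : Kˣ) (b : Bool) : Commute (TU hφ hK u) (fL hφ hK (rho φ b)) := by
  obtain ⟨h1, h2⟩ := TU_comm_fL hφ hK u 1
  cases b <;> simp only [rho, map_mul, if_true, if_false, Bool.false_eq_true]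
  · exact h2.mul_right h1
  · exact h1.mul_right h2

/-- The standard elements. -/
noncomputable def el21 (b : Bool) (u : Kˣ) : GD hφ hK := fL hφ hK (rho φ b) * TU hφ hK u

theorem el21_mul (b c : Bool) (u v : Kˣ) :
    el21 hφ hK b u * el21 hφ hK c v = fL hφ hK (rho φ b * rho φ c) * TU hφ hK (u * v) := by
  rw [el21, el21, map_mul, ← TU_mul]
  calc fL hφ hK (rho φ b) * TU hφ hK u * (fL hφ hK (rho φ c) * TU hφ hK v)
      = fL hφ hK (rho φ b) * (TU hφ hK u * fL hφ hK (rho φ c)) * TU hφ hK v := by group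
    _ = _ := by rw [(TU_comm_rho hφ hK u c).eq]; group

theorem el21_n0 (b : Bool) (u : Kˣ) :
    (Ad hφ hK).n (model hφ hK).w0 * el21 hφ hK b u * ((Ad hφ hK).n (model hφ hK).w0)⁻¹ =
      el21 hφ hK (!b) u⁻¹ := by
  haveI := finiteGD hφ hK
  set n₀ := (Ad hφ hK).n (model hφ hK).w0
  have hu := n0_conj_up hφ hK
  have hl : n₀ * fL hφ hK (lowMat 1) * n₀⁻¹ = fL hφ hK (upMat 1) := by
    obtain ⟨v, hv⟩ := H_eq hφ hK (ctx hφ hK).w₀_mul_self
    rw [← hu, show n₀ * (n₀ * fL hφ hK (upMat 1) * n₀⁻¹) * n₀⁻¹ =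
      n₀ * n₀ * fL hφ hK (upMat 1) * (n₀ * n₀)⁻¹ by group, hv, (TU_comm_fL hφ hK v 1).1.eq,
      mul_inv_cancel_right]
  rw [el21, el21, ← n0_conj_TU]
  cases b <;> simp only [rho, map_mul, if_true, if_false, Bool.false_eq_true, Bool.not_false,
    Bool.not_true]
  · rw [show n₀ * (fL hφ hK (lowMat 1) * fL hφ hK (upMat 1) * TU hφ hK u) * n₀⁻¹ =
      (n₀ * fL hφ hK (lowMat 1) * n₀⁻¹) * (n₀ * fL hφ hK (upMat 1) * n₀⁻¹) *
        (n₀ * TU hφ hK u * n₀⁻¹) by group, hu, hl]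
  · rw [show n₀ * (fL hφ hK (upMat 1) * fL hφ hK (lowMat 1) * TU hφ hK u) * n₀⁻¹ =
      (n₀ * fL hφ hK (upMat 1) * n₀⁻¹) * (n₀ * fL hφ hK (lowMat 1) * n₀⁻¹) *
        (n₀ * TU hφ hK u * n₀⁻¹) by group, hu, hl]

theorem el21_up (b : Bool) (u : Kˣ) :
    fL hφ hK (upMat 1) * el21 hφ hK b u * (fL hφ hK (upMat 1))⁻¹ = el21 hφ hK (!b) u := by
  have hu := up_sq hφ hK
  have hi : (fL hφ hK (upMat 1))⁻¹ = fL hφ hK (upMat 1) := inv_eq_of_mul_eq_one_right hu
  rw [el21, el21, hi, mul_assoc, mul_assoc, (TU_comm_fL hφ hK u 1).1.eq]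
  cases b <;> simp only [rho, map_mul, if_true, if_false, Bool.false_eq_true, Bool.not_false,
    Bool.not_true]
  · simp only [← mul_assoc]
    rw [mul_assoc _ (fL hφ hK (upMat 1)) (fL hφ hK (upMat 1)), hu, mul_one]
  · simp only [← mul_assoc]
    rw [hu, one_mul]

include hK in
theorem unit_cube_ne {u : Kˣ} (hu : u ≠ 1) : u ^ 3 ≠ 1 := fun h => hu (by
  calc u = u ^ 7 * ((u ^ 3) ^ 2)⁻¹ := by group
    _ = 1 := by rw [h, unit_pow7 hK]; simp)

theorem rad_long_mem {d : GD hφ hK} (hd : d ∈ rad (Ad hφ hK) (sI φ 1)) :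
    lift (model hφ hK) d ∈ XS (QD K).sys.x {r | r ∈ signL 0 ∧ r ≠ R 0 (l₀ 0)} :=
  XS_mono (fun r hr => by
    obtain ⟨h1, h2, h3⟩ := keep_roots (K := K) (Finset.mem_coe.1 hr)
    exact keep_long r h1 h2 fun h => h3 (by simp [h, orbL])) (lift_rad hφ hK hd)

theorem pair_ok : pairOk 22 14 (some 23) ∧ pairOk 23 14 none ∧ pairOk 22 9 none ∧
    pairOk 23 9 (some 22) ∧ pairOk 22 23 none ∧ R 0 0 = 22 ∧ C 0 = 23 := by decide +kernel

theorem two_long_mem {g : ↥(chevD4.group K)}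
    (hg : g ∈ XS (QD K).sys.x ({22, 23} : Set ℕ)) : ∃ a b, g = xe 22 a * xe 23 b := by
  obtain ⟨-, -, -, -, h5, -⟩ := pair_ok
  induction hg using Subgroup.closure_induction with
  | mem z hz =>
    obtain ⟨r, hr, t, rfl⟩ := hz
    simp only [Set.mem_insert_iff, Set.mem_singleton_iff] at hr
    rcases hr with rfl | rfl
    · exact ⟨t, 0, by rw [xe_zero (show 23 < chevD4.nroots by decide), mul_one]; rfl⟩
    · exact ⟨0, t, by rw [xe_zero (show 22 < chevD4.nroots by decide), one_mul]; rfl⟩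
  | one =>
    exact ⟨0, 0, by rw [xe_zero (show 22 < chevD4.nroots by decide),
      xe_zero (show 23 < chevD4.nroots by decide), one_mul]⟩
  | mul x y _ _ ihx ihy =>
    obtain ⟨a, b, rfl⟩ := ihx
    obtain ⟨a', b', rfl⟩ := ihy
    refine ⟨a + a', b + b', ?_⟩
    rw [xe_add (show 22 < chevD4.nroots by decide), xe_add (show 23 < chevD4.nroots by decide),
      mul_assoc, ← mul_assoc (xe 23 b), ← (pairOk_none h5 a' b).eq]
    group
  | inv x _ ihx =>
    obtain ⟨a, b, rfl⟩ := ihx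
    refine ⟨a, b, ?_⟩
    rw [mul_inv_rev, xe_inv (show 22 < chevD4.nroots by decide),
      xe_inv (show 23 < chevD4.nroots by decide), (pairOk_none h5 a b).eq]

theorem two_long_inj {a b a' b' : K} (h : xe 22 a * xe 23 b = xe 22 a' * xe 23 b') :
    a = a' ∧ b = b' := by
  have key : ∀ a b : K, W 0 (xe (R 0 0) a * xe (C 0) b) 0 = a := fun a b => by
    rw [W_mul (gen_R 0 0 0 a).1 (gen_C 0 0 b).1, (gen_R 0 0 0 a).2, (gen_C 0 0 b).2, if_pos rfl,
      add_zero]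
  obtain ⟨-, -, -, -, -, hR, hC'⟩ := pair_ok
  have ha : a = a' := by
    rw [← key a b, ← key a' b', hR, hC', h]
  subst ha
  exact ⟨rfl, xG_inj (QD K) (show 23 < chevD4.nroots by decide) (mul_left_cancel h)⟩

theorem fpf_first (b : Bool) {u : Kˣ} (hu : u ≠ 1) {d : GD hφ hK}
    (hd : d ∈ rad (Ad hφ hK) (sI φ 1))
    (hfix : el21 hφ hK b u * d * (el21 hφ hK b u)⁻¹ = d) : d = 1 := by
  have hc : Commute (el21 hφ hK b u) d := mul_inv_eq_iff_eq_mul.1 hfix
  have hρ3 : fL hφ hK (rho φ b) ^ 3 = 1 := by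
    rw [← map_pow, pow_succ, pow_two, rho_sq,
      show rho φ (!b) * rho φ b = 1 by simpa using rho_mul_not (φ := φ) (!b), map_one]
  have hpow : el21 hφ hK b u ^ 3 = TU hφ hK (u ^ 3) := by
    rw [el21, (TU_comm_rho hφ hK u b).symm.mul_pow, hρ3, TU_pow, one_mul]
  obtain ⟨f1, -⟩ := rad_fixed hφ hK (i := 1) {22, 23} (par 2 (u ^ 3) 1) (fun r h12 h24 hr hZ => by
    have h24' : r < 24 := h24
    have hm : r ∉ [14, 22, 23, 9, 1, 0] ∧ 23 - r ∉ [14, 22, 23, 9, 1, 0] := by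
      have h14 : r ≠ 14 := fun h => hr (by simp [h, orbL])
      simp only [Set.mem_insert_iff, Set.mem_singleton_iff] at hZ
      simp only [List.mem_cons, List.not_mem_nil, or_false]
      omega
    have key : ∀ s, s < 24 → s ∉ [14, 22, 23, 9, 1, 0] → chT (par 2 (u ^ 3) 1) s ≠ 1 := by
      intro s hs hsm h
      rw [chT_TU hK] at h
      refine short_chars s hs hsm ?_
      have ho : orderOf (u ^ 3) = 7 :=
        haveI := Fact.mk (by norm_num : Nat.Prime 7)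
        orderOf_eq_prime (unit_pow7 hK _) (unit_cube_ne hK hu)
      have := orderOf_dvd_iff_zpow_eq_one.2 h
      rwa [ho] at this
    exact ⟨key r h24' hm.1, key _ (by omega) hm.2⟩) hd (lift_TU hφ hK _)
  obtain ⟨a, c, hl⟩ := two_long_mem (f1 (by
    rw [← hpow, (hc.pow_left 3).eq, mul_inv_cancel_right]))
  set T := lift (model hφ hK) (TU hφ hK u)
  set P := xe 14 (1 : K)
  set N := xe 9 (1 : K)
  have hT : Commute T (xe 22 a * xe 23 c) :=
    (TU_comm_xe hφ hK u (by simp) a).mul_right (TU_comm_xe hφ hK u (by simp) c)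
  obtain ⟨p1, p2, p3, p4, p5, -⟩ := pair_ok
  have hP : ∀ a c : K, P * (xe 22 a * xe 23 c) = xe 22 a * xe 23 (a + c) * P := fun a c => by
    have e := pairOk_some p1 a (1 : K)
    rw [mul_one] at e
    rw [← mul_assoc, e, mul_assoc _ (xe 23 a), ← xe_add (show 23 < chevD4.nroots by decide),
      mul_assoc, (pairOk_none p2 _ _).symm.eq, ← mul_assoc]
  have hN : ∀ a c : K, N * (xe 22 a * xe 23 c) = xe 22 (a + c) * xe 23 c * N := fun a c => by
    have e := pairOk_some p4 c (1 : K)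
    rw [mul_one] at e
    rw [← mul_assoc, ← (pairOk_none p3 a (1 : K)).eq, mul_assoc, e, mul_assoc (xe 23 c) N,
      ← (pairOk_none p3 c (1 : K)).eq, ← mul_assoc, ← mul_assoc, mul_assoc (xe 22 a),
      ← (pairOk_none p5 c c).eq, ← mul_assoc, ← xe_add (show 22 < chevD4.nroots by decide)]
  have e1 : lift (model hφ hK) (fL hφ hK (rho φ b)) * (xe 22 a * xe 23 c) =
      xe 22 a * xe 23 c * lift (model hφ hK) (fL hφ hK (rho φ b)) := by
    have e := congrArg (lift (model hφ hK)) hc.eq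
    simp only [el21, lift_mul, hl] at e
    refine mul_right_cancel (b := T) ?_
    rw [mul_assoc _ _ T, ← hT.eq, ← mul_assoc, e]
    group; rfl
  cases b
  · simp only [rho, if_false, Bool.false_eq_true, map_mul, lift_mul, fL_up, fL_low] at e1
    change N * P * _ = _ * (N * P) at e1
    rw [mul_assoc, hP, ← mul_assoc, hN, mul_assoc] at e1
    obtain ⟨h1, h2⟩ := two_long_inj (mul_right_cancel e1)
    have h4 : a = 0 := by linear_combination h2
    have h3 : c = 0 := by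
      subst h4
      linear_combination h1
    subst h4 h3
    refine lift_injective _ (hl.trans ?_)
    rw [xe_zero (show 22 < chevD4.nroots by decide), xe_zero (show 23 < chevD4.nroots by decide),
      one_mul]
    exact (map_one (liftHom (model hφ hK))).symm
  · simp only [rho, if_true, map_mul, lift_mul, fL_up, fL_low] at e1
    change P * N * _ = _ * (P * N) at e1
    rw [mul_assoc, hN, ← mul_assoc, hP, mul_assoc] at e1
    obtain ⟨h1, h2⟩ := two_long_inj (mul_right_cancel e1)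
    have h3 : c = 0 := by linear_combination h1
    have h4 : a = 0 := by
      subst h3
      linear_combination h2
    subst h4 h3
    refine lift_injective _ (hl.trans ?_)
    rw [xe_zero (show 22 < chevD4.nroots by decide), xe_zero (show 23 < chevD4.nroots by decide),
      one_mul]
    exact (map_one (liftHom (model hφ hK))).symm

theorem el21_mem (b : Bool) (u : Kˣ) : el21 hφ hK b u ∈ Lg (Ad hφ hK) (sI φ 1) := by
  have hu : fL hφ hK (upMat 1) ∈ Lg (Ad hφ hK) (sI φ 1) := Uw_le_Lg _ (fL_up_mem hφ hK 1)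
  have hl : fL hφ hK (lowMat 1) ∈ Lg (Ad hφ hK) (sI φ 1) := by
    obtain ⟨e, he, ee⟩ := fL_opp hφ hK 1
    rw [ee]
    exact mul_mem (mul_mem (n_mem_Lg _) (Uw_le_Lg _ he)) (inv_mem (n_mem_Lg _))
  refine mul_mem ?_ (H_le_Lg _ (TU_mem hφ hK u))
  cases b <;> simp only [rho, map_mul, if_true, if_false, Bool.false_eq_true]
  · exact mul_mem hl hu
  · exact mul_mem hu hl

theorem fpf_el21 (b : Bool) {u : Kˣ} (hu : u ≠ 1) :
    Fpf (Ad hφ hK) (sI φ 1) (model hφ hK).w0 (el21 hφ hK b u) := by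
  refine ⟨el21_mem hφ hK b u, fun d hd => ⟨fpf_first hφ hK b hu hd, fun e => ?_⟩⟩
  set n₀ := (Ad hφ hK).n (model hφ hK).w0
  set y := el21 hφ hK b u
  refine fpf_first hφ hK (!b) (inv_ne_one.2 hu) hd ?_
  rw [← el21_n0]
  have hsq := n0_sq_comm hφ hK u (rho φ b) (fun v => TU_comm_rho hφ hK v b)
  have hsq' : Commute (n₀ * n₀) y := hsq
  have hy : n₀ * y * n₀⁻¹ = n₀⁻¹ * y * n₀ := by
    calc n₀ * y * n₀⁻¹ = n₀⁻¹ * (n₀ * n₀ * y) * n₀⁻¹ := by group
      _ = n₀⁻¹ * (y * (n₀ * n₀)) * n₀⁻¹ := by rw [hsq'.eq]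
      _ = _ := by group
  rw [hy]
  calc n₀⁻¹ * y * n₀ * d * (n₀⁻¹ * y * n₀)⁻¹ = n₀⁻¹ * (y * (n₀ * d * n₀⁻¹) * y⁻¹) * n₀ := by group
    _ = d := by rw [e]; group

/-- A product of two conjugates. -/
def Two (x g : GD hφ hK) : Prop :=
  ∃ a b, Fpf (Ad hφ hK) (sI φ 1) (model hφ hK).w0 (a * x * a⁻¹) ∧
    Fpf (Ad hφ hK) (sI φ 1) (model hφ hK).w0 (b * x * b⁻¹) ∧
    g = a * x * a⁻¹ * (b * x * b⁻¹)

theorem levi_two {μ : Kˣ} (hμ : μ ≠ 1) {lam : Kˣ}
    (hlam : lam = 1 ∨ lam = μ * μ ∨ lam = μ⁻¹ * μ⁻¹) (s : kq φ) :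
    Two hφ hK (el21 hφ hK true μ) (fL hφ hK (lowMat s) * TU hφ hK lam * fL hφ hK (upMat s)) := by
  set x := el21 hφ hK true μ
  set τ := fL hφ hK (upMat 1)
  set n₀ := (Ad hφ hK).n (model hφ hK).w0
  have hμi : μ⁻¹ ≠ 1 := inv_ne_one.2 hμ
  have f1 := fpf_el21 hφ hK true hμ
  have f2 := fpf_el21 hφ hK false hμ
  have f3 := fpf_el21 hφ hK false hμi
  have f4 := fpf_el21 hφ hK true hμi
  have c1 : (1 : GD hφ hK) * x * 1⁻¹ = el21 hφ hK true μ := by rw [one_mul, inv_one, mul_one]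
  have c2 : τ * x * τ⁻¹ = el21 hφ hK false μ := el21_up hφ hK true μ
  have c3 : n₀ * x * n₀⁻¹ = el21 hφ hK false μ⁻¹ := el21_n0 hφ hK true μ
  have c4 : τ * n₀ * x * (τ * n₀)⁻¹ = el21 hφ hK true μ⁻¹ := by
    rw [show τ * n₀ * x * (τ * n₀)⁻¹ = τ * (n₀ * x * n₀⁻¹) * τ⁻¹ by group, c3]
    exact el21_up hφ hK false μ⁻¹
  rcases kq_cases hφ s with rfl | rfl
  · rw [H87.lowMat_zero, H87.upMat_zero, map_one, one_mul, mul_one]
    rcases hlam with rfl | rfl | rfl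
    · refine ⟨1, n₀, c1 ▸ f1, c3 ▸ f3, ?_⟩
      rw [c1, c3, el21_mul, show rho φ true * rho φ false = 1 from rho_mul_not true, map_one,
        one_mul, mul_inv_cancel]
    · refine ⟨1, τ, c1 ▸ f1, c2 ▸ f2, ?_⟩
      rw [c1, c2, el21_mul, show rho φ true * rho φ false = 1 from rho_mul_not true, map_one,
        one_mul]
    · refine ⟨τ * n₀, n₀, c4 ▸ f4, c3 ▸ f3, ?_⟩
      rw [c4, c3, el21_mul, show rho φ true * rho φ false = 1 from rho_mul_not true, map_one,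
        one_mul]
  · rw [show fL hφ hK (lowMat 1) * TU hφ hK lam * fL hφ hK (upMat 1) =
        fL hφ hK (rho φ true * rho φ true) * TU hφ hK lam by
      rw [mul_assoc, (TU_comm_fL hφ hK lam 1).1.eq, ← mul_assoc, ← map_mul, rho_sq]; rfl]
    rcases hlam with rfl | rfl | rfl
    · refine ⟨1, τ * n₀, c1 ▸ f1, c4 ▸ f4, ?_⟩
      rw [c1, c4, el21_mul, mul_inv_cancel]
    · refine ⟨1, 1, c1 ▸ f1, c1 ▸ f1, ?_⟩
      rw [c1, el21_mul]
    · refine ⟨τ * n₀, τ * n₀, c4 ▸ f4, c4 ▸ f4, ?_⟩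
      rw [c4, el21_mul]

end Cfsg.Agent.H84.Gauss.D4Two
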