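import Mathlib

/-!
Two by two matrices as products of two conjugates of prescribed split regular diagonal matrices.
-/

set_option autoImplicit false

namespace Cfsg.Agent.H84.Gauss

open Matrix

variable {k : Type*} [Field k]

/-- A matrix is similar to its companion matrix unless it is scalar. -/
theorem exists_cyclic (M : Matrix (Fin 2) (Fin 2) k)
    (hM : ∀ c : k, M ≠ !![c, 0; 0, c]) :
    ∃ Q : Matrix (Fin 2) (Fin 2) k, Q.det ≠ 0 ∧ M * Q = Q * !![0, -M.det; 1, M.trace] := by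
  obtain ⟨a, b, c, d, rfl⟩ : ∃ a b c d, M = !![a, b; c, d] := ⟨_, _, _, _, Matrix.eta_fin_two M⟩
  rw [Matrix.det_fin_two_of, Matrix.trace_fin_two_of]
  by_cases hc : c = 0
  · subst hc
    by_cases hb : b = 0
    · subst hb
      refine ⟨!![1, a; 1, d], ?_, ?_⟩
      swap
      · ext i j; fin_cases i <;> fin_cases j <;> simp [Matrix.mul_apply, Fin.sum_univ_two] <;> ring
      rw [Matrix.det_fin_two_of, one_mul, mul_one]
      intro h
      exact hM d (by rw [sub_eq_zero.1 h])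
    · refine ⟨!![0, b; 1, d], ?_, ?_⟩
      swap
      · ext i j; fin_cases i <;> fin_cases j <;> simp [Matrix.mul_apply, Fin.sum_univ_two] <;> ring
      rw [Matrix.det_fin_two_of]
      simpa using hb
  · refine ⟨!![1, a; 0, c], ?_, ?_⟩
    swap
    · ext i j; fin_cases i <;> fin_cases j <;> simp [Matrix.mul_apply, Fin.sum_univ_two] <;> ring
    rw [Matrix.det_fin_two_of]
    simpa using hc

/-- Conjugators may be taken of determinant one. -/
theorem exists_sl_conj {X P : Matrix (Fin 2) (Fin 2) k} {a b : k} (hP : P.det ≠ 0)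
    (h : X * P = P * !![a, 0; 0, b]) :
    ∃ S : SpecialLinearGroup (Fin 2) k,
      X = (S : Matrix (Fin 2) (Fin 2) k) * !![a, 0; 0, b] * ((S⁻¹ : SpecialLinearGroup (Fin 2) k) : Matrix (Fin 2) (Fin 2) k) := by
  set E : Matrix (Fin 2) (Fin 2) k := !![1, 0; 0, P.det⁻¹]
  have hd : (P * E).det = 1 := by
    rw [Matrix.det_mul, Matrix.det_fin_two_of, one_mul, mul_zero, sub_zero, mul_inv_cancel₀ hP]
  obtain ⟨S, hSv⟩ : ∃ S : SpecialLinearGroup (Fin 2) k, (S : Matrix (Fin 2) (Fin 2) k) = P * E :=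
    ⟨⟨P * E, hd⟩, rfl⟩
  refine ⟨S, ?_⟩
  have h2 : X * (P * E) = P * E * !![a, 0; 0, b] := by
    rw [← mul_assoc, h, mul_assoc, mul_assoc]
    congr 1
    simp [E, Matrix.mul_fin_two, mul_comm]
  have hSS : (S : Matrix (Fin 2) (Fin 2) k) *
      ((S⁻¹ : SpecialLinearGroup (Fin 2) k) : Matrix (Fin 2) (Fin 2) k) = 1 :=
    congrArg Subtype.val (mul_inv_cancel S)
  have h3 : X = X * (P * E) * ((S⁻¹ : SpecialLinearGroup (Fin 2) k) : Matrix (Fin 2) (Fin 2) k) := by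
    rw [mul_assoc, ← hSv, hSS, mul_one]
  rw [h2] at h3
  rw [hSv]
  exact h3

/-- Products of two conjugates of regular diagonal matrices. -/
theorem mat_prod {M : Matrix (Fin 2) (Fin 2) k} {a b a' b' : k} (ha : a ≠ 0) (hb : b ≠ 0)
    (ha' : a' ≠ 0) (hab : a ≠ b) (hab' : a' ≠ b') (hdet : M.det = a * b * (a' * b'))
    (hsc : ∀ c : k, M = !![c, 0; 0, c] → c = a * a' ∧ c = b * b' ∨ c = a * b' ∧ c = b * a') :
    ∃ S R : SpecialLinearGroup (Fin 2) k,
      M = (S : Matrix (Fin 2) (Fin 2) k) * !![a, 0; 0, b] * ((S⁻¹ : SpecialLinearGroup (Fin 2) k) : Matrix (Fin 2) (Fin 2) k) *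
        ((R : Matrix (Fin 2) (Fin 2) k) * !![a', 0; 0, b'] *
          ((R⁻¹ : SpecialLinearGroup (Fin 2) k) : Matrix (Fin 2) (Fin 2) k)) := by
  by_cases hs : ∃ c : k, M = !![c, 0; 0, c]
  · obtain ⟨c, rfl⟩ := hs
    rcases hsc c rfl with ⟨h1, h2⟩ | ⟨h1, h2⟩
    · refine ⟨1, 1, ?_⟩
      simp [Matrix.mul_fin_two, ← h1, ← h2]
    · obtain ⟨R, hR⟩ := exists_sl_conj (X := !![b', 0; 0, a']) (P := !![0, 1; 1, 0]) (a := a')
        (b := b') (by simp [Matrix.det_fin_two_of]) (by simp [Matrix.mul_fin_two])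
      refine ⟨1, R, ?_⟩
      rw [← hR]
      simp [Matrix.mul_fin_two, ← h1, ← h2]
  push Not at hs
  obtain ⟨Q, hQ, hMQ⟩ := exists_cyclic M hs
  rw [hdet] at hMQ
  set δ := a * b * (a' * b')
  set c := M.trace
  set β : k := -(a * b * a') with hβ
  have hβ0 : β ≠ 0 := neg_ne_zero.2 (mul_ne_zero (mul_ne_zero ha hb) ha')
  set e : k := a' * c - (a + b) * a' * b' with he
  set Xc : Matrix (Fin 2) (Fin 2) k := !![0, β; a'⁻¹, a + b]
  set Yc : Matrix (Fin 2) (Fin 2) k := !![a', e; 0, b']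
  have hC : Xc * Yc = !![0, -δ; 1, c] := by
    simp only [Xc, Yc, Matrix.mul_fin_two]
    ext i j
    fin_cases i <;> fin_cases j <;> simp [inv_mul_cancel₀ ha', hβ, δ]
    · ring
    · rw [he]; field_simp; ring
  have hXP : Xc * !![β, β; a, b] = !![β, β; a, b] * !![a, 0; 0, b] := by
    simp only [Xc, Matrix.mul_fin_two]
    ext i j
    fin_cases i <;> fin_cases j <;> simp [hβ] <;> field_simp <;> ring
  have hYR : Yc * !![1, e; 0, b' - a'] = !![1, e; 0, b' - a'] * !![a', 0; 0, b'] := by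
    simp only [Yc, Matrix.mul_fin_two]
    ext i j
    fin_cases i <;> fin_cases j <;> simp <;> ring
  have hQu : IsUnit Q.det := isUnit_iff_ne_zero.2 hQ
  have hQQ : Q⁻¹ * Q = 1 := Matrix.nonsing_inv_mul Q hQu
  have hMeq : M = (Q * Xc * Q⁻¹) * (Q * Yc * Q⁻¹) := by
    calc M = M * Q * Q⁻¹ := by rw [mul_assoc, Matrix.mul_nonsing_inv Q hQu, mul_one]
      _ = Q * Xc * (Q⁻¹ * Q) * Yc * Q⁻¹ := by rw [hMQ, ← hC, hQQ, mul_one]; noncomm_ring
      _ = _ := by noncomm_ring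
  have conjP : ∀ (X P D : Matrix (Fin 2) (Fin 2) k), X * P = P * D →
      Q * X * Q⁻¹ * (Q * P) = Q * P * D := fun X P D h => by
    calc Q * X * Q⁻¹ * (Q * P) = Q * X * (Q⁻¹ * Q) * P := by noncomm_ring
      _ = Q * (X * P) := by rw [hQQ]; noncomm_ring
      _ = _ := by rw [h]; noncomm_ring
  obtain ⟨S, hS⟩ := exists_sl_conj (by
    rw [Matrix.det_mul, Matrix.det_fin_two_of]
    refine mul_ne_zero hQ ?_
    rw [← mul_sub]
    exact mul_ne_zero hβ0 (sub_ne_zero.2 (Ne.symm hab))) (conjP _ _ _ hXP)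
  obtain ⟨R, hR⟩ := exists_sl_conj (by
    rw [Matrix.det_mul, Matrix.det_fin_two_of]
    refine mul_ne_zero hQ ?_
    simpa [sub_ne_zero] using Ne.symm hab') (conjP _ _ _ hYR)
  exact ⟨S, R, by rw [← hS, ← hR]; exact hMeq⟩

end Cfsg.Agent.H84.Gauss
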