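import Cfsg.Agent.H84.Gauss.D4TwoField
import Cfsg.Agent.H84.Gauss.D4TwoA2
import Cfsg.Agent.H84.Gauss.D4TwoTorus
import Cfsg.Agent.H84.Gauss.MatTwo

/-!
Every nontrivial element of `³D₄(2)` is a product of two conjugates of one element of order twenty
one.
-/

set_option autoImplicit false
set_option maxRecDepth 100000
set_option linter.unusedSectionVars false

namespace Cfsg.Agent.H84.Gauss.D4Two

open Cfsg.Lie Cfsg.Agent.H37 Cfsg.Agent.H37.RootSys Cfsg.Agent.H37.Twist Cfsg.Agent.H56.ChevAut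
open Cfsg.Agent.H56.TwAut Cfsg.Agent.H37.Twist.D4
open Cfsg.Agent.H13.Split Cfsg.Agent.H74.RootExt
open Cfsg.Agent.H87 (upMat lowMat)
open Cfsg.Agent.D4Cyclic (par)
open Cfsg.Agent.H84.Gauss.D4

theorem sign_zero : ∀ r ∈ signL 0, r < 24 ∧ 12 ≤ r ∧
    (r ≠ 14 → 23 - r ∈ signL 1 ∧ 23 - r ≠ 9) := by decide +kernel

theorem sign_one : ∀ r ∈ signL 1, r < 24 ∧ 23 - r ∈ signL 0 := by decide +kernel

theorem lay_sign : ∀ s : Fin 2, ∀ r ∈ layL s, r ∈ signL s ∧ r < 24 := by decide +kernel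

theorem ax_roots : ∀ i : Fin 3,
    Ax 0 i ∈ signL 0 ∧ Ax 0 i ≠ R 0 (l₀ 0) ∧ Ax 1 i ∈ signL 1 ∧ Ax 1 i ≠ R 1 (l₀ 1) := by
  decide +kernel

theorem named_roots : R 0 (0 : Fin 8) = 22 ∧ R 0 (7 : Fin 8) = 14 ∧ C 0 = 23 ∧
    R 1 (0 : Fin 8) = 9 ∧ R 1 (7 : Fin 8) = 1 ∧ C 1 = 0 ∧ l₀ 0 = 7 ∧ l₀ 1 = 0 := by decide +kernel

theorem mid_idx : ∀ l : Fin 8, l ≠ 0 → l ≠ 7 →
    (⟨l.val, by omega⟩ : Fin 16) ∉ ([0, 7, 8, 15] : List (Fin 16)) ∧
      (⟨l.val + 8, by omega⟩ : Fin 16) ∉ ([0, 7, 8, 15] : List (Fin 16)) := by decide +kernel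

theorem a2_facts : pairOk 14 23 none ∧ pairOk 22 23 none ∧ pairOk 22 14 (some 23) ∧
    pairOk 9 23 (some 22) ∧ pairOk 1 23 (some 14) ∧ pairOk 14 1 none ∧ pairOk 22 9 none ∧
    pairOk 0 14 (some 1) ∧ pairOk 0 22 (some 9) ∧ pairOk 9 0 none ∧ pairOk 1 0 none ∧
    pairOk 9 1 (some 0) := by decide +kernel

universe u

variable {K : Type u} [Field K] [Fintype K] [CharP K 2] {φ : K →+* K}
  (hφ : ∀ t, φ t = t ^ 2) (hK : Fintype.card K = 2 ^ 3)

theorem σ_lift (d : GD hφ hK) :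
    (endo φ).σ (lift (model hφ hK) d) = lift (model hφ hK) d :=
  ((model hφ hK).iso.symm d).2 |> fun e => by rwa [iso_symm_coe] at e

theorem H_conj_XS {S : Set ℕ} (hS : ∀ r ∈ S, r < chevD4.nroots) {h g : ↥(chevD4.group K)}
    (hh : h ∈ (QD K).sys.H) (hg : g ∈ XS (QD K).sys.x S) : h * g * h⁻¹ ∈ XS (QD K).sys.x S :=
  conj_mem_XS (fun r hr t => by
    obtain ⟨t', e⟩ := (QD K).sys.h_conj h hh r (hS r hr) t
    rw [e]
    exact x_mem_XS hr t') hg

theorem n0_conj_XS {S S' : Set ℕ} (hS : ∀ r ∈ S, r < 24 ∧ 23 - r ∈ S') {d : GD hφ hK}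
    (hd : lift (model hφ hK) d ∈ XS (QD K).sys.x S) :
    lift (model hφ hK) ((Ad hφ hK).n (model hφ hK).w0 * d * ((Ad hφ hK).n (model hφ hK).w0)⁻¹) ∈
      XS (QD K).sys.x S' := by
  obtain ⟨k, hk, ek⟩ := lift_n (model hφ hK) (model hφ hK).w0
  rw [Model.ι_w0] at ek
  rw [lift_mul, lift_mul, lift_inv, ek]
  refine conj_mem_XS (fun r hr t => ?_) hd
  obtain ⟨h1, h2⟩ := hS r hr
  have h1' : r < chevD4.nroots := h1
  obtain ⟨t', e⟩ := (QD K).sys.rep_conj (QD K).X.w0 r h1' t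
  rw [w0_val (K := K) h1'] at e
  obtain ⟨t'', e'⟩ := (QD K).sys.h_conj k hk (23 - r) (show 23 - r < 24 by omega) t'
  have : k * (QD K).sys.rep (QD K).X.w0 * (QD K).sys.x r t *
      (k * (QD K).sys.rep (QD K).X.w0)⁻¹ = (QD K).sys.x (23 - r) t'' := by
    rw [← e', ← e]; group
  exact this ▸ x_mem_XS h2 t''

theorem n0_conj_XS' {S S' : Set ℕ} (hS : ∀ r ∈ S, r < 24 ∧ 23 - r ∈ S')
    (hS' : ∀ r ∈ S', r < chevD4.nroots) {d : GD hφ hK}
    (hd : lift (model hφ hK) d ∈ XS (QD K).sys.x S) :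
    lift (model hφ hK) (((Ad hφ hK).n (model hφ hK).w0)⁻¹ * d * (Ad hφ hK).n (model hφ hK).w0) ∈
      XS (QD K).sys.x S' := by
  haveI := finiteGD hφ hK
  set n₀ := (Ad hφ hK).n (model hφ hK).w0
  obtain ⟨v, hv⟩ := H_eq hφ hK (inv_mem (ctx hφ hK).w₀_mul_self)
  rw [show n₀⁻¹ * d * n₀ = (n₀ * n₀)⁻¹ * (n₀ * d * n₀⁻¹) * ((n₀ * n₀)⁻¹)⁻¹ by group, hv, lift_mul,
    lift_mul, lift_inv]
  exact H_conj_XS hS' ((mem_H (model hφ hK)).1 (TU_mem hφ hK v)) (n0_conj_XS hφ hK hS hd)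

theorem fS_gen (t : K) : lift (model hφ hK) (fS hφ hK (upMat t)) = axW 0 t ∧
    lift (model hφ hK) (fS hφ hK (lowMat t)) = axW 1 t := by
  refine ⟨?_, ?_⟩
  · rw [fS_up_lift]; rfl
  · rw [fS_low_lift]; rfl

/-- The radical of the short root parabolic subgroup acted on by its rank one subgroup. -/
theorem stable (y : Matrix.SpecialLinearGroup (Fin 2) K) (s : Fin 2) {z : GD hφ hK}
    (hz : lift (model hφ hK) z ∈ Qs K s) :
    lift (model hφ hK) (fS hφ hK y * z * (fS hφ hK y)⁻¹) ∈ Qs K s ∧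
      W s (lift (model hφ hK) (fS hφ hK y * z * (fS hφ hK y)⁻¹)) =
        Tw (y : Matrix (Fin 2) (Fin 2) K) (W s (lift (model hφ hK) z)) := by
  suffices H : ∀ z : ↥(chevD4.group K), z ∈ Qs K s →
      (lift (model hφ hK) (fS hφ hK y) * z * (lift (model hφ hK) (fS hφ hK y))⁻¹ ∈ Qs K s ∧
        W s (lift (model hφ hK) (fS hφ hK y) * z * (lift (model hφ hK) (fS hφ hK y))⁻¹) =
          Tw (y : Matrix (Fin 2) (Fin 2) K) (W s z)) by
    rw [lift_mul, lift_mul, lift_inv]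
    exact H _ hz
  have gen : ∀ (d : Fin 2) (t : K) (g : GD hφ hK), lift (model hφ hK) g = axW d t →
      ∀ z ∈ Qs K s, lift (model hφ hK) g * z * (lift (model hφ hK) g)⁻¹ ∈ Qs K s ∧
        W s (lift (model hφ hK) g * z * (lift (model hφ hK) g)⁻¹) = Tw (axM d t) (W s z) :=
    fun d t g e z hz => by rw [e]; exact axW_conj s d t hz
  set P : Matrix.SpecialLinearGroup (Fin 2) K → Prop := fun y => ∀ z ∈ Qs K s,
    lift (model hφ hK) (fS hφ hK y) * z * (lift (model hφ hK) (fS hφ hK y))⁻¹ ∈ Qs K s ∧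
      W s (lift (model hφ hK) (fS hφ hK y) * z * (lift (model hφ hK) (fS hφ hK y))⁻¹) =
        Tw (y : Matrix (Fin 2) (Fin 2) K) (W s z) with hP
  have hmul : ∀ a b, P a → P b → P (a * b) := by
    intro a b ha hb z hz
    obtain ⟨h1, e1⟩ := hb z hz
    obtain ⟨h2, e2⟩ := ha _ h1
    rw [map_mul, lift_mul]
    set A := lift (model hφ hK) (fS hφ hK a)
    set B := lift (model hφ hK) (fS hφ hK b)
    rw [show A * B * z * (A * B)⁻¹ = A * (B * z * B⁻¹) * A⁻¹ by group]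
    exact ⟨h2, by rw [e2, e1, Matrix.SpecialLinearGroup.coe_mul, Tw_mul]⟩
  have hy : y ∈ Subgroup.closure (Set.range (upMat (k := K)) ∪ Set.range (lowMat (k := K))) := by
    rw [Chevalley.SL2Hom.closure_upMat_lowMat]; trivial
  have key : P y ∧ P y⁻¹ := by
    induction hy using Subgroup.closure_induction with
    | mem g hg =>
      rcases hg with ⟨t, rfl⟩ | ⟨t, rfl⟩
      · have hu : ∀ t, P (upMat t) := fun t z hz => by
          have := gen 0 t _ (fS_gen hφ hK t).1 z hz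
          rwa [show axM 0 t = (upMat t : Matrix (Fin 2) (Fin 2) K) by
            rw [H87.upMat_coe]; rfl] at this
        refine ⟨hu t, ?_⟩
        rw [show (upMat t)⁻¹ = upMat t from inv_eq_of_mul_eq_one_right (H87.sl2_ext (by
          rw [Matrix.SpecialLinearGroup.coe_mul, H87.upMat_coe, Matrix.SpecialLinearGroup.coe_one,
            Matrix.mul_fin_two]
          ext i j
          fin_cases i <;> fin_cases j <;> simp [CharTwo.add_self_eq_zero]))]
        exact hu t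
      · have hl : ∀ t, P (lowMat t) := fun t z hz => by
          have := gen 1 t _ (fS_gen hφ hK t).2 z hz
          rwa [show axM 1 t = (lowMat t : Matrix (Fin 2) (Fin 2) K) by
            rw [H87.lowMat_coe]; rfl] at this
        refine ⟨hl t, ?_⟩
        rw [show (lowMat t)⁻¹ = lowMat t from inv_eq_of_mul_eq_one_right (H87.sl2_ext (by
          rw [Matrix.SpecialLinearGroup.coe_mul, H87.lowMat_coe, Matrix.SpecialLinearGroup.coe_one,
            Matrix.mul_fin_two]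
          ext i j
          fin_cases i <;> fin_cases j <;> simp [CharTwo.add_self_eq_zero]))]
        exact hl t
    | one =>
      have h1 : P 1 := fun z hz => by
        rw [map_one, show lift (model hφ hK) (1 : GD hφ hK) = 1 from map_one (liftHom _),
          one_mul, inv_one, mul_one, Matrix.SpecialLinearGroup.coe_one, Tw_one]
        exact ⟨hz, rfl⟩
      exact ⟨h1, by rw [inv_one]; exact h1⟩
    | mul a b _ _ iha ihb => exact ⟨hmul a b iha.1 ihb.1, (mul_inv_rev a b).symm ▸ hmul _ _ ihb.2 iha.2⟩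
    | inv a _ iha => exact ⟨iha.2, (inv_inv a).symm ▸ iha.1⟩
  exact key.1

/-- The parity after conjugation. -/
noncomputable def Par (zn zp : GD hφ hK) (y : Matrix (Fin 2) (Fin 2) K) : K :=
  Tw y (W 0 (lift (model hφ hK) zp)) 7 + Tw y (W 1 (lift (model hφ hK) zn)) 0

theorem par_cases {zn zp : GD hφ hK} (hn : lift (model hφ hK) zn ∈ Qs K 1)
    (hp : lift (model hφ hK) zp ∈ Qs K 0) (y : Matrix.SpecialLinearGroup (Fin 2) K) :
    Par hφ hK zn zp (y : Matrix (Fin 2) (Fin 2) K) = 0 ∨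
      Par hφ hK zn zp (y : Matrix (Fin 2) (Fin 2) K) = 1 := by
  obtain ⟨h1, e1⟩ := stable hφ hK y 1 hn
  obtain ⟨h0, e0⟩ := stable hφ hK y 0 hp
  have a := W_fixed two_ne_zero hφ 0 (Or.inr rfl) (Qs_le 0 7 h0) (σ_lift hφ hK _)
  have b := W_fixed two_ne_zero hφ 1 (Or.inl rfl) (Qs_le 1 0 h1) (σ_lift hφ hK _)
  rw [e0] at a
  rw [e1] at b
  unfold Par
  set A := Tw (y : Matrix (Fin 2) (Fin 2) K) (W 0 (lift (model hφ hK) zp)) 7
  set B := Tw (y : Matrix (Fin 2) (Fin 2) K) (W 1 (lift (model hφ hK) zn)) 0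
  have h2 := CharTwo.two_eq_zero (R := K)
  rcases mul_eq_zero.1 (show (A + B) * (A + B - 1) = 0 by linear_combination a + b + A * B * h2)
    with h | h
  · exact Or.inl h
  · exact Or.inr (sub_eq_zero.1 h)

/-- A product of two conjugates of `x`. -/
def P2 {G : Type*} [Group G] (x g : G) : Prop := ∃ u v : G, g = u * x * u⁻¹ * (v * x * v⁻¹)

theorem P2.conj {G : Type*} [Group G] {x g : G} (c : G) (h : P2 x (c * g * c⁻¹)) : P2 x g := by
  obtain ⟨u, v, e⟩ := h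
  refine ⟨c⁻¹ * u, c⁻¹ * v, ?_⟩
  calc g = c⁻¹ * (c * g * c⁻¹) * c := by group
    _ = _ := by rw [e]; group

theorem sl2_gauss (M : Matrix.SpecialLinearGroup (Fin 2) K) (lam : Kˣ)
    (h : (M : Matrix (Fin 2) (Fin 2) K) 0 0 = lam) : ∃ a b : K, M = lowMat a * dm lam * upMat b := by
  refine ⟨(M : Matrix (Fin 2) (Fin 2) K) 1 0 / lam, (M : Matrix (Fin 2) (Fin 2) K) 0 1 / lam,
    H87.sl2_ext ?_⟩
  have hd : (M : Matrix (Fin 2) (Fin 2) K) 0 0 * (M : Matrix (Fin 2) (Fin 2) K) 1 1 -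
      (M : Matrix (Fin 2) (Fin 2) K) 0 1 * (M : Matrix (Fin 2) (Fin 2) K) 1 0 = 1 :=
    (Matrix.det_fin_two _).symm.trans M.2
  rw [h] at hd
  rw [Matrix.SpecialLinearGroup.coe_mul, Matrix.SpecialLinearGroup.coe_mul, H87.lowMat_coe,
    H87.upMat_coe, dm_coe, Matrix.mul_fin_two, Matrix.mul_fin_two]
  have h0 := lam.ne_zero
  ext i j
  fin_cases i <;> fin_cases j
  · simp [h]
  · simp [mul_div_cancel₀ _ h0]
  · simp [div_mul_cancel₀ _ h0]
  · simp
    field_simp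
    linear_combination hd

theorem finish {μ : Kˣ} (hμ : μ ≠ 1) {zn zp : GD hφ hK} {m : Matrix.SpecialLinearGroup (Fin 2) K}
    (hn : lift (model hφ hK) zn ∈ Qs K 1) (hp : lift (model hφ hK) zp ∈ Qs K 0)
    (y : Matrix.SpecialLinearGroup (Fin 2) K) {lam : Kˣ}
    (hlam : lam = 1 ∨ lam = μ * μ ∨ lam = μ⁻¹ * μ⁻¹)
    (h00 : ((y * m * y⁻¹ : Matrix.SpecialLinearGroup (Fin 2) K) : Matrix (Fin 2) (Fin 2) K) 0 0 = lam)
    (hpar : Par hφ hK zn zp (y : Matrix (Fin 2) (Fin 2) K) = 0) :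
    P2 (el21 hφ hK true μ) (zn * fS hφ hK m * zp) := by
  haveI := finiteGD hφ hK
  have hC := ctx hφ hK
  set A := Ad hφ hK
  set t := sI φ 1
  have ht : t ∈ A.S := sI_mem hφ hK 1
  set n₀ := A.n (model hφ hK).w0
  set F := fS hφ hK
  obtain ⟨a, b, eM⟩ := sl2_gauss _ lam h00
  obtain ⟨-, -, -, -, -, -, l7, l0'⟩ := named_roots
  -- the two sides
  set Bn := F y * zn * (F y)⁻¹ * F (lowMat a) with hBn
  set Bp := F (upMat b) * (F y * zp * (F y)⁻¹) with hBp
  refine P2.conj (F y) ?_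
  have eg : F y * (zn * F m * zp) * (F y)⁻¹ = Bn * TU hφ hK lam * Bp := by
    rw [hBn, hBp, show F y * (zn * F m * zp) * (F y)⁻¹ = F y * zn * (F y)⁻¹ *
      (F y * F m * (F y)⁻¹) * (F y * zp * (F y)⁻¹) by group, ← map_inv, ← map_mul, ← map_mul, eM,
      map_mul, map_mul, show TU hφ hK lam = F (dm lam) from rfl]
    group
  rw [eg]
  obtain ⟨hn', en⟩ := stable hφ hK y 1 hn
  obtain ⟨hp', ep⟩ := stable hφ hK y 0 hp
  have hax : ∀ (d : Fin 2) (t : K), axW d t ∈ XS (QD K).sys.x {r | r ∈ signL d ∧ r ≠ R d (l₀ d)} := by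
    intro d t
    have : ∀ i, Ax d i ∈ {r | r ∈ signL d ∧ r ≠ R d (l₀ d)} := fun i => by
      obtain ⟨h1, h2, h3, h4⟩ := ax_roots i
      rcases (show ∀ d : Fin 2, d = 0 ∨ d = 1 by decide) d with rfl | rfl
      exacts [⟨h1, h2⟩, ⟨h3, h4⟩]
    exact mul_mem (mul_mem (x_mem_XS (this 0) _) (x_mem_XS (this 1) _)) (x_mem_XS (this 2) _)
  have sP : ∀ s, Qs K s ≤ Ps K s := fun s => XS_mono fun r hr => (lay_sign s r hr).1
  have hlow := hax 1 a
  rw [← (fS_gen hφ hK a).2] at hlow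
  have hup := hax 0 b
  rw [← (fS_gen hφ hK b).1] at hup
  have hlowP : lift (model hφ hK) (F (lowMat a)) ∈ Ps K 1 := XS_mono (fun r hr => hr.1) hlow
  have hupP : lift (model hφ hK) (F (upMat b)) ∈ Ps K 0 := XS_mono (fun r hr => hr.1) hup
  have hBnP : lift (model hφ hK) Bn ∈ Ps K 1 := by
    rw [hBn, lift_mul]; exact mul_mem (sP 1 hn') hlowP
  have hBpP : lift (model hφ hK) Bp ∈ Ps K 0 := by
    rw [hBp, lift_mul]; exact mul_mem hupP (sP 0 hp')
  have wn : W 1 (lift (model hφ hK) Bn) 0 =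
      Tw (y : Matrix (Fin 2) (Fin 2) K) (W 1 (lift (model hφ hK) zn)) 0 := by
    have h := W_mul (Ps_le 1 (sP 1 hn')) (Ps_le 1 hlowP)
    rw [W_zero_of 1 (fun r hr => hr) hlow, add_zero, l0'] at h
    rw [hBn, lift_mul, h, en]
  have wp : W 0 (lift (model hφ hK) Bp) 7 =
      Tw (y : Matrix (Fin 2) (Fin 2) K) (W 0 (lift (model hφ hK) zp)) 7 := by
    have h := W_mul (Ps_le 0 hupP) (Ps_le 0 (sP 0 hp'))
    rw [W_zero_of 0 (fun r hr => hr) hup, zero_add, l7] at h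
    rw [hBp, lift_mul, h, ep]
  -- the opposite side as a conjugate
  set c := n₀⁻¹ * Bn * n₀ with hc
  have ec : n₀ * c * n₀⁻¹ = Bn := by rw [hc]; group
  have hcU : c ∈ A.U := by
    refine (mem_U (model hφ hK)).2 (XS_mono (fun r hr => ?_) (n0_conj_XS' hφ hK (S' := {r | r ∈ signL 0})
      (fun r hr => ?_) (fun r hr => ?_) hBnP))
    · exact Finset.mem_coe.2 (mem_posSet.2 ⟨(sign_zero r hr).1, (sign_zero r hr).2.1⟩)
    · exact sign_one r hr
    · exact (sign_zero r hr).1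
  have hbU : Bp ∈ A.U := by
    refine (mem_U (model hφ hK)).2 (XS_mono (fun r hr => ?_) hBpP)
    exact Finset.mem_coe.2 (mem_posSet.2 ⟨(sign_zero r hr).1, (sign_zero r hr).2.1⟩)
  obtain ⟨r, hr, v, hv, erv⟩ := hC.base.exists_rad_mul t hcU
  obtain ⟨r1, hr1, v', hv', erv'⟩ := hC.base.exists_rad_mul t hbU
  obtain ⟨e, he, ee⟩ := hC.conj_w₀_Uw ht hv
  obtain ⟨s', es'⟩ := (long_cases hφ hK he).2
  obtain ⟨s, rfl⟩ := (long_cases hφ hK hv').1
  rw [es'] at ee
  change n₀ * v * n₀⁻¹ = _ at ee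
  have hrn : lift (model hφ hK) (n₀ * r * n₀⁻¹) ∈
      XS (QD K).sys.x {r | r ∈ signL 1 ∧ r ≠ R 1 (l₀ 1)} :=
    n0_conj_XS hφ hK (fun r hr => by
      obtain ⟨h24, -, h3⟩ := sign_zero r hr.1
      exact ⟨h24, h3 hr.2⟩) (rad_long_mem hφ hK hr)
  obtain ⟨-, hR14, -, hR9, -⟩ := named_roots
  have vn : W 1 (lift (model hφ hK) Bn) 0 = (s' : K) := by
    have e1 : Bn = n₀ * r * n₀⁻¹ * fL hφ hK (lowMat s') := by rw [← ec, erv, ← ee]; group
    obtain ⟨g1, g2⟩ := gen_R (K := K) 1 0 0 (s' : K)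
    rw [e1, lift_mul, fL_low]
    have h := W_mul (s := 1) (l := l₀ 1) (Ps_le 1 (XS_mono (fun r hr => hr.1) hrn)) (b := xe 9 (s' : K))
      (by rw [l0', ← hR9]; exact g1)
    rw [W_zero_of 1 (fun r hr => hr) hrn, zero_add, l0'] at h
    rw [h, ← hR9, g2, if_pos rfl]
  have vp : W 0 (lift (model hφ hK) Bp) 7 = (s : K) := by
    obtain ⟨g1, g2⟩ := gen_R (K := K) 0 7 7 (s : K)
    rw [erv', lift_mul, fL_up]
    have hr1' := rad_long_mem hφ hK hr1
    have h := W_mul (s := 0) (l := l₀ 0) (Ps_le 0 (XS_mono (fun r hr => hr.1) hr1')) (b := xe 14 (s : K))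
      (by rw [l7, ← hR14]; exact g1)
    rw [W_zero_of 0 (fun r hr => hr) hr1', zero_add, l7] at h
    rw [h, ← hR14, g2, if_pos rfl]
  have hss : s' = s := by
    unfold Par at hpar
    rw [← wp, ← wn, vp, vn] at hpar
    exact Subtype.ext (CharTwo.add_eq_zero.1 hpar).symm
  subst hss
  obtain ⟨a', b', ha, hb, el⟩ := levi_two hφ hK hμ hlam s'
  have hr5 : (fL hφ hK (upMat s'))⁻¹ * r1 * fL hφ hK (upMat s') ∈ rad A t := by
    simpa using hC.norm t ht _ (inv_mem (A.Uw_le t hv')) r1 hr1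
  obtain ⟨U, V, eUV⟩ := hC.absorb ht hr hr5 ha hb el
  refine ⟨U, V, Eq.trans ?_ eUV⟩
  show _ = n₀ * r * n₀⁻¹ * _ * _
  rw [← ec, erv, erv', ← ee]
  have hcomm := (TU_comm_fL hφ hK lam s').1
  set T := TU hφ hK lam
  set p := fL hφ hK (upMat s')
  calc n₀ * (r * v) * n₀⁻¹ * T * (r1 * p)
      = n₀ * r * n₀⁻¹ * (n₀ * v * n₀⁻¹) * (T * p) * (p⁻¹ * r1 * p) := by group
    _ = _ := by group

/-- The sixteen coordinates. -/
noncomputable def V (zn zp : GD hφ hK) (j : Fin 16) : K :=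
  if h : j.val < 8 then W 0 (lift (model hφ hK) zp) ⟨j.val, h⟩
  else W 1 (lift (model hφ hK) zn) ⟨j.val - 8, by omega⟩

variable {θ : K} (hθ : θ ^ 3 + θ + 1 = 0)
include hθ

theorem tens_eq (A : M2) (m : Fin 8) :
    (evM θ A) (bitv 0 7) (bitv 0 m) * (evM θ A) (bitv 1 7) (bitv 1 m) ^ 2 *
        (evM θ A) (bitv 2 7) (bitv 2 m) ^ 4 = ev θ (tens A.2.2.1 A.2.2.2 m) ∧
    (evM θ A) (bitv 0 0) (bitv 0 m) * (evM θ A) (bitv 1 0) (bitv 1 m) ^ 2 *
        (evM θ A) (bitv 2 0) (bitv 2 m) ^ 4 = ev θ (tens A.1 A.2.1 m) := by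
  fin_cases m <;> simp [evM, bitv, tens, ev_mul θ hθ] <;> constructor <;> ring

theorem par_row (zn zp : GD hφ hK) (A : M2) :
    Par hφ hK zn zp (evM θ A) = ∑ j, ev θ (rowOf A j) * V hφ hK zn zp j := by
  rw [show (Finset.univ : Finset (Fin 16)).sum (fun j => ev θ (rowOf A j) * V hφ hK zn zp j) =
    ∑ m : Fin (8 + 8), ev θ (rowOf A m) * V hφ hK zn zp m from rfl, Fin.sum_univ_add, Par, Tw, Tw]
  refine congrArg₂ (· + ·) (Finset.sum_congr rfl fun m _ => ?_) (Finset.sum_congr rfl fun m _ => ?_)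
  · rw [(tens_eq hθ A m).1]
    have h : (Fin.castAdd 8 m).val < 8 := m.isLt
    simp only [rowOf, V, dif_pos h]
    rfl
  · rw [(tens_eq hθ A m).2]
    have h : ¬ (Fin.natAdd 8 m).val < 8 := by simp
    simp only [rowOf, V, dif_neg h]
    have e : (⟨(Fin.natAdd 8 m).val - 8, by simp⟩ : Fin 8) = m := Fin.ext (by simp)
    rw [e]

theorem cert_eval (zn zp : GD hφ hK) {m : M2} {L : List (ℕ × ℕ × ℕ × ℕ × ℕ)} {tgt : Fin 16 → F8}
    {c : F8} (hL : certOk m L tgt c = true)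
    (h1 : ∀ A, yOk m A = true → Par hφ hK zn zp (evM θ A) = 1) :
    ev θ c = ∑ j, ev θ (tgt j) * V hφ hK zn zp j := by
  simp only [certOk, Bool.and_eq_true, List.all_eq_true, beq_iff_eq] at hL
  obtain ⟨⟨hy, hc⟩, hj⟩ := hL
  let E : F8 →+ K := AddMonoidHom.mk' (ev θ) (ev_add θ)
  have e1 : ev θ c = (L.map fun p => ev θ (el p.1) * Par hφ hK zn zp (evM θ (mat p.2))).sum := by
    rw [← hc]
    show E _ = _
    rw [map_list_sum, List.map_map]
    refine congrArg List.sum (List.map_congr_left fun p hp => ?_)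
    rw [h1 _ (hy p hp), mul_one]
    rfl
  rw [e1]
  calc (L.map fun p => ev θ (el p.1) * Par hφ hK zn zp (evM θ (mat p.2))).sum
      = (L.map fun p => ∑ j, ev θ (fmul (el p.1) (rowOf (mat p.2) j)) * V hφ hK zn zp j).sum := by
        refine congrArg List.sum (List.map_congr_left fun p _ => ?_)
        rw [par_row hφ hK hθ, Finset.mul_sum]
        exact Finset.sum_congr rfl fun j _ => by rw [ev_mul θ hθ, mul_assoc]
    _ = ∑ j, (L.map fun p => ev θ (fmul (el p.1) (rowOf (mat p.2) j)) * V hφ hK zn zp j).sum := by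
        induction L with
        | nil => simp
        | cons p L ih =>
          simp only [List.map_cons, List.sum_cons, Finset.sum_add_distrib]
          congr 1
          clear ih
          clear e1 hc hy hj
          induction L with
          | nil => simp
          | cons q L ih => simp only [List.map_cons, List.sum_cons, Finset.sum_add_distrib, ih]
    _ = _ := by
        refine Finset.sum_congr rfl fun j _ => ?_
        rw [← hj j (List.mem_finRange j), List.sum_map_mul_right]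
        show _ = E _ * _
        rw [map_list_sum, List.map_map]
        rfl

theorem mdet_unit {A : M2} (hA : mdet A = el 1) :
    ∃ S : Matrix.SpecialLinearGroup (Fin 2) K, (S : Matrix (Fin 2) (Fin 2) K) = evM θ A ∧
      ((S⁻¹ : Matrix.SpecialLinearGroup (Fin 2) K) : Matrix (Fin 2) (Fin 2) K) = evM θ (madj A) := by
  refine ⟨⟨evM θ A, by rw [evM_det θ hθ, hA, ev_one]⟩, rfl, ?_⟩
  show Matrix.adjugate (evM θ A) = _
  simp [evM, madj, Matrix.adjugate_fin_two_of, CharTwo.neg_eq]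

/-- An allowed conjugator with parity zero finishes. -/
theorem one_or_two {μ : Kˣ} (hμ : (μ : K) * μ = θ) {zn zp : GD hφ hK}
    {m : Matrix.SpecialLinearGroup (Fin 2) K} {mr : M2}
    (hm : (m : Matrix (Fin 2) (Fin 2) K) = evM θ mr)
    (hn : lift (model hφ hK) zn ∈ Qs K 1) (hp : lift (model hφ hK) zp ∈ Qs K 0) {A : M2}
    (hA : yOk mr A = true) (h : ¬ P2 (el21 hφ hK true μ) (zn * fS hφ hK m * zp)) :
    Par hφ hK zn zp (evM θ A) = 1 := by
  simp only [yOk, Bool.and_eq_true, beq_iff_eq] at hA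
  obtain ⟨hd, hg⟩ := hA
  obtain ⟨S, hS, hSi⟩ := mdet_unit hθ hd
  rcases par_cases hφ hK hn hp S with h0 | h1
  swap
  · rwa [hS] at h1
  refine absurd ?_ h
  have hμ1 : μ ≠ 1 := fun e => by
    rw [e, Units.val_one, one_mul] at hμ
    rw [← hμ] at hθ
    exact one_ne_zero (show (1 : K) = 0 by linear_combination hθ - CharTwo.two_eq_zero (R := K))
  have e5 : ev θ (el 5) = θ⁻¹ := by
    refine eq_inv_of_mul_eq_one_left ?_
    calc ev θ (el 5) * θ = ev θ (el 5) * ev θ (el 2) := by rw [ev_two]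
      _ = 1 := by rw [← ev_mul θ hθ, show fmul (el 5) (el 2) = el 1 by decide, ev_one]
  have h00 : ((S * m * S⁻¹ : Matrix.SpecialLinearGroup (Fin 2) K) : Matrix (Fin 2) (Fin 2) K) 0 0 =
      ev θ (mmul (mmul A mr) (madj A)).1 := by
    rw [Matrix.SpecialLinearGroup.coe_mul, Matrix.SpecialLinearGroup.coe_mul, hS, hm, hSi,
      ← evM_mul θ hθ, ← evM_mul θ hθ]
    rfl
  simp only [good, Bool.or_eq_true, beq_iff_eq] at hg
  rcases hg with (hg | hg) | hg
  · exact finish hφ hK hμ1 hn hp S (lam := 1) (Or.inl rfl)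
      (by rw [h00, hg, ev_one, Units.val_one]) h0
  · exact finish hφ hK hμ1 hn hp S (lam := μ * μ) (Or.inr (Or.inl rfl))
      (by rw [h00, hg, ev_two, Units.val_mul, hμ]) h0
  · exact finish hφ hK hμ1 hn hp S (lam := μ⁻¹ * μ⁻¹) (Or.inr (Or.inr rfl))
      (by rw [h00, hg, e5, Units.val_mul, Units.val_inv_eq_inv_val, ← mul_inv, hμ]) h0

omit hθ

/-- A fixed root involution. -/
noncomputable def LR (r : ℕ) (hr : r ∈ [14, 22, 9, 1, 23, 0]) : GD hφ hK :=
  (model hφ hK).iso ⟨xe r 1, (σ_fix hφ hr 1).trans (congrArg _ (one_pow 2))⟩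

theorem lift_LR (r : ℕ) (hr : r ∈ [14, 22, 9, 1, 23, 0]) :
    lift (model hφ hK) (LR hφ hK r hr) = xe r 1 := lift_iso _ _

theorem LR_sq (r : ℕ) (hr : r ∈ [14, 22, 9, 1, 23, 0]) :
    LR hφ hK r hr * LR hφ hK r hr = 1 := lift_injective _ (by
  rw [lift_mul, lift_LR, ← xe_add (fix_facts r hr).2.2, CharTwo.add_self_eq_zero,
    xe_zero (fix_facts r hr).2.2]
  exact (map_one (liftHom (model hφ hK))).symm)

theorem LR_comm {r s : ℕ} (hr : r ∈ [14, 22, 9, 1, 23, 0]) (hs : s ∈ [14, 22, 9, 1, 23, 0])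
    (h : pairOk r s none = true) :
    LR hφ hK r hr * LR hφ hK s hs = LR hφ hK s hs * LR hφ hK r hr := lift_injective _ (by
  rw [lift_mul, lift_mul, lift_LR, lift_LR]
  exact (pairOk_none h 1 1).eq)

theorem LR_rel {r s c : ℕ} (hr : r ∈ [14, 22, 9, 1, 23, 0]) (hs : s ∈ [14, 22, 9, 1, 23, 0])
    (hc : c ∈ [14, 22, 9, 1, 23, 0]) (h : pairOk r s (some c) = true) :
    LR hφ hK s hs * LR hφ hK r hr = LR hφ hK r hr * LR hφ hK s hs * LR hφ hK c hc :=
  lift_injective _ (by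
    rw [lift_mul, lift_mul, lift_mul, lift_LR, lift_LR, lift_LR]
    simpa using pairOk_some h (1 : K) 1)

/-- An element without mixed coordinates is a word in the three involutions. -/
theorem long_bits (s : Fin 2) {z : GD hφ hK} (hz : lift (model hφ hK) z ∈ Qs K s)
    (h : ∀ l : Fin 8, l ≠ 0 → l ≠ 7 → W s (lift (model hφ hK) z) l = 0)
    (h0 : R s 0 ∈ [14, 22, 9, 1, 23, 0]) (h7 : R s 7 ∈ [14, 22, 9, 1, 23, 0])
    (hc : C s ∈ [14, 22, 9, 1, 23, 0]) :
    ∃ a b c : Bool, z = bp (LR hφ hK _ h0) a * bp (LR hφ hK _ h7) b * bp (LR hφ hK _ hc) c := by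
  obtain ⟨c, e⟩ := long_form s hz h
  set a := W s (lift (model hφ hK) z) 0
  set b := W s (lift (model hφ hK) z) 7
  have bit : ∀ v : K, v ^ 2 = v → ∃ β : Bool, v = cond β 1 0 := fun v hv => by
    rcases mul_eq_zero.1 (show v * (v - 1) = 0 by linear_combination hv) with h | h
    · exact ⟨false, h⟩
    · exact ⟨true, sub_eq_zero.1 h⟩
  have ha := W_fixed two_ne_zero hφ s (Or.inl rfl) (Qs_le s 0 hz) (σ_lift hφ hK z)
  have hb := W_fixed two_ne_zero hφ s (Or.inr rfl) (Qs_le s 7 hz) (σ_lift hφ hK z)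
  have hcc : c ^ 2 = c := by
    have e' := congrArg (endo φ).σ e
    rw [σ_lift, map_mul, map_mul, σ_fix hφ h0, σ_fix hφ h7, σ_fix hφ hc, ha, hb] at e'
    exact (xG_inj (QD K) (C_lt s) (mul_left_cancel (e.symm.trans e'))).symm
  obtain ⟨α, hα⟩ := bit a ha
  obtain ⟨β, hβ⟩ := bit b hb
  obtain ⟨γ, hγ⟩ := bit c hcc
  refine ⟨α, β, γ, lift_injective _ ?_⟩
  rw [e, lift_mul, lift_mul, hα, hβ, hγ]
  have key : ∀ r (hr : r ∈ [14, 22, 9, 1, 23, 0]) (β : Bool),
      lift (model hφ hK) (bp (LR hφ hK r hr) β) = xe r (cond β 1 0) := fun r hr β => by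
    cases β
    · show lift (model hφ hK) 1 = _
      rw [cond_false, xe_zero (fix_facts r hr).2.2]
      exact map_one (liftHom (model hφ hK))
    · exact lift_LR hφ hK r hr
  rw [key, key, key]

/-- A bit as a scalar. -/
def bK (β : Bool) : K := cond β 1 0

theorem bp_W (s : Fin 2) (h0 : R s 0 ∈ [14, 22, 9, 1, 23, 0]) (h7 : R s 7 ∈ [14, 22, 9, 1, 23, 0])
    (hc : C s ∈ [14, 22, 9, 1, 23, 0]) (a b c : Bool) :
    let z := bp (LR hφ hK _ h0) a * bp (LR hφ hK _ h7) b * bp (LR hφ hK _ hc) c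
    lift (model hφ hK) z ∈ Qs K s ∧
      ∀ l : Fin 8, W s (lift (model hφ hK) z) l = if l = 0 then bK a else if l = 7 then bK b else 0 := by
  intro z
  have key : ∀ r (hr : r ∈ [14, 22, 9, 1, 23, 0]) (β : Bool),
      lift (model hφ hK) (bp (LR hφ hK r hr) β) = xe r (bK β) := fun r hr β => by
    cases β
    · show lift (model hφ hK) 1 = _
      rw [bK, cond_false, xe_zero (fix_facts r hr).2.2]
      exact map_one (liftHom (model hφ hK))
    · exact lift_LR hφ hK r hr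
  have e : lift (model hφ hK) z = xe (R s 0) (bK a) * xe (R s 7) (bK b) * xe (C s) (bK c) := by
    simp only [z, lift_mul, key]
  have hm : ∀ m, R s m ∈ {r | r ∈ layL s} := fun m => (lay_facts s m 0).2.2.2.2.2.1
  refine ⟨?_, fun l => ?_⟩
  · rw [e]
    exact mul_mem (mul_mem (x_mem_XS (hm 0) _) (x_mem_XS (hm 7) _))
      (x_mem_XS ((lay_facts s 0 0).2.2.2.2.2.2.2.1) _)
  · rw [e, W_mul (mul_mem (gen_R s 0 l _).1 (gen_R s 7 l _).1) (gen_C s l _).1,
      W_mul (gen_R s 0 l _).1 (gen_R s 7 l _).1, (gen_R s 0 l _).2, (gen_R s 7 l _).2,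
      (gen_C s l _).2, add_zero]
    by_cases hl0 : l = 0
    · subst hl0; simp
    · by_cases hl7 : l = 7
      · subst hl7; simp
      · simp [hl0, hl7, Ne.symm hl0, Ne.symm hl7]

include hθ

theorem diag_long {μ : Kˣ} (hμ : (μ : K) * μ = θ) {t : ℕ} (ht : t ∈ [3, 5]) {zn zp : GD hφ hK}
    {m : Matrix.SpecialLinearGroup (Fin 2) K}
    (hm : (m : Matrix (Fin 2) (Fin 2) K) = evM θ (diag t))
    (hn : lift (model hφ hK) zn ∈ Qs K 1) (hp : lift (model hφ hK) zp ∈ Qs K 0) :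
    P2 (el21 hφ hK true μ) (zn * fS hφ hK m * zp) := by
  by_contra hcon
  obtain ⟨-, -, hy, hnu, hrow⟩ := diag_ok t ht
  have vz : ∀ i : Fin 12, ∀ j, midL[i.val]? = some j → V hφ hK zn zp j = 0 := by
    intro i j hj
    obtain ⟨L, -, hL⟩ := coord_ok t ht i
    have e := cert_eval hφ hK hθ zn zp hL fun A hA => one_or_two hφ hK hθ hμ hm hn hp hA hcon
    rw [ev_zero, Finset.sum_eq_single j] at e
    · rw [if_pos hj, ev_one, one_mul] at e; exact e.symm
    · intro j' _ hne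
      rw [if_neg (fun h => hne (Option.some.inj (h.symm.trans hj))), ev_zero, zero_mul]
    · simp
  have mid : ∀ j : Fin 16, j ∉ ([0, 7, 8, 15] : List (Fin 16)) → V hφ hK zn zp j = 0 := fun j hj => by
    obtain ⟨i, hi⟩ := (show ∀ j : Fin 16, j ∉ ([0, 7, 8, 15] : List (Fin 16)) →
      ∃ i : Fin 12, midL[i.val]? = some j by decide +kernel) j hj
    exact vz i j hi
  have hp0 : ∀ l : Fin 8, l ≠ 0 → l ≠ 7 → W 0 (lift (model hφ hK) zp) l = 0 := fun l h0 h7 => by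
    have h := mid _ (mid_idx l h0 h7).1
    simpa only [V, dif_pos l.isLt] using h
  have hn0 : ∀ l : Fin 8, l ≠ 0 → l ≠ 7 → W 1 (lift (model hφ hK) zn) l = 0 := fun l h0 h7 => by
    have h := mid _ (mid_idx l h0 h7).2
    simpa only [V, dif_neg (show ¬ (l.val + 8 < 8) by omega), Nat.add_sub_cancel] using h
  have P0 : R 0 (0 : Fin 8) ∈ [14, 22, 9, 1, 23, 0] := by decide +kernel
  have P7 : R 0 (7 : Fin 8) ∈ [14, 22, 9, 1, 23, 0] := by decide +kernel
  have PC : C 0 ∈ [14, 22, 9, 1, 23, 0] := by decide +kernel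
  have N0 : R 1 (0 : Fin 8) ∈ [14, 22, 9, 1, 23, 0] := by decide +kernel
  have N7 : R 1 (7 : Fin 8) ∈ [14, 22, 9, 1, 23, 0] := by decide +kernel
  have NC : C 1 ∈ [14, 22, 9, 1, 23, 0] := by decide +kernel
  obtain ⟨i, j, k, rfl⟩ := long_bits hφ hK 0 hp hp0 P0 P7 PC
  obtain ⟨a, b, c, rfl⟩ := long_bits hφ hK 1 hn hn0 N0 N7 NC
  set Q := LR hφ hK _ P0
  set P := LR hφ hK _ P7
  set R' := LR hφ hK _ PC
  set p := LR hφ hK _ N0
  set q := LR hφ hK _ N7
  set r := LR hφ hK _ NC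
  -- forms of even parity are products
  have even : ∀ a b c i j k : Bool, xor (xor a b) (xor i j) = false →
      P2 (el21 hφ hK true μ) (bp p a * bp q b * bp r c * fS hφ hK m * (bp Q i * bp P j * bp R' k)) := by
    intro a b c i j k hpar
    by_contra hc
    obtain ⟨hn', wn⟩ := bp_W hφ hK 1 N0 N7 NC a b c
    obtain ⟨hp', wp⟩ := bp_W hφ hK 0 P0 P7 PC i j k
    have h1 := one_or_two hφ hK hθ hμ hm hn' hp' hy hc
    rw [par_row hφ hK hθ] at h1
    have hsum : ∑ x : Fin 16, ev θ (rowOf (mat (diagL t).2.2) x) *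
        V hφ hK (bp p a * bp q b * bp r c) (bp Q i * bp P j * bp R' k) x =
        bK i + bK j + (bK a + bK b) := by
      rw [show (Finset.univ : Finset (Fin 16)) = insert 0 (insert 7 (insert 8 (insert 15
        ((Finset.univ : Finset (Fin 16)) \ {0, 7, 8, 15})))) by decide +kernel,
        Finset.sum_insert (by decide +kernel), Finset.sum_insert (by decide +kernel),
        Finset.sum_insert (by decide +kernel), Finset.sum_insert (by decide +kernel),
        hrow 0 (by simp), hrow 7 (by simp), hrow 8 (by simp), hrow 15 (by simp),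
        Finset.sum_eq_zero, ev_one]
      · simp only [V, Fin.isValue, one_mul]
        simp
        rw [wp 0, wp 7, wn 0, wn 7]
        simp
        ring
      · intro x hx
        have hx' : x ≠ 0 ∧ x ≠ 7 ∧ x ≠ 8 ∧ x ≠ 15 := by simpa using hx
        unfold V
        split
        · rename_i h8
          rw [wp, if_neg (fun h => hx'.1 (Fin.ext (show x.val = 0 by simpa using congrArg Fin.val h))),
            if_neg (fun h => hx'.2.1 (Fin.ext (show x.val = 7 by simpa using congrArg Fin.val h))),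
            mul_zero]
        · rename_i h8
          rw [wn, if_neg (fun h => hx'.2.2.1 (Fin.ext (show x.val = 8 by
              have : x.val - 8 = 0 := congrArg Fin.val h
              omega))),
            if_neg (fun h => hx'.2.2.2 (Fin.ext (show x.val = 15 by
              have : x.val - 8 = 7 := congrArg Fin.val h
              omega))), mul_zero]
    rw [hsum] at h1
    revert h1 hpar
    have h2 := CharTwo.add_self_eq_zero (1 : K)
    cases a <;> cases b <;> cases i <;> cases j <;> simp [bK, h2]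
  by_cases hodd : xor (xor a b) (xor i j) = true
  swap
  · exact hcon (even a b c i j k (by simpa using hodd))
  obtain ⟨f1, f2, f3, f4, f5, f6, f7, f8, f9, f10, f11, f12⟩ := a2_facts
  obtain ⟨eQ, eP, eR, ep, eq, er, -, -⟩ := named_roots
  have cm : ∀ {r s r' s' : ℕ} (hr : r ∈ [14, 22, 9, 1, 23, 0]) (hs : s ∈ [14, 22, 9, 1, 23, 0]),
      r = r' → s = s' → pairOk r' s' none = true →
      LR hφ hK r hr * LR hφ hK s hs = LR hφ hK s hs * LR hφ hK r hr := by
    intro r s r' s' hr hs e1 e2 h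
    subst e1 e2
    exact LR_comm hφ hK hr hs h
  have rl : ∀ {r s c r' s' c' : ℕ} (hr : r ∈ [14, 22, 9, 1, 23, 0]) (hs : s ∈ [14, 22, 9, 1, 23, 0])
      (hc : c ∈ [14, 22, 9, 1, 23, 0]), r = r' → s = s' → c = c' → pairOk r' s' (some c') = true →
      LR hφ hK s hs * LR hφ hK r hr = LR hφ hK r hr * LR hφ hK s hs * LR hφ hK c hc := by
    intro r s c r' s' c' hr hs hc e1 e2 e3 h
    subst e1 e2 e3
    exact LR_rel hφ hK hr hs hc h
  have sP := LR_sq hφ hK _ P7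
  have sQ := LR_sq hφ hK _ P0
  have sR := LR_sq hφ hK _ PC
  have sp := LR_sq hφ hK _ N0
  have sq := LR_sq hφ hK _ N7
  have sr := LR_sq hφ hK _ NC
  have RP : R' * P = P * R' := (cm P7 PC eP eR f1).symm
  have RQ : R' * Q = Q * R' := (cm P0 PC eQ eR f2).symm
  have PQ : P * Q = Q * P * R' := rl P0 P7 PC eQ eP eR f3
  have Rp : R' * p = p * Q * R' := by
    have h : R' * p = p * R' * Q := rl N0 PC P0 ep eR eQ f4
    rw [h, mul_assoc, RQ, mul_assoc]
  have Rq : R' * q = q * P * R' := by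
    have h : R' * q = q * R' * P := rl N7 PC P7 eq eR eP f5
    rw [h, mul_assoc, RP, mul_assoc]
  have Pq : P * q = q * P := cm P7 N7 eP eq f6
  have Qp : Q * p = p * Q := cm P0 N0 eQ ep f7
  have Pr : P * r = r * q * P := by
    have h : P * r = r * P * q := rl NC P7 N7 er eP eq f8
    rw [h, mul_assoc, Pq, mul_assoc]
  have Qr : Q * r = r * p * Q := by
    have h : Q * r = r * Q * p := rl NC P0 N0 er eQ ep f9
    rw [h, mul_assoc, Qp, mul_assoc]
  have rp : r * p = p * r := (cm N0 NC ep er f10).symm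
  have rq : r * q = q * r := (cm N7 NC eq er f11).symm
  have qp : q * p = p * q * r := rl N0 N7 NC ep eq er f12
  have hU : UpRel p q r P Q R' := ⟨sP, sQ, sR, RP, RQ, PQ, Rp, Rq, Pq, Qp, Pr, Qr, sp, sq, rp, rq⟩
  have hO : UpRel (MulOpposite.op P) (MulOpposite.op Q) (MulOpposite.op R') (MulOpposite.op p)
      (MulOpposite.op q) (MulOpposite.op r) := by
    refine ⟨?_, ?_, ?_, ?_, ?_, ?_, ?_, ?_, ?_, ?_, ?_, ?_, ?_, ?_, ?_, ?_⟩ <;>
      simp only [← MulOpposite.op_mul, ← mul_assoc, ← MulOpposite.op_one, MulOpposite.op_inj]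
    · exact sp
    · exact sq
    · exact sr
    · exact rp.symm
    · exact rq.symm
    · rw [qp, rp, mul_assoc p r q, rq, ← mul_assoc]
    · exact Pr
    · exact Qr
    · exact Qp
    · exact Pq
    · exact Rp
    · exact Rq
    · exact sP
    · exact sQ
    · exact RP.symm
    · exact RQ.symm
  obtain ⟨z, hz, a', b', c', i', j', k', hev, e⟩ := move_all hU hO qp rp rq RQ RP PQ c k hodd
  have hmu : ∃ u, fS hφ hK m = TU hφ hK u := by
    refine ⟨Units.mk0 _ (ev_ne θ hθ (a := el (diagL t).1.1) ?_), congrArg _ (H87.sl2_ext ?_)⟩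
    · intro h0
      rw [h0] at hnu
      revert hnu
      generalize el (diagL t).1.2 = w
      revert w
      decide +kernel
    rw [hm, dm_coe]
    have hi : ev θ (el (diagL t).1.2) = (ev θ (el (diagL t).1.1))⁻¹ :=
      eq_inv_of_mul_eq_one_right (by rw [← ev_mul θ hθ, hnu, ev_one])
    simp [evM, diag, ev_zero, hi]
  obtain ⟨u, hu⟩ := hmu
  have cz : ∀ r (hr : r ∈ [14, 22, 9, 1, 23, 0]), Commute (TU hφ hK u) (LR hφ hK r hr) := fun r hr =>
    lift_injective _ (by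
      rw [lift_mul, lift_mul, lift_LR]
      exact (TU_comm_xe hφ hK u
        ((show ∀ r ∈ [14, 22, 9, 1, 23, 0], r ∈ [14, 22, 23, 9, 1, 0] by decide) r hr) 1).eq)
  have cb : ∀ r (hr : r ∈ [14, 22, 9, 1, 23, 0]) (β : Bool),
      Commute (TU hφ hK u) (bp (LR hφ hK r hr) β) := fun r hr β => by
    cases β
    · exact Commute.one_right _
    · exact cz r hr
  have hzz : z * z = 1 ∧ Commute (TU hφ hK u) z := by
    rcases hz with rfl | rfl | rfl | rfl | rfl | rfl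
    exacts [⟨sp, cz _ N0⟩, ⟨sq, cz _ N7⟩, ⟨sr, cz _ NC⟩, ⟨sP, cz _ P7⟩, ⟨sQ, cz _ P0⟩, ⟨sR, cz _ PC⟩]
  refine hcon (P2.conj z ?_)
  convert even a' b' c' i' j' k' hev using 1
  rw [hu, inv_eq_of_mul_eq_one_right hzz.1]
  have cu : ∀ a b c : Bool, Commute (TU hφ hK u) (bp p a * bp q b * bp r c) := fun a b c =>
    ((cb _ N0 a).mul_right (cb _ N7 b)).mul_right (cb _ NC c)
  have hcz : z * TU hφ hK u = TU hφ hK u * z := hzz.2.symm.eq
  rw [← (cu a b c).eq, ← (cu a' b' c').eq, mul_assoc (TU hφ hK u) (bp p a' * bp q b' * bp r c'), ← e]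
  simp only [← mul_assoc]
  rw [hcz]

theorem core {μ : Kˣ} (hμ : (μ : K) * μ = θ) {zn zp : GD hφ hK}
    {m : Matrix.SpecialLinearGroup (Fin 2) K} (hm : m ≠ 1)
    (hn : lift (model hφ hK) zn ∈ Qs K 1) (hp : lift (model hφ hK) zp ∈ Qs K 0) :
    P2 (el21 hφ hK true μ) (zn * fS hφ hK m * zp) := by
  have h2 := CharTwo.two_eq_zero (R := K)
  have hcard : Fintype.card K = 8 := hK.trans (by norm_num)
  have hns : ∀ c : K, (m : Matrix (Fin 2) (Fin 2) K) ≠ !![c, 0; 0, c] := by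
    intro c hc
    have hd := m.2
    rw [hc, Matrix.det_fin_two_of, mul_zero, sub_zero] at hd
    have : c = 1 := by
      rcases mul_self_eq_one_iff.1 hd with h | h
      · exact h
      · rwa [CharTwo.neg_eq] at h
    exact hm (H87.sl2_ext (by rw [hc, this, Matrix.SpecialLinearGroup.coe_one, Matrix.one_fin_two]))
  obtain ⟨Q, hQ, eQ⟩ := exists_cyclic _ hns
  rw [m.2, CharTwo.neg_eq] at eQ
  obtain ⟨z, hz⟩ := ev_surj θ hθ hcard (Matrix.trace (m : Matrix (Fin 2) (Fin 2) K))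
  obtain ⟨t, ht, rfl⟩ := codes z
  set Δ := Q.det with hΔ
  have hΔ7 : Δ ^ 7 = 1 := by
    have := FiniteField.pow_card_sub_one_eq_one Δ hQ
    rwa [hcard] at this
  obtain ⟨S, hS⟩ : ∃ S : Matrix.SpecialLinearGroup (Fin 2) K,
      (S : Matrix (Fin 2) (Fin 2) K) = (Δ ^ 3) • Q := by
    refine ⟨⟨_, ?_⟩, rfl⟩
    rw [Matrix.det_smul, Fintype.card_fin, ← hΔ]
    calc (Δ ^ 3) ^ 2 * Δ = Δ ^ 7 := by ring
      _ = 1 := hΔ7
  have hrep : (S⁻¹ * m * S : Matrix.SpecialLinearGroup (Fin 2) K).1 = evM θ (comp t) := by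
    have e0 : evM θ (comp t) = !![0, 1; 1, Matrix.trace (m : Matrix (Fin 2) (Fin 2) K)] := by
      simp [evM, comp, ev_zero, ev_one, hz]
    show ((S⁻¹ * m * S : Matrix.SpecialLinearGroup (Fin 2) K) : Matrix (Fin 2) (Fin 2) K) = _
    have hSS : ((S⁻¹ : Matrix.SpecialLinearGroup (Fin 2) K) : Matrix (Fin 2) (Fin 2) K) *
        (S : Matrix (Fin 2) (Fin 2) K) = 1 := congrArg Subtype.val (inv_mul_cancel S)
    rw [Matrix.SpecialLinearGroup.coe_mul, Matrix.SpecialLinearGroup.coe_mul, mul_assoc, hS,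
      Matrix.mul_smul, eQ, ← Matrix.smul_mul, ← mul_assoc, ← hS, hSS, one_mul, e0]
  have conjg : ∀ (Z m' : Matrix.SpecialLinearGroup (Fin 2) K) (zn zp : GD hφ hK),
      fS hφ hK Z * (zn * fS hφ hK m' * zp) * (fS hφ hK Z)⁻¹ =
        (fS hφ hK Z * zn * (fS hφ hK Z)⁻¹) * fS hφ hK (Z * m' * Z⁻¹) *
          (fS hφ hK Z * zp * (fS hφ hK Z)⁻¹) := fun Z m' zn zp => by
    rw [map_mul, map_mul, map_inv]; group
  refine P2.conj (fS hφ hK S⁻¹) ?_
  rw [conjg, inv_inv]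
  obtain ⟨hn1, -⟩ := stable hφ hK S⁻¹ 1 hn
  obtain ⟨hp1, -⟩ := stable hφ hK S⁻¹ 0 hp
  by_cases h35 : t ∈ [3, 5]
  · obtain ⟨hd, hconj, -⟩ := diag_ok t h35
    obtain ⟨Z, hZ, hZi⟩ := mdet_unit hθ hd
    refine P2.conj (fS hφ hK Z) ?_
    rw [conjg]
    refine diag_long hφ hK hθ hμ h35 ?_ (stable hφ hK Z 1 hn1).1 (stable hφ hK Z 0 hp1).1
    rw [Matrix.SpecialLinearGroup.coe_mul, Matrix.SpecialLinearGroup.coe_mul, hZ, hZi, hrep,
      ← evM_mul θ hθ, ← evM_mul θ hθ, hconj]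
  · have h6 : t ∈ [0, 1, 2, 4, 6, 7] := by
      simp only [List.mem_cons, List.not_mem_nil, or_false] at ht h35 ⊢
      omega
    by_contra hcon
    have e := cert_eval hφ hK hθ _ _ (main_ok t h6) fun A hA =>
      one_or_two hφ hK hθ hμ hrep hn1 hp1 hA hcon
    rw [ev_one] at e
    simp [ev_zero] at e

omit hθ

theorem two_two_conj : ∃ x : GD hφ hK, x ^ 21 = 1 ∧
    ∀ g : GD hφ hK, g ≠ 1 → ∃ u v : GD hφ hK, g = u * x * u⁻¹ * (v * x * v⁻¹) := by
  haveI := finiteGD hφ hK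
  obtain ⟨θ, hθ⟩ := exists_root (K := K) (hK.trans (by norm_num))
  have hθ0 : θ ≠ 0 := fun h => by
    rw [h] at hθ
    simp at hθ
  set μ : Kˣ := Units.mk0 θ hθ0 ^ 4 with hμd
  have hμ : (μ : K) * μ = θ := by
    have h7 := congrArg Units.val (unit_pow7 hK (Units.mk0 θ hθ0))
    rw [Units.val_pow_eq_pow_val, Units.val_one, Units.val_mk0] at h7
    rw [hμd, Units.val_pow_eq_pow_val, Units.val_mk0]
    calc θ ^ 4 * θ ^ 4 = θ ^ 7 * θ := by ring
      _ = θ := by rw [h7, one_mul]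
  refine ⟨el21 hφ hK true μ, ?_, fun g hg => ?_⟩
  · have hρ : fL hφ hK (rho φ true) ^ 21 = 1 := by
      have h3 : rho φ true ^ 3 = 1 := by
        rw [pow_succ, pow_two, rho_sq]
        exact rho_mul_not false
      rw [← map_pow, show 21 = 3 * 7 from rfl, pow_mul, h3, one_pow, map_one]
    rw [el21, (TU_comm_rho hφ hK μ true).symm.mul_pow, hρ, TU_pow,
      show 21 = 7 * 3 from rfl, pow_mul, unit_pow7 hK, one_pow, TU_one, one_mul]
  have hC := ctx hφ hK
  set A := Ad hφ hK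
  set t := sI φ 0
  have ht : t ∈ A.S := sI_mem hφ hK 0
  obtain ⟨y0, w, hw, hgw⟩ := hC.exists_outside (s := sI φ 1) (t := t) (sI_mem hφ hK 1) ht
    (ne_gens hφ hK) (hgen hφ hK (i := 1) (j := 0) (by decide)) (H37.Twist.D4.simple hφ hK).1 hg
  obtain ⟨u, c, hc, k, hk, b, hb, e1, hct⟩ := hC.exists_gauss ht hw hgw
  obtain ⟨r, hr, e, he, e', he', r', hr', e2, he1⟩ := hC.exists_three ht (k := k) hc hb
  obtain ⟨uk, rfl⟩ := H_eq hφ hK hk
  obtain ⟨te, rfl⟩ := (H56.TwAut.D4.spec hφ hK).mem_tw_Uw (0 : Fin 2) e he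
  obtain ⟨tr, hrr⟩ := (H56.TwAut.D4.spec hφ hK).n_conj (0 : Fin 2) te
  obtain ⟨ts, rfl⟩ := (H56.TwAut.D4.spec hφ hK).mem_tw_Uw (0 : Fin 2) e' he'
  have hlow : A.n t * (H56.TwAut.D4.spec hφ hK).tx (0 : Fin 2) te * (A.n t)⁻¹ =
      fS hφ hK (lowMat tr.1) := hrr.trans (fS_low hφ hK tr.1).symm
  have hup : (H56.TwAut.D4.spec hφ hK).tx (0 : Fin 2) ts = fS hφ hK (upMat ts.1) :=
    (fS_up hφ hK ts.1).symm
  refine P2.conj (u * y0) ?_
  rw [show u * y0 * g * (u * y0)⁻¹ = u * (y0 * g * y0⁻¹) * u⁻¹ by group, e1, e2, hlow, hup,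
    show TU hφ hK uk = fS hφ hK (dm uk) from rfl, ← map_mul, ← map_mul]
  have hq : ∀ d ∈ rad A t, lift (model hφ hK) d ∈ XS (QD K).sys.x {r | r ∈ layL 0 ∧ 23 - r ∈ layL 1} :=
    fun d hd => XS_mono (fun r hr => by
      obtain ⟨h1, h2, h3⟩ := keep_roots (K := K) (Finset.mem_coe.1 hr)
      exact keep_short r h1 h2 fun h => h3 (by simpa [orbL] using h)) (lift_rad hφ hK hd)
  refine core hφ hK hθ hμ (fun h => he1 hct ?_)
    (n0_conj_XS hφ hK (fun r hr => ⟨(lay_sign 0 r hr.1).2, hr.2⟩) (hq r hr))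
    (XS_mono (fun r hr => hr.1) (hq r' hr'))
  have h10 := congrArg (fun M : Matrix.SpecialLinearGroup (Fin 2) K =>
    (M : Matrix (Fin 2) (Fin 2) K) 1 0) h
  simp [dm_coe, H87.upMat_coe, H87.lowMat_coe, Matrix.mul_fin_two] at h10
  rw [h10, ZeroMemClass.coe_zero, H87.lowMat_zero, map_one, conj_eq_one_iff] at hlow
  exact hlow

end Cfsg.Agent.H84.Gauss.D4Two
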