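import Cfsg.Agent.H84.Gauss.D4Four
import Cfsg.Agent.H84.Gauss.D4Three
import Cfsg.Agent.H84.Gauss.D4Two

/-!
`³D₄(q)` is covered by products of two conjugates of one element of order prime to the characteristic.
-/

set_option autoImplicit false

namespace Cfsg.Agent.H84.Gauss.D4

open Cfsg.Lie Cfsg.Agent.H37 Cfsg.Agent.H37.RootSys Cfsg.Agent.H37.Twist
open Cfsg.Agent.H37.Twist.D4

theorem d4_two_conj {K : Type*} [Field K] [Fintype K] (p : ℕ) [hp : Fact p.Prime] [CharP K p]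
    (q : ℕ) (hq : IsPrimePow q) (hK : Fintype.card K = q ^ 3) :
    ∃ x : Cfsg.Lie.twistedD4 K q, ¬ p ∣ orderOf x ∧ ∀ g : Cfsg.Lie.twistedD4 K q, g ≠ 1 →
      ∃ u v : Cfsg.Lie.twistedD4 K q, g = (u * x * u⁻¹) * (v * x * v⁻¹) := by
  obtain ⟨φ, hφ⟩ := exists_powHom hq hK
  have hpq : p ∣ q := by
    refine hp.out.dvd_of_dvd_pow (n := 3) ?_
    rw [← hK]
    exact (CharP.cast_eq_zero_iff K p _).1 (FiniteField.cast_card_eq_zero K)
  have h2 := hq.two_le
  by_cases h4 : 4 ≤ q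
  · obtain ⟨x, hx, h⟩ := four_two_conj hφ hK h4
    haveI := finiteGD hφ hK
    refine ⟨x, fun hd => ?_, h⟩
    have hd' : ringChar K ∣ Nat.card (Ad hφ hK).H := by
      rw [ringChar.eq K p]
      exact hd.trans (Subgroup.orderOf_dvd_natCard _ hx)
    exact (ad_sbase hφ hK).pH hd'
  obtain rfl | rfl : q = 2 ∨ q = 3 := by omega
  · obtain rfl : p = 2 := (Nat.prime_dvd_prime_iff_eq hp.out Nat.prime_two).1 hpq
    obtain ⟨x, hx, h⟩ := D4Two.two_two_conj hφ hK
    exact ⟨x, fun hd => absurd (hd.trans (orderOf_dvd_of_pow_eq_one hx)) (by decide), h⟩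
  · obtain rfl : p = 3 := (Nat.prime_dvd_prime_iff_eq hp.out Nat.prime_three).1 hpq
    obtain ⟨x, hx, h⟩ := three_two_conj hφ hK
    exact ⟨x, fun hd => absurd (hd.trans (orderOf_dvd_of_pow_eq_one hx)) (by decide), h⟩

end Cfsg.Agent.H84.Gauss.D4
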