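import Cfsg.Agent.H13.Split.Chev

/-!
A torus element moving every root element of a closed set of roots fixes nothing in their product.
-/

set_option autoImplicit false

namespace Cfsg.Agent.H84.Gauss

open Cfsg.Lie Cfsg.Agent.H37 Cfsg.Agent.H37.RootSys

section Unip

variable {G F : Type*} [Group G] [Field F] (Y : Unip G F)

/-- An element normalising each root group of a closed set and moving each of its nontrivial
elements moves every nontrivial element of the group they generate. -/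
theorem XS_fixed {S : Finset ℕ} (hS : Y.Closed S) {h : G}
    (hconj : ∀ r ∈ S, ∀ t, ∃ t', h * Y.x r t * h⁻¹ = Y.x r t' ∧ (t' = t → t = 0))
    {g : G} (hg : g ∈ XS Y.x (↑S : Set ℕ)) (hfix : h * g * h⁻¹ = g) : g = 1 := by
  have hstab : ∀ k, ∀ g ∈ XS Y.x {r | r ∈ S ∧ k < r}, h * g * h⁻¹ ∈ XS Y.x {r | r ∈ S ∧ k < r} := by
    intro k g hg
    refine conj_mem_XS (fun r hr t => ?_) hg
    obtain ⟨t', e, -⟩ := hconj r hr.1 t
    exact e ▸ x_mem_XS hr t'
  suffices ∀ m k, S.sup id < k + m → ∀ g ∈ XS Y.x {r | r ∈ S ∧ k ≤ r},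
      h * g * h⁻¹ = g → g = 1 by
    refine this (S.sup id + 1) 0 (by omega) g (XS_mono ?_ hg) hfix
    exact fun r hr => ⟨hr, Nat.zero_le r⟩
  intro m
  induction m with
  | zero =>
      intro k hk g hg _
      have : {r | r ∈ S ∧ k ≤ r} = ∅ := by
        refine Set.eq_empty_iff_forall_notMem.2 fun r hr => ?_
        have := Finset.le_sup (f := id) hr.1
        simp only [id_eq] at this
        have := hr.2
        omega
      rw [this, XS_empty, Subgroup.mem_bot] at hg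
      exact hg
  | succ m ih =>
      intro k hk g hg hfix
      by_cases hkS : k ∈ S
      · obtain ⟨t, p, hp, rfl⟩ := Y.exists_head hS hkS hg
        obtain ⟨t', e, ht'⟩ := hconj k hkS t
        have e2 : Y.x k t' * (h * p * h⁻¹) = Y.x k t * p := by
          rw [← hfix, ← e]; group
        obtain ⟨et, ep⟩ := Y.head_unique hS hkS (hstab k p hp) hp e2
        rw [ht' et, Y.x_zero (hS.1 hkS), one_mul]
        exact ih (k + 1) (by omega) p hp ep
      · rw [Unip.tail_of_not_mem hkS] at hg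
        exact ih (k + 1) (by omega) g hg hfix

/-- The fixed elements lie in the root groups which are not moved. -/
theorem XS_fixed_to {S : Finset ℕ} (hS : Y.Closed S) (Z : Set ℕ) {h : G}
    (hconj : ∀ r ∈ S, ∀ t, ∃ t', h * Y.x r t * h⁻¹ = Y.x r t' ∧ (t' = t → t = 0 ∨ r ∈ Z))
    {g : G} (hg : g ∈ XS Y.x (↑S : Set ℕ)) (hfix : h * g * h⁻¹ = g) : g ∈ XS Y.x Z := by
  have hstab : ∀ k, ∀ g ∈ XS Y.x {r | r ∈ S ∧ k < r}, h * g * h⁻¹ ∈ XS Y.x {r | r ∈ S ∧ k < r} := by
    intro k g hg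
    refine conj_mem_XS (fun r hr t => ?_) hg
    obtain ⟨t', e, -⟩ := hconj r hr.1 t
    exact e ▸ x_mem_XS hr t'
  suffices ∀ m k, S.sup id < k + m → ∀ g ∈ XS Y.x {r | r ∈ S ∧ k ≤ r},
      h * g * h⁻¹ = g → g ∈ XS Y.x Z by
    refine this (S.sup id + 1) 0 (by omega) g (XS_mono ?_ hg) hfix
    exact fun r hr => ⟨hr, Nat.zero_le r⟩
  intro m
  induction m with
  | zero =>
      intro k hk g hg _
      have : {r | r ∈ S ∧ k ≤ r} = ∅ := by
        refine Set.eq_empty_iff_forall_notMem.2 fun r hr => ?_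
        have := Finset.le_sup (f := id) hr.1
        simp only [id_eq] at this
        have := hr.2
        omega
      rw [this, XS_empty, Subgroup.mem_bot] at hg
      rw [hg]
      exact one_mem _
  | succ m ih =>
      intro k hk g hg hfix
      by_cases hkS : k ∈ S
      · obtain ⟨t, p, hp, rfl⟩ := Y.exists_head hS hkS hg
        obtain ⟨t', e, ht'⟩ := hconj k hkS t
        have e2 : Y.x k t' * (h * p * h⁻¹) = Y.x k t * p := by
          rw [← hfix, ← e]; group
        obtain ⟨et, ep⟩ := Y.head_unique hS hkS (hstab k p hp) hp e2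
        refine mul_mem ?_ (ih (k + 1) (by omega) p hp ep)
        rcases ht' et with h0 | hZ
        · rw [h0, Y.x_zero (hS.1 hkS)]
          exact one_mem _
        · exact x_mem_XS hZ t
      · rw [Unip.tail_of_not_mem hkS] at hg
        exact ih (k + 1) (by omega) g hg hfix

end Unip

section Sys

variable {n : ℕ} {M : CoxeterMatrix (Fin n)} {C : Weyl.Cert} {D : ChevalleyDatum}
  {hC : Weyl.Good C D M} {G F : Type*} [Group G] [Field F] (S : Sys hC G F)

theorem closed_keep (w : M.Group) : S.toUnip.Closed (Sys.keep hC w) := by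
  refine ⟨fun r hr => ?_, fun r hr s hs _ k hk => ?_⟩
  · obtain ⟨h1, h2, -⟩ := Sys.mem_keep.1 hr
    exact S.P_eq ▸ mem_posSet.2 ⟨h1, h2⟩
  obtain ⟨hr1, hr2, hr3⟩ := Sys.mem_keep.1 hr
  obtain ⟨hs1, hs2, hs3⟩ := Sys.mem_keep.1 hs
  have hk1 := (S.T_pos (S.P_eq ▸ mem_posSet.2 ⟨hr1, hr2⟩) (S.P_eq ▸ mem_posSet.2 ⟨hs1, hs2⟩) hk).1
  rw [S.P_eq, mem_posSet] at hk1
  have hk2 := (S.T_pos (S.P_eq ▸ mem_posSet.2 ⟨Fin.isLt _, hr3⟩)
    (S.P_eq ▸ mem_posSet.2 ⟨Fin.isLt _, hs3⟩) (S.T_hom w r s k hr1 hs1 hk1.1 hk)).1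
  rw [S.P_eq, mem_posSet] at hk2
  exact Sys.mem_keep.2 ⟨hk1.1, hk1.2, hk2.2⟩

/-- The conjugate of a torus element by a representative moves the root elements whose images it
moves. -/
theorem rep_conj_moves (v : M.Group) {h z : G} (hh : h ∈ S.H) {r : ℕ} (hr : r < D.nroots) (t : F)
    (e : h = (S.rep v)⁻¹ * z * S.rep v)
    (hz : ∀ a, z * S.x (hC.hom v ⟨r, hr⟩).val a * z⁻¹ = S.x (hC.hom v ⟨r, hr⟩).val a →
      S.x (hC.hom v ⟨r, hr⟩).val a = 1) :
    ∃ t', h * S.x r t * h⁻¹ = S.x r t' ∧ (t' = t → S.x r t = 1) := by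
  obtain ⟨t', et⟩ := S.h_conj h hh r hr t
  refine ⟨t', et, fun ht => ?_⟩
  obtain ⟨a, ea⟩ := S.rep_conj v r hr t
  subst ht
  have h1 : z * S.x (hC.hom v ⟨r, hr⟩).val a * z⁻¹ = S.x (hC.hom v ⟨r, hr⟩).val a := by
    rw [← ea]
    calc z * (S.rep v * S.x r t' * (S.rep v)⁻¹) * z⁻¹
        = S.rep v * (h * S.x r t' * h⁻¹) * (S.rep v)⁻¹ := by rw [e]; group
      _ = _ := by rw [et]
  rw [hz a h1, conj_eq_one_iff] at ea
  exact ea

end Sys

end Cfsg.Agent.H84.Gauss
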