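import Cfsg.Agent.H84.Gauss.Main
import Cfsg.Agent.H40.Ree.RankOne

/-!
Permanence of fixed point freeness on the radicals of a Levi subgroup.
-/

set_option autoImplicit false
set_option linter.unusedSectionVars false

namespace Cfsg.Agent.H84.Gauss

open Cfsg.Agent.H13.Split
open Cfsg.Agent.H37 (Tits.Ambient)
open Cfsg.Agent.H40.Ree (rk)

variable {G W : Type*} [Group G] [Group W] {A : Tits.Ambient G W} {p : ℕ} {w₀ : W}

/-- An element with a power fixing nothing fixes nothing. -/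
theorem Fpf.of_pow {s : W} {x : G} (hx : x ∈ Lg A s) {k : ℕ} (h : Fpf A s w₀ (x ^ k)) :
    Fpf A s w₀ x := by
  have key : ∀ v : G, x * v * x⁻¹ = v → x ^ k * v * (x ^ k)⁻¹ = v := fun v hv => by
    have hc : Commute x v := mul_inv_eq_iff_eq_mul.1 hv
    rw [(hc.pow_left k).eq, mul_inv_cancel_right]
  exact ⟨hx, fun d hd => ⟨fun e => (h.2 d hd).1 (key _ e), fun e => (h.2 d hd).2 (key _ e)⟩⟩

theorem rk_le_Lg (s : W) : rk A s ≤ Lg A s :=
  sup_le (Uw_le_Lg s) (by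
    rintro _ ⟨x, hx, rfl⟩
    exact mul_mem (mul_mem (n_mem_Lg s) (Uw_le_Lg s hx)) (inv_mem (n_mem_Lg s)))

variable [Finite G] (hC : Ctx A p w₀)
include hC

/-- Fixed point freeness is invariant under conjugation in the Levi subgroup. -/
theorem Ctx.fpf_conj {s : W} (hs : s ∈ A.S) {x c : G} (hx : Fpf A s w₀ x) (hc : c ∈ Lg A s) :
    Fpf A s w₀ (c * x * c⁻¹) := by
  refine ⟨mul_mem (mul_mem hc hx.1) (inv_mem hc), fun d hd => ⟨fun e => ?_, fun e => ?_⟩⟩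
  · have h1 : x * (c⁻¹ * d * c) * x⁻¹ = c⁻¹ * d * c := by
      calc x * (c⁻¹ * d * c) * x⁻¹ = c⁻¹ * (c * x * c⁻¹ * d * (c * x * c⁻¹)⁻¹) * c := by group
        _ = _ := by rw [e]
    have h2 := (hx.2 _ (hC.Lg_rad hs hc d hd).2).1 h1
    calc d = c * (c⁻¹ * d * c) * c⁻¹ := by group
      _ = 1 := by rw [h2]; group
  · obtain ⟨d', hd', e'⟩ := hC.Lg_rad_opp hs (inv_mem hc) hd
    rw [inv_inv] at e'
    have h1 : x * (A.n w₀ * d' * (A.n w₀)⁻¹) * x⁻¹ = A.n w₀ * d' * (A.n w₀)⁻¹ := by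
      rw [← e']
      calc x * (c⁻¹ * (A.n w₀ * d * (A.n w₀)⁻¹) * c) * x⁻¹
          = c⁻¹ * (c * x * c⁻¹ * (A.n w₀ * d * (A.n w₀)⁻¹) * (c * x * c⁻¹)⁻¹) * c := by group
        _ = _ := by rw [e]
    rw [(hx.2 d' hd').2 h1, mul_one, mul_inv_cancel] at e'
    have h3 : A.n w₀ * d * (A.n w₀)⁻¹ = 1 := by
      calc A.n w₀ * d * (A.n w₀)⁻¹
          = c * (c⁻¹ * (A.n w₀ * d * (A.n w₀)⁻¹) * c) * c⁻¹ := by group
        _ = 1 := by rw [e']; group
    exact conj_eq_one_iff.1 h3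

end Cfsg.Agent.H84.Gauss
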