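import Cfsg.Agent.H84.Gauss.Main
import Cfsg.Agent.H84.Gauss.FixFree
import Cfsg.Agent.H84.Gauss.Fpf
import Cfsg.Agent.H13.Split.All
import Cfsg.Agent.H74.RootExt.TwGens
import Cfsg.Agent.H56.TwAut.D4
import Cfsg.Agent.H37.Twist.D4Perfect

/-!
`³D₄(q)` satisfies the standing hypotheses; radicals and the longest element.
-/

set_option autoImplicit false
set_option maxRecDepth 100000
set_option linter.unusedSectionVars false

namespace Cfsg.Agent.H84.Gauss.D4

open Cfsg.Lie Cfsg.Agent.H37 Cfsg.Agent.H37.RootSys Cfsg.Agent.H37.Twist Cfsg.Agent.H56.ChevAut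
open Cfsg.Agent.H56.TwAut Cfsg.Agent.H37.Twist.D4
open Cfsg.Agent.H13.Split Cfsg.Agent.H74.RootExt

universe u

variable {K : Type u} [Field K] [Fintype K] {φ : K →+* K} {q : ℕ}
  (hφ : ∀ t, φ t = t ^ q) (hK : Fintype.card K = q ^ 3)

/-- The group. -/
abbrev GD : Type u := ↥(model hφ hK).T

/-- Its Tits system. -/
noncomputable abbrev Ad := (model hφ hK).tw

/-- A fundamental reflection. -/
noncomputable abbrev sI (φ : K →+* K) (i : Fin 2) := (fold φ).gens i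

include hφ hK in
theorem finiteGD : Finite (GD hφ hK) :=
  Finite.of_injective (lift (model hφ hK)) (lift_injective _)

theorem sI_mem (i : Fin 2) : sI φ i ∈ (Ad hφ hK).S := ⟨i, rfl⟩

theorem w0_act : ∀ r : Fin 24,
    Weyl.certD4.act (Chev.longWord Weyl.certD4 4) r.val = 23 - r.val := by decide +kernel

theorem w0_val {r : ℕ} (hr : r < chevD4.nroots) :
    ((QD K).X.good.hom (QD K).X.w0 ⟨r, hr⟩).val = 23 - r := by
  have h2 := (QD K).X.extra
  simp only [Chev.extraB, Bool.and_eq_true, List.all_eq_true, decide_eq_true_eq] at h2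
  rw [Chev.TypeData.w0, (QD K).X.good.hom_wOf_val h2.1.1.2]
  exact w0_act ⟨r, hr⟩

theorem w0_comm (w : (QD K).X.M.Group) : w * (QD K).X.w0 = (QD K).X.w0 * w := by
  refine (QD K).X.good.hom_injective (Equiv.ext fun r => Fin.ext ?_)
  rw [map_mul, map_mul, Equiv.Perm.mul_apply, Equiv.Perm.mul_apply]
  have e : (QD K).X.good.hom (QD K).X.w0 r =
      ⟨chevD4.nroots - 1 - r.val, by have := r.isLt; omega⟩ :=
    Fin.ext (w0_val r.isLt)
  rw [e, w0_val (Fin.isLt _)]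
  exact (QD K).X.good.hom_neg w r

theorem w0_sq : (model hφ hK).w0 * (model hφ hK).w0 = 1 := by
  refine (fold φ).ι_inj ?_
  rw [map_mul, map_one, Model.ι_w0]
  have := inv_w0_mul (Q := QD K) (QD K).X.w0
  have h0 : (QD K).X.good.inv (QD K).X.w0 = chevD4.nroots / 2 := by
    have := inv_w0_mul (Q := QD K) 1
    rwa [mul_one, (QD K).X.good.inv_one, add_zero] at this
  exact (QD K).X.good.eq_one_of_inv_eq_zero (by omega)

theorem w0_cen (i : Fin 2) : sI φ i * (model hφ hK).w0 = (model hφ hK).w0 * sI φ i := by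
  refine (fold φ).ι_inj ?_
  rw [map_mul, map_mul, Model.ι_w0]
  exact w0_comm _

theorem ad_norm : ∀ s ∈ (Ad hφ hK).S, ∀ u ∈ (Ad hφ hK).U, ∀ d ∈ rad (Ad hφ hK) s,
    u * d * u⁻¹ ∈ rad (Ad hφ hK) s := by
  haveI := ringChar.charP K
  haveI := Fact.mk (CharP.char_is_prime K (ringChar K))
  exact (model_hyp (Φ := fold φ) (QD K) (ringChar K) (model hφ hK) (by decide)
    (of_decide_eq_true rfl) fun j => longest_D4 j).norm

theorem ad_sbase : SBase (Ad hφ hK) (ringChar K) (model hφ hK).w0 :=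
  Tw.sbase (S := H56.TwAut.D4.su K) (Md := model hφ hK) (H56.TwAut.D4.spec hφ hK)

theorem ctx : Ctx (Ad hφ hK) (ringChar K) (model hφ hK).w0 :=
  ⟨ad_sbase hφ hK, ad_norm hφ hK, by rintro _ ⟨i, rfl⟩; exact w0_cen hφ hK i, w0_sq hφ hK⟩

include hφ hK in
theorem ne_gens : sI φ 1 ≠ sI φ 0 := fun h =>
  (by decide : (1 : Fin 2) ≠ 0) ((H56.TwAut.D4.spec hφ hK).gens_inj h)

include hφ hK in
theorem hgen {i j : Fin 2} (hij : i ≠ j) : ∀ w ∈ Subgroup.closure ((Ad hφ hK).S \ {sI φ j}),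
    w = 1 ∨ w = sI φ i := by
  intro w hw
  have hle : Subgroup.closure ((Ad hφ hK).S \ {sI φ j}) ≤ Subgroup.zpowers (sI φ i) := by
    refine (Subgroup.closure_le _).2 ?_
    rintro _ ⟨⟨l, rfl⟩, hl⟩
    rcases (show ∀ i j l : Fin 2, i ≠ j → l = i ∨ l = j by decide) i j l hij with rfl | rfl
    · exact Subgroup.mem_zpowers _
    · exact absurd rfl hl
  obtain ⟨z, rfl⟩ := hle hw
  rcases Int.even_or_odd' z with ⟨l, rfl | rfl⟩ <;>
    simp [zpow_add, zpow_mul, zpow_ofNat, pow_two, (Ad hφ hK).sq_S _ (sI_mem hφ hK i)]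

theorem lift_rad {i : Fin 2} {d : GD hφ hK} (hd : d ∈ rad (Ad hφ hK) (sI φ i)) :
    lift (model hφ hK) d ∈ XS (QD K).sys.x
      (↑(Sys.keep (QD K).X.good ((fold φ).ι (sI φ i))) : Set ℕ) := by
  obtain ⟨k, hk, e⟩ := lift_n (model hφ hK) (sI φ i)
  have h1 := (mem_U (model hφ hK)).1 hd.1
  have h2 := (mem_U (model hφ hK)).1 hd.2
  refine mem_keep_of_conj (QD K).sys _ h1 ?_
  change lift (model hφ hK) ((Ad hφ hK).n (sI φ i) * d * ((Ad hφ hK).n (sI φ i))⁻¹) ∈ _ at h2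
  rw [lift_mul, lift_mul, lift_inv, e] at h2
  have h3 := (QD K).amb.H_conj_U k⁻¹ (inv_mem hk) _ h2
  show (QD K).amb.n ((fold φ).ι (sI φ i)) * _ * ((QD K).amb.n ((fold φ).ι (sI φ i)))⁻¹ ∈ (QD K).amb.U
  convert h3 using 1
  group

theorem keep_roots {i : Fin 2} {r : ℕ} (hr : r ∈ Sys.keep (QD K).X.good ((fold φ).ι (sI φ i))) :
    ∃ _ : r < chevD4.nroots, 12 ≤ r ∧ r ∉ orbL i.val := by
  obtain ⟨h1, h2, h3⟩ := Sys.mem_keep.1 hr
  refine ⟨h1, h2, fun hmem => ?_⟩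
  have h4 : r ∈ Sys.flip (QD K).X.good ((fold φ).ι (sI φ i)) := by
    rw [show sI φ i = (fold φ).gens i from rfl, H56.TwAut.D4.flip_eq, List.mem_toFinset]
    exact hmem
  obtain ⟨_, _, h5⟩ := Sys.mem_flip.1 h4
  exact absurd h5 (not_lt.2 h3)

/-- Elements of a radical fixed by a torus element lie in the root groups it does not move. -/
theorem rad_fixed {i : Fin 2} (Z : Set ℕ) (c : Fin chevD4.rank → Kˣ)
    (hc : ∀ r, 12 ≤ r → r < chevD4.nroots → r ∉ orbL i.val → r ∉ Z →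
      chT c r ≠ 1 ∧ chT c (23 - r) ≠ 1)
    {d : GD hφ hK} (hd : d ∈ rad (Ad hφ hK) (sI φ i)) {x : GD hφ hK}
    (hx : lift (model hφ hK) x = tG (QD K) c) :
    (x * d * x⁻¹ = d → lift (model hφ hK) d ∈ XS (QD K).sys.x Z) ∧
    (x * ((Ad hφ hK).n (model hφ hK).w0 * d * ((Ad hφ hK).n (model hφ hK).w0)⁻¹) * x⁻¹ =
        (Ad hφ hK).n (model hφ hK).w0 * d * ((Ad hφ hK).n (model hφ hK).w0)⁻¹ →
      lift (model hφ hK) d ∈ XS (QD K).sys.x Z) := by
  have hD := lift_rad hφ hK hd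
  have hcl := closed_keep (QD K).sys ((fold φ).ι (sI φ i))
  have hfix : ∀ r, ∀ hr : r < chevD4.nroots, chT c r ≠ 1 → ∀ a : K,
      tG (QD K) c * (QD K).sys.x r a * (tG (QD K) c)⁻¹ = (QD K).sys.x r a → a = 0 := by
    intro r hr hne a ha
    change tG (QD K) c * xG (QD K).K K r a * _ = xG (QD K).K K r a at ha
    rw [tG_conj (QD K) c hr] at ha
    by_contra ha0
    exact hne (Units.ext ((mul_left_eq_self₀.1 (xG_inj (QD K) hr ha)).resolve_right ha0))
  refine ⟨fun e => ?_, fun e => ?_⟩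
  · have e' := congrArg (lift (model hφ hK)) e
    rw [lift_mul, lift_mul, lift_inv, hx] at e'
    refine XS_fixed_to (QD K).sys.toUnip hcl Z (fun r hr t => ?_) hD e'
    obtain ⟨h1, h2, h3⟩ := keep_roots (K := K) hr
    refine ⟨(chT c r : K) * t, tG_conj (QD K) c h1 t, fun ht => ?_⟩
    by_cases hZ : r ∈ Z
    · exact Or.inr hZ
    refine Or.inl (hfix r h1 (hc r h2 h1 h3 hZ).1 t ?_)
    change tG (QD K) c * xG (QD K).K K r t * _ = xG (QD K).K K r t
    rw [tG_conj (QD K) c h1, ht]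
  · have e' := congrArg (lift (model hφ hK)) e
    obtain ⟨k, hk, ek⟩ := lift_n (model hφ hK) (model hφ hK).w0
    rw [Model.ι_w0] at ek
    simp only [lift_mul, lift_inv, hx, ek] at e'
    set N := (QD K).amb.n (QD K).X.w0 with hN
    set D := lift (model hφ hK) d
    obtain ⟨c', rfl⟩ := exists_tG (QD K) hk
    have hcomm : Commute (tG (QD K) c') (tG (QD K) c) := by
      show _ = _
      rw [← map_mul, ← map_mul, mul_comm]
    have e2 : N⁻¹ * tG (QD K) c * N * D * (N⁻¹ * tG (QD K) c * N)⁻¹ = D := by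
      set T := tG (QD K) c
      set T' := tG (QD K) c'
      calc N⁻¹ * T * N * D * (N⁻¹ * T * N)⁻¹
          = (T' * N)⁻¹ * (T' * T * T'⁻¹) * (T' * N * D * (T' * N)⁻¹) * (T' * T * T'⁻¹)⁻¹ *
              (T' * N) := by group
        _ = (T' * N)⁻¹ * (T * (T' * N * D * (T' * N)⁻¹) * T⁻¹) * (T' * N) := by
            rw [hcomm.eq, mul_inv_cancel_right]; group
        _ = D := by rw [e']; group
    refine XS_fixed_to (QD K).sys.toUnip hcl Z (fun r hr t => ?_) hD e2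
    obtain ⟨h1, h2, h3⟩ := keep_roots (K := K) hr
    have hw := w0_val (K := K) h1
    obtain ⟨t', e1⟩ := (QD K).sys.h_conj (N⁻¹ * tG (QD K) c * N)
      ((QD K).amb.n_conj_H' _ (tG_mem (QD K) c)) r h1 t
    refine ⟨t', e1, fun ht => ?_⟩
    by_cases hZ : r ∈ Z
    · exact Or.inr hZ
    obtain ⟨t'', e3, e4⟩ := rep_conj_moves (QD K).sys (QD K).X.w0
      (h := N⁻¹ * tG (QD K) c * N) ((QD K).amb.n_conj_H' _ (tG_mem (QD K) c)) h1 t rfl
      (fun a ha => by
        have hz0 := hfix _ (Fin.isLt _) (by rw [hw]; exact (hc r h2 h1 h3 hZ).2) a ha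
        rw [hz0]; exact (QD K).sys.x_zero' (Fin.isLt _))
    have h0 := e4 (ht ▸ xG_inj (QD K) h1 (e3.symm.trans e1))
    rw [← (QD K).sys.x_zero' h1] at h0
    exact Or.inl (xG_inj (QD K) h1 h0)

end Cfsg.Agent.H84.Gauss.D4
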