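import Cfsg.Agent.H84.Gauss.D4Long
import Cfsg.Agent.H84.Gauss.MatTwo

/-!
Every nontrivial element of `³D₄(q)`, `q ≥ 4`, is a product of two conjugates of one torus element.
-/

set_option autoImplicit false
set_option maxRecDepth 100000
set_option linter.unusedSectionVars false

namespace Cfsg.Agent.H84.Gauss.D4

open Cfsg.Lie Cfsg.Agent.H37 Cfsg.Agent.H37.RootSys Cfsg.Agent.H37.Twist Cfsg.Agent.H56.ChevAut
open Cfsg.Agent.H56.TwAut Cfsg.Agent.H37.Twist.D4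
open Cfsg.Agent.H13.Split Cfsg.Agent.H74.RootExt
open Cfsg.Agent.H87 (upMat lowMat)
open Cfsg.Agent.D4Cyclic (par nexp Pairs levHom diagPair)

/-- The exponent on a root. -/
def e4 (r : ℕ) : ℤ × ℤ × ℤ :=
  (3 * chevD4.cartan 0 r + chevD4.cartan 1 r, 3 * chevD4.cartan 2 r + chevD4.cartan 1 r,
    3 * chevD4.cartan 3 r + chevD4.cartan 1 r)

theorem e4_small : ∀ r < 24, r ∉ [14, 9] →
    (e4 r).1 ≠ 0 ∧ (e4 r).1.natAbs ≤ 5 ∧ (e4 r).2.1.natAbs ≤ 5 ∧ (e4 r).2.2.natAbs ≤ 5 ∧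
      ∀ q ∈ [4, 5, 6], ¬ ((q : ℕ) : ℤ) ^ 3 - 1 ∣ D4Cyclic.ev q (e4 r) := by decide +kernel

theorem e4_not_dvd {q : ℕ} (hq : 4 ≤ q) {r : ℕ} (hr : r < 24) (h : r ∉ [14, 9]) :
    ¬ ((q : ℤ) ^ 3 - 1) ∣ D4Cyclic.ev q (e4 r) := by
  obtain ⟨h0, h1, h2, h3, hsmall⟩ := e4_small r hr h
  by_cases h6 : q ≤ 6
  · exact hsmall q (by simp; omega)
  intro hd
  have hq7 : (7 : ℤ) ≤ q := by exact_mod_cast (show 7 ≤ q by omega)
  generalize e4 r = e at *
  obtain ⟨a, b, c⟩ := e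
  simp only [D4Cyclic.ev] at *
  have hb : |b * (q : ℤ)| ≤ 5 * q := by
    rw [abs_mul, Nat.abs_cast]
    exact mul_le_mul_of_nonneg_right (by rw [← Int.natCast_natAbs]; exact_mod_cast h2) (by omega)
  have hc : |c * ((q : ℤ) * q)| ≤ 5 * ((q : ℤ) * q) := by
    rw [abs_mul, abs_of_nonneg (show (0 : ℤ) ≤ (q : ℤ) * q by positivity)]
    exact mul_le_mul_of_nonneg_right (by rw [← Int.natCast_natAbs]; exact_mod_cast h3) (by positivity)
  have hz := Int.eq_zero_of_abs_lt_dvd hd (by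
    have ha : |a| ≤ 5 := by rw [← Int.natCast_natAbs]; exact_mod_cast h1
    have h7 : 7 * ((q : ℤ) * q) ≤ (q : ℤ) ^ 3 := by
      rw [show (q : ℤ) ^ 3 = (q : ℤ) * ((q : ℤ) * q) by ring]
      exact mul_le_mul_of_nonneg_right hq7 (by positivity)
    have h7' : 7 * (q : ℤ) ≤ (q : ℤ) * q := mul_le_mul_of_nonneg_right hq7 (by omega)
    have := abs_add_le (a + b * (q : ℤ)) (c * ((q : ℤ) * q))
    have := abs_add_le a (b * (q : ℤ))
    linarith)
  have hdiv : (q : ℤ) ∣ a := ⟨-(b + c * q), by linear_combination hz⟩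
  exact h0 (Int.eq_zero_of_abs_lt_dvd hdiv (by
    have : |a| ≤ 5 := by rw [← Int.natCast_natAbs]; exact_mod_cast h1
    omega))

universe u

variable {K : Type u} [Field K] [Fintype K] {φ : K →+* K} {q : ℕ}
  (hφ : ∀ t, φ t = t ^ q) (hK : Fintype.card K = q ^ 3)

/-- A pair from a diagonal matrix over the fixed field. -/
def dP (φ : K →+* K) (q : ℕ) (u : Kˣ) (a b : (kq φ))
    (h : (a : K) * b = ((u ^ nexp q : Kˣ) : K)) : ↥(Pairs φ q) :=
  mkP φ q u !![a, 0; 0, b] (by rw [Matrix.det_fin_two_of, mul_zero, sub_zero]; exact h)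

include hφ hK in
theorem lift_dP (u y : Kˣ) (hy : φ y = y) (b : kq φ)
    (h : ((⟨y, hy⟩ : kq φ) : K) * b = ((u ^ nexp q : Kˣ) : K)) :
    lift (model hφ hK) (LP hφ hK (dP φ q u ⟨y, hy⟩ b h)) = tG (QD K) (par q u y) := by
  have hb : (b : K) ≠ 0 := fun h0 => (u ^ nexp q).ne_zero (by rw [← h, h0, mul_zero])
  rw [lift_LP, ← D4Cyclic.levHom_diagPair (φ := φ) u y (Units.mk0 (b : K) hb) (Units.ext h) hy b.2]
  refine congrArg _ (mkP_ext rfl ?_)
  show (!![(⟨y, hy⟩ : kq φ), 0; 0, b]).map (kq φ).subtype = _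
  ext i j
  fin_cases i <;> fin_cases j <;> simp [diagPair]

/-- A prescribed product in the Levi subgroup splits into two conjugates of diagonal elements. -/
theorem pairs_split {u1 u2 : Kˣ} {a b a' b' : kq φ}
    (h1 : (a : K) * b = ((u1 ^ nexp q : Kˣ) : K)) (h2 : (a' : K) * b' = ((u2 ^ nexp q : Kˣ) : K))
    (hab : a ≠ b) (hab' : a' ≠ b') {M : Matrix (Fin 2) (Fin 2) (kq φ)}
    (hM : (M.det : K) = (((u1 * u2) ^ nexp q : Kˣ) : K))
    (hsc : ∀ c, M = !![c, 0; 0, c] → c = a * a' ∧ c = b * b' ∨ c = a * b' ∧ c = b * a') :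
    ∃ S R : Matrix.SpecialLinearGroup (Fin 2) (kq φ), mkP φ q (u1 * u2) M hM =
      slP φ q S * dP φ q u1 a b h1 * (slP φ q S)⁻¹ *
        (slP φ q R * dP φ q u2 a' b' h2 * (slP φ q R)⁻¹) := by
  have hne : ∀ {x y : kq φ} {u : Kˣ}, (x : K) * y = ((u ^ nexp q : Kˣ) : K) → x ≠ 0 ∧ y ≠ 0 := by
    intro x y u h
    refine ⟨fun h0 => ?_, fun h0 => ?_⟩ <;>
      exact (u ^ nexp q).ne_zero (by rw [← h, h0]; simp)
  have hdet : M.det = a * b * (a' * b') := Subtype.ext (by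
    rw [hM, mul_pow, Units.val_mul, ← h1, ← h2]; rfl)
  obtain ⟨S, R, e⟩ := mat_prod (hne h1).1 (hne h1).2 (hne h2).1 hab hab' hdet hsc
  refine ⟨S, R, ?_⟩
  have hinv : ∀ T, (slP φ q T)⁻¹ = slP φ q T⁻¹ := fun T =>
    (map_inv (MonoidHom.mk' (slP φ q) slP_mul) T).symm
  rw [hinv, hinv, slP, slP, slP, slP, dP, dP, mkP_mul, mkP_mul, mkP_mul, mkP_mul, mkP_mul]
  exact mkP_ext (by simp [mkP]) (congrArg (fun N => N.map (kq φ).subtype) e)

theorem dP_inv {u : Kˣ} {a b : kq φ} (h : (a : K) * b = ((u ^ nexp q : Kˣ) : K))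
    (h' : ((a⁻¹ : kq φ) : K) * (b⁻¹ : kq φ) = ((u⁻¹ ^ nexp q : Kˣ) : K)) :
    dP φ q u⁻¹ a⁻¹ b⁻¹ h' = (dP φ q u a b h)⁻¹ := by
  have ha : a ≠ 0 := fun h0 => (u ^ nexp q).ne_zero (by rw [← h, h0]; simp)
  have hb : b ≠ 0 := fun h0 => (u ^ nexp q).ne_zero (by rw [← h, h0]; simp)
  refine eq_inv_of_mul_eq_one_left ?_
  rw [dP, dP, mkP_mul]
  refine mkP_ext (inv_mul_cancel u) ?_
  show (!![a⁻¹, 0; 0, b⁻¹] * !![a, 0; 0, b]).map (kq φ).subtype = 1
  rw [Matrix.mul_fin_two]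
  simp only [mul_zero, zero_mul, add_zero, zero_add, inv_mul_cancel₀ ha, inv_mul_cancel₀ hb]
  rw [← Matrix.one_fin_two, Matrix.map_one _ (map_zero _) (map_one _)]

theorem chT_par_pow (U : Kˣ) (r : ℕ) :
    chT (par q (U ^ 3) (U ^ nexp q)) r = U ^ D4Cyclic.ev q (e4 r) := by
  rw [D4Cyclic.chT_par]
  simp only [← zpow_natCast, ← zpow_mul, ← zpow_add]
  congr 1
  simp only [e4, D4Cyclic.ev, nexp]
  push_cast
  ring

theorem four_two_conj (hq : 4 ≤ q) : ∃ x : GD hφ hK, x ∈ (Ad hφ hK).H ∧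
    ∀ g : GD hφ hK, g ≠ 1 → ∃ u v : GD hφ hK, g = u * x * u⁻¹ * (v * x * v⁻¹) := by
  haveI := finiteGD hφ hK
  have hC := ctx hφ hK
  set A := Ad hφ hK
  obtain ⟨U, hU⟩ := IsCyclic.exists_ofOrder_eq_natCard (α := Kˣ)
  rw [Nat.card_units, Nat.card_eq_fintype_card, hK] at hU
  have hq3 : 1 ≤ q ^ 3 := Nat.one_le_pow _ _ (by omega)
  have hUz : (orderOf U : ℤ) = (q : ℤ) ^ 3 - 1 := by rw [hU]; push_cast [hq3]; ring
  set g := U ^ nexp q with hg
  have hgf : φ (g : K) = g := by rw [hφ, ← Units.val_pow_eq_pow_val, hg, D4Cyclic.norm_fixed hK]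
  have og : orderOf g = q - 1 := by
    rw [hg, orderOf_pow, hU]
    have e : q ^ 3 - 1 = nexp q * (q - 1) := by
      obtain ⟨r, rfl⟩ := Nat.exists_eq_add_of_le (show 1 ≤ q by omega)
      rw [Nat.add_sub_cancel_left, nexp]
      refine Nat.sub_eq_of_eq_add ?_
      ring
    rw [e, Nat.gcd_mul_right_left, Nat.mul_div_cancel_left _ (by rw [nexp]; omega)]
  have hg1 : g ≠ 1 := fun h => by rw [h, orderOf_one] at og; omega
  have hg2 : g ^ 2 ≠ 1 := fun h => by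
    have := Nat.le_of_dvd two_pos (orderOf_dvd_of_pow_eq_one h)
    omega
  set a : kq φ := ⟨g, hgf⟩
  set b : kq φ := a ^ 2
  have hab : (a : K) * b = (((U ^ 3) ^ nexp q : Kˣ) : K) := by
    show (g : K) * (g : K) ^ 2 = _
    rw [← pow_mul, mul_comm 3, pow_mul, Units.val_pow_eq_pow_val]
    show (g : K) * (g : K) ^ 2 = (g : K) ^ 3
    ring
  have hne : a ≠ b := fun h => hg1 (Units.ext (by
    have h' : (g : K) = (g : K) ^ 2 := congrArg Subtype.val h
    rw [Units.val_one]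
    exact (mul_eq_left₀ g.ne_zero).1 (by rw [← pow_two, ← h'])))
  set x := LP hφ hK (dP φ q (U ^ 3) a b hab) with hxdef
  have hxl : lift (model hφ hK) x = tG (QD K) (par q (U ^ 3) g) := lift_dP hφ hK _ _ _ _ _
  have hxH : x ∈ A.H := (mem_H (model hφ hK)).2 (hxl ▸ tG_mem _ _)
  refine ⟨x, hxH, fun w hw => ?_⟩
  have hchar : ∀ r, 12 ≤ r → r < 24 → r ∉ orbL (1 : Fin 2).val →
      chT (par q (U ^ 3) g) r ≠ 1 ∧ chT (par q (U ^ 3) g) (23 - r) ≠ 1 := by
    intro r h12 h24 h14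
    have hr : r ∉ [14, 9] ∧ 23 - r ∉ [14, 9] := by
      have h14' : r ≠ 14 := fun h => h14 (by simp [h, orbL])
      simp only [List.mem_cons, List.not_mem_nil, or_false]
      omega
    constructor <;> rw [hg, chT_par_pow] <;> intro h <;>
      refine e4_not_dvd hq ?_ ?_ (hUz ▸ orderOf_dvd_iff_zpow_eq_one.2 h) <;>
      first | omega | exact hr.1 | exact hr.2
  have hfpf : Fpf A (sI φ 1) (model hφ hK).w0 x := by
    refine ⟨H_le_Lg _ hxH, fun d hd => ?_⟩
    obtain ⟨f1, f2⟩ := rad_fixed hφ hK (i := 1) ∅ (par q (U ^ 3) g)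
      (fun r h12 h24 hr _ => hchar r h12 h24 hr) hd hxl
    have fin : lift (model hφ hK) d ∈ XS (QD K).sys.x (∅ : Set ℕ) → d = 1 := fun h => by
      rw [XS_empty, Subgroup.mem_bot] at h
      exact lift_injective _ (h.trans (map_one (liftHom (model hφ hK))).symm)
    exact ⟨fun e => fin (f1 e), fun e => fin (f2 e)⟩
  have hfpfi : Fpf A (sI φ 1) (model hφ hK).w0 x⁻¹ := by
    refine ⟨inv_mem hfpf.1, fun d hd => ⟨fun e => (hfpf.2 d hd).1 ?_, fun e => (hfpf.2 d hd).2 ?_⟩⟩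
    all_goals
      have h : ∀ z : GD hφ hK, x⁻¹ * z * x⁻¹⁻¹ = z → x * z * x⁻¹ = z := fun z hz => by
        conv_lhs => rw [← hz]
        group
      exact h _ e
  obtain ⟨c, hc⟩ := isConj_iff.1 (torus_conj_inv hφ hK hxH)
  refine hC.two_conj (sI_mem hφ hK 1) (sI_mem hφ hK 0) (ne_gens hφ hK)
    (hgen hφ hK (i := 1) (j := 0) (by decide)) (H37.Twist.D4.simple hφ hK).1 (adjust_short hφ hK) ?_ hw
  intro h hh
  obtain ⟨u, y, hy, hl⟩ := D4Cyclic.exists_par hφ hK ((mem_H (model hφ hK)).1 hh)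
    (((model hφ hK).iso.symm h).2 |> fun e => by rwa [iso_symm_coe] at e)
  have hyf : φ (y : K) = y := by rw [hφ, ← Units.val_pow_eq_pow_val, hy]
  set yk : kq φ := ⟨y, hyf⟩
  have hLg : ∀ S : ↥(Pairs φ q), (∃ T, S = slP φ q T) → LP hφ hK S ∈ Lg A (sI φ 1) := by
    rintro _ ⟨T, rfl⟩
    rw [LP_slP]
    have hle : (⊤ : Subgroup (Matrix.SpecialLinearGroup (Fin 2) (kq φ))) ≤
        (Lg A (sI φ 1)).comap (fL hφ hK) := by
      rw [← Chevalley.SL2Hom.closure_upMat_lowMat, Subgroup.closure_le]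
      rintro _ (⟨t, rfl⟩ | ⟨t, rfl⟩)
      · exact Uw_le_Lg _ (fL_up_mem hφ hK t)
      · obtain ⟨e, he, ee⟩ := fL_opp hφ hK t
        show fL hφ hK (lowMat t) ∈ Lg A (sI φ 1)
        rw [ee]
        exact mul_mem (mul_mem (n_mem_Lg _) (Uw_le_Lg _ he)) (inv_mem (n_mem_Lg _))
    exact hle (Subgroup.mem_top T)
  -- products in the Levi subgroup
  have main : ∀ (u' : Kˣ) (b' : kq φ) (hb' : (yk : K) * b' = ((u' ^ nexp q : Kˣ) : K))
      (e e' : GD hφ hK), e ∈ A.Uw (sI φ 1) → e' ∈ A.Uw (sI φ 1) →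
      ∃ M : Matrix (Fin 2) (Fin 2) (kq φ), ∃ hM : (M.det : K) = ((u' ^ nexp q : Kˣ) : K),
        A.n (sI φ 1) * e * (A.n (sI φ 1))⁻¹ * LP hφ hK (dP φ q u' yk b' hb') * e' =
          LP hφ hK (mkP φ q u' M hM) ∧ ∀ c, M = !![c, 0; 0, c] → c = yk ∧ yk = b' := by
    intro u' b' hb' e e' he he'
    obtain ⟨r, hr⟩ := (long_cases hφ hK he).2
    obtain ⟨s, rfl⟩ := (long_cases hφ hK he').1
    have hdet : ((((lowMat r : Matrix.SpecialLinearGroup (Fin 2) (kq φ)) :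
        Matrix (Fin 2) (Fin 2) (kq φ)) * !![yk, 0; 0, b'] *
        ((upMat s : Matrix.SpecialLinearGroup (Fin 2) (kq φ)) :
        Matrix (Fin 2) (Fin 2) (kq φ))).det : K) = ((u' ^ nexp q : Kˣ) : K) := by
      rw [Matrix.det_mul, Matrix.det_mul, (lowMat r).2, (upMat s).2, one_mul, mul_one,
        Matrix.det_fin_two_of, mul_zero, sub_zero]
      exact hb'
    refine ⟨_, hdet, ?_, fun c hcM => ?_⟩
    · rw [hr, ← LP_slP, ← LP_slP, ← map_mul, ← map_mul, slP, slP, dP, mkP_mul, mkP_mul]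
      exact congrArg _ (mkP_ext (by simp [mkP]) rfl)
    · rw [H87.lowMat_coe, H87.upMat_coe, Matrix.mul_fin_two, Matrix.mul_fin_two] at hcM
      have e00 := congrFun (congrFun hcM 0) 0
      have e01 := congrFun (congrFun hcM 0) 1
      have e11 := congrFun (congrFun hcM 1) 1
      simp at e00 e01 e11
      have hy0 : yk ≠ 0 := fun h0 => y.ne_zero (congrArg Subtype.val h0)
      have hs : s = 0 := e01.resolve_left hy0
      rw [hs] at e11
      simp at e11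
      exact ⟨e00.symm, e00.trans e11.symm⟩
  have tau : ∀ u' : Kˣ, ∀ b' : kq φ, ∀ hb' : (yk : K) * b' = ((u' ^ nexp q : Kˣ) : K),
      ∃ τ ∈ Set.range fun d => fS hφ hK (dm d), h * τ ∈ A.H ∧
        h * τ = LP hφ hK (dP φ q u' yk b' hb') := by
    intro u' b' hb'
    refine ⟨_, ⟨u⁻¹ * u', rfl⟩, mul_mem hh ((mem_H (model hφ hK)).2 ?_), lift_injective _ ?_⟩
    · rw [fS_dm]; exact tG_mem _ _
    · rw [lift_mul, ← hl, fS_dm, ← map_mul, ← D4Cyclic.par_mul, mul_one, mul_inv_cancel_left]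
      exact (lift_dP hφ hK u' y hyf b' hb').symm
  have conjLP : ∀ (S p : ↥(Pairs φ q)),
      LP hφ hK (S * p * S⁻¹) = LP hφ hK S * LP hφ hK p * (LP hφ hK S)⁻¹ := fun S p => by
    rw [map_mul, map_mul, map_inv]
  by_cases hy1 : y = -1 ∧ (-1 : Kˣ) ≠ 1
  · -- the product of two conjugates of `x`
    have hb' : (yk : K) * ((a * b * (a * b) * -1 : kq φ) : K) =
        (((U ^ 3 * U ^ 3) ^ nexp q : Kˣ) : K) := by
      rw [mul_pow, Units.val_mul, ← hab]
      show (y : K) * ((a : K) * b * ((a : K) * b) * -1) = _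
      rw [hy1.1, Units.val_neg, Units.val_one]
      ring
    obtain ⟨τ, hτ, hτH, eτ⟩ := tau (U ^ 3 * U ^ 3) (a * b * (a * b) * -1) hb'
    refine ⟨τ, hτ, hτH, fun e he e' he' => ?_⟩
    obtain ⟨M, hM, eM, hMs⟩ := main _ _ hb' e e' he he'
    obtain ⟨S, R, eSR⟩ := pairs_split (φ := φ) hab hab hne hne (M := M) hM fun c hcM => by
      obtain ⟨h1, h2⟩ := hMs c hcM
      right
      subst h1
      have h3 : (yk : K) = -1 := by
        show (y : K) = -1
        rw [hy1.1, Units.val_neg, Units.val_one]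
      have h4 : (a : K) * b * (a * b) = 1 := by
        have := congrArg Subtype.val h2
        simp only [h3] at this
        push_cast at this
        linear_combination this
      have h5 : (a : K) * b = 1 ∨ (a : K) * b = -1 := mul_self_eq_one_iff.1 h4
      have key : (yk : K) = a * b := by
        rcases h5 with h5 | h5
        · exfalso
          have hg3 : g ^ 3 = 1 := Units.ext (by
            rw [Units.val_pow_eq_pow_val, Units.val_one, ← h5]
            show _ = (g : K) * (g : K) ^ 2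
            ring)
          have h6 := Nat.le_of_dvd three_pos (orderOf_dvd_of_pow_eq_one hg3)
          have hq4 : q = 4 := by omega
          refine hy1.2 (Units.ext ?_)
          haveI := ringChar.charP K
          have hchar : (2 : K) = 0 := by
            have h64 : ((Fintype.card K : ℕ) : K) = 0 := FiniteField.cast_card_eq_zero K
            rw [hK, hq4] at h64
            push_cast at h64
            exact pow_eq_zero_iff (n := 6) (by norm_num) |>.1 (by linear_combination h64)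
          rw [Units.val_neg, Units.val_one]
          linear_combination -hchar
        · rw [h5, h3]
      exact ⟨Subtype.ext (by rw [key]; rfl), Subtype.ext (by rw [key, mul_comm]; rfl)⟩
    refine ⟨LP hφ hK (slP φ q S), LP hφ hK (slP φ q R), hC.fpf_conj (sI_mem hφ hK 1) hfpf
      (hLg _ ⟨S, rfl⟩), hC.fpf_conj (sI_mem hφ hK 1) hfpf (hLg _ ⟨R, rfl⟩), ?_⟩
    rw [eτ, eM, eSR, map_mul, conjLP, conjLP]
  · -- the product of a conjugate of `x` and a conjugate of `x⁻¹`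
    have hy0 : yk ≠ 0 := fun h0 => y.ne_zero (congrArg Subtype.val h0)
    have hb' : (yk : K) * (yk⁻¹ : kq φ) = (((U ^ 3 * (U ^ 3)⁻¹) ^ nexp q : Kˣ) : K) := by
      rw [mul_inv_cancel, one_pow, Units.val_one, ← Subfield.coe_mul, mul_inv_cancel₀ hy0]
      rfl
    have hab' : ((a⁻¹ : kq φ) : K) * (b⁻¹ : kq φ) = (((U ^ 3)⁻¹ ^ nexp q : Kˣ) : K) := by
      rw [inv_pow, Units.val_inv_eq_inv_val, ← hab, Subfield.coe_inv, Subfield.coe_inv, mul_inv]
    obtain ⟨τ, hτ, hτH, eτ⟩ := tau (U ^ 3 * (U ^ 3)⁻¹) yk⁻¹ hb'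
    refine ⟨τ, hτ, hτH, fun e he e' he' => ?_⟩
    obtain ⟨M, hM, eM, hMs⟩ := main _ _ hb' e e' he he'
    obtain ⟨S, R, eSR⟩ := pairs_split (φ := φ) hab hab' hne (inv_injective.ne hne) (M := M) hM
      fun c hcM => by
        obtain ⟨h1, h2⟩ := hMs c hcM
        left
        subst h1
        have ha0 : a ≠ 0 := fun h0 => g.ne_zero (congrArg Subtype.val h0)
        have hb0 : b ≠ 0 := pow_ne_zero _ ha0
        have hsq : (yk : K) * yk = 1 := by
          have h3 : (yk : K) * (yk⁻¹ : kq φ) = 1 := by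
            rw [← Subfield.coe_mul, mul_inv_cancel₀ hy0]; rfl
          rwa [← h2] at h3
        have h1 : yk = 1 := by
          rcases mul_self_eq_one_iff.1 hsq with h5 | h5
          · exact Subtype.ext h5
          · by_contra hne1
            refine hy1 ⟨Units.ext (by rw [Units.val_neg, Units.val_one]; exact h5), fun h6 => ?_⟩
            refine hne1 (Subtype.ext (h5.trans ?_))
            have := congrArg Units.val h6
            rwa [Units.val_neg, Units.val_one] at this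
        rw [h1, mul_inv_cancel₀ ha0, mul_inv_cancel₀ hb0]
        exact ⟨rfl, rfl⟩
    refine ⟨LP hφ hK (slP φ q S), LP hφ hK (slP φ q R) * c,
      hC.fpf_conj (sI_mem hφ hK 1) hfpf (hLg _ ⟨S, rfl⟩), ?_, ?_⟩
    · rw [show LP hφ hK (slP φ q R) * c * x * (LP hφ hK (slP φ q R) * c)⁻¹ =
        LP hφ hK (slP φ q R) * (c * x * c⁻¹) * (LP hφ hK (slP φ q R))⁻¹ by group, hc]
      exact hC.fpf_conj (sI_mem hφ hK 1) hfpfi (hLg _ ⟨R, rfl⟩)
    · rw [eτ, eM, eSR, map_mul, conjLP, conjLP, dP_inv hab hab', map_inv, ← hxdef,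
        show LP hφ hK (slP φ q R) * c * x * (LP hφ hK (slP φ q R) * c)⁻¹ =
        LP hφ hK (slP φ q R) * (c * x * c⁻¹) * (LP hφ hK (slP φ q R))⁻¹ by group, hc]

end Cfsg.Agent.H84.Gauss.D4
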