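import Cfsg.Agent.H84.Gauss.D4Short
import Cfsg.Agent.D4Cyclic.Main

/-!
The long root Levi subgroup of `³D₄(q)`: homomorphism, reflections on the torus, inversion by the
longest element.
-/

set_option autoImplicit false
set_option maxRecDepth 100000
set_option linter.unusedSectionVars false

namespace Cfsg.Agent.H84.Gauss.D4

open Cfsg.Lie Cfsg.Agent.H37 Cfsg.Agent.H37.RootSys Cfsg.Agent.H37.Twist Cfsg.Agent.H56.ChevAut
open Cfsg.Agent.H56.TwAut Cfsg.Agent.H37.Twist.D4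
open Cfsg.Agent.H13.Split Cfsg.Agent.H74.RootExt
open Cfsg.Agent.H87 (upMat lowMat)
open Cfsg.Agent.H37.NormalForm
open Cfsg.Agent.H54.Presentation (SL2Rels)
open Cfsg.Agent.D4Cyclic (par nexp Pairs levHom diagPair)

/-- Conjugation of a torus element by the reflection of a parametrised `SL₂`. -/
theorem sl2_reflect {G k : Type*} [Group G] [Field k]
    (f : Matrix.SpecialLinearGroup (Fin 2) k →* G) {h : G} (c : kˣ)
    (hu : ∀ t, h * f (upMat t) * h⁻¹ = f (upMat ((c : k) * t)))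
    (hl : ∀ t, h * f (lowMat t) * h⁻¹ = f (lowMat (((c⁻¹ : kˣ) : k) * t))) :
    f (upMat 1 * lowMat (-1) * upMat 1) * h * (f (upMat 1 * lowMat (-1) * upMat 1))⁻¹ =
      f (dm c⁻¹) * h := by
  set w := upMat (1 : k) * lowMat (-1) * upMat 1
  have h1 : upMat (c : k) * lowMat (-((c⁻¹ : kˣ) : k)) * upMat (c : k) = dm c * w := by
    refine H87.sl2_ext ?_
    simp only [w, Matrix.SpecialLinearGroup.coe_mul, dm_coe, H87.upMat_coe, H87.lowMat_coe,
      Matrix.mul_fin_two]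
    have h0 := c.ne_zero
    ext i j
    fin_cases i <;> fin_cases j <;> simp <;> (try field_simp)
  have h2 : h * f w * h⁻¹ = f (dm c) * f w := by
    rw [← map_mul, ← h1]
    simp only [w, map_mul]
    rw [show h * (f (upMat 1) * f (lowMat (-1)) * f (upMat 1)) * h⁻¹ =
      (h * f (upMat 1) * h⁻¹) * (h * f (lowMat (-1)) * h⁻¹) * (h * f (upMat 1) * h⁻¹) by group,
      hu, hl, mul_one, mul_neg_one]
  have h3 : f (dm c⁻¹) * f (dm c) = 1 := by
    rw [← map_mul, dm_mul, inv_mul_cancel, show dm (1 : kˣ) = 1 from H87.sl2_ext (by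
      rw [dm_coe, Matrix.SpecialLinearGroup.coe_one, inv_one, Units.val_one, Matrix.one_fin_two]),
      map_one]
  calc f w * h * (f w)⁻¹ = f (dm c⁻¹) * (f (dm c) * f w) * h * (f w)⁻¹ := by
        rw [← mul_assoc (f (dm c⁻¹)), h3, one_mul]
    _ = f (dm c⁻¹) * h := by rw [← h2]; group

universe u

variable {K : Type u} [Field K] [Fintype K] {φ : K →+* K} {q : ℕ}
  (hφ : ∀ t, φ t = t ^ q) (hK : Fintype.card K = q ^ 3)

theorem exists_LP : ∃ L : ↥(Pairs φ q) →* GD hφ hK,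
    ∀ p, lift (model hφ hK) (L p) = levHom φ q p :=
  ⟨(model hφ hK).iso.toMonoidHom.comp ((levHom φ q).codRestrict (fixedPts (endo φ).σ)
    fun p => D4Cyclic.levHom_fixed hφ hK p), fun _ => lift_iso _ _⟩

/-- The homomorphism onto the long root Levi subgroup. -/
noncomputable def LP : ↥(Pairs φ q) →* GD hφ hK := (exists_LP hφ hK).choose

theorem lift_LP (p : ↥(Pairs φ q)) : lift (model hφ hK) (LP hφ hK p) = levHom φ q p :=
  (exists_LP hφ hK).choose_spec p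

/-- The fixed field. -/
abbrev kq (φ : K →+* K) : Subfield K := RingHom.eqLocusField φ (RingHom.id K)

theorem det_kq (φ : K →+* K) (M : Matrix (Fin 2) (Fin 2) (kq φ)) :
    (M.map (kq φ).subtype).det = (M.det : K) := ((kq φ).subtype.map_det M).symm

theorem det_kq_ne (φ : K →+* K) (q : ℕ) (u : Kˣ) (M : Matrix (Fin 2) (Fin 2) (kq φ))
    (h : (M.det : K) = ((u ^ nexp q : Kˣ) : K)) : (M.map (kq φ).subtype).det ≠ 0 :=
  fun h0 => (u ^ nexp q).ne_zero (h.symm.trans ((det_kq φ M).symm.trans h0))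

/-- A pair from a matrix over the fixed field. -/
def mkP (φ : K →+* K) (q : ℕ) (u : Kˣ) (M : Matrix (Fin 2) (Fin 2) (kq φ))
    (h : (M.det : K) = ((u ^ nexp q : Kˣ) : K)) : ↥(Pairs φ q) :=
  ⟨(u, Matrix.GeneralLinearGroup.mkOfDetNeZero (M.map (kq φ).subtype) (det_kq_ne φ q u M h)),
    (det_kq φ M).trans h, fun i j => (M i j).2⟩

theorem mkP_ext {p p' : ↥(Pairs φ q)} (h1 : p.1.1 = p'.1.1)
    (h2 : (p.1.2 : Matrix (Fin 2) (Fin 2) K) = (p'.1.2 : Matrix (Fin 2) (Fin 2) K)) : p = p' :=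
  Subtype.ext (Prod.ext h1 (Units.ext h2))

theorem mkP_mul (u u' : Kˣ) (M M' : Matrix (Fin 2) (Fin 2) (kq φ))
    (h : (M.det : K) = ((u ^ nexp q : Kˣ) : K)) (h' : (M'.det : K) = ((u' ^ nexp q : Kˣ) : K)) :
    mkP φ q u M h * mkP φ q u' M' h' = mkP φ q (u * u') (M * M')
      (by rw [Matrix.det_mul, Subfield.coe_mul, h, h', mul_pow, Units.val_mul]) :=
  mkP_ext rfl (by
    show M.map (kq φ).subtype * M'.map (kq φ).subtype = (M * M').map (kq φ).subtype
    rw [Matrix.map_mul])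

theorem det_sl (S : Matrix.SpecialLinearGroup (Fin 2) (kq φ)) :
    ((S : Matrix (Fin 2) (Fin 2) (kq φ)).det : K) = (((1 : Kˣ) ^ nexp q : Kˣ) : K) := by
  rw [S.2, one_pow]; rfl

/-- A pair from an element of `SL₂` over the fixed field. -/
def slP (φ : K →+* K) (q : ℕ) (S : Matrix.SpecialLinearGroup (Fin 2) (kq φ)) : ↥(Pairs φ q) :=
  mkP φ q 1 (S : Matrix (Fin 2) (Fin 2) (kq φ)) (det_sl S)

theorem slP_mul (S R : Matrix.SpecialLinearGroup (Fin 2) (kq φ)) :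
    slP φ q (S * R) = slP φ q S * slP φ q R := by
  rw [slP, slP, slP, mkP_mul]
  exact mkP_ext (one_mul (1 : Kˣ)).symm rfl

/-- The homomorphism onto the long root rank one subgroup. -/
noncomputable def fL : Matrix.SpecialLinearGroup (Fin 2) (kq φ) →* GD hφ hK :=
  (LP hφ hK).comp (MonoidHom.mk' (slP φ q) slP_mul)

theorem LP_slP (S : Matrix.SpecialLinearGroup (Fin 2) (kq φ)) :
    LP hφ hK (slP φ q S) = fL hφ hK S := rfl

theorem lift_fL (S : Matrix.SpecialLinearGroup (Fin 2) (kq φ)) :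
    lift (model hφ hK) (fL hφ hK S) =
      D4Cyclic.lev K (Matrix.SpecialLinearGroup.map (kq φ).subtype S) := by
  rw [fL, MonoidHom.comp_apply, lift_LP, D4Cyclic.levHom_apply]
  have e : D4Cyclic.unimod (slP φ q S) = Matrix.SpecialLinearGroup.map (kq φ).subtype S := by
    refine H87.sl2_ext ?_
    rw [D4Cyclic.unimod_coe]
    show !![_, _; ((((1 : Kˣ) ^ nexp q)⁻¹ : Kˣ) : K) * _, ((((1 : Kˣ) ^ nexp q)⁻¹ : Kˣ) : K) * _] = _
    rw [one_pow, inv_one, Units.val_one, one_mul, one_mul]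
    exact (Matrix.eta_fin_two _).symm
  show tG (QD K) (par q (slP φ q S).1.1 1) * D4Cyclic.lev K (D4Cyclic.unimod (slP φ q S)) = _
  rw [e, show par q (slP φ q S).1.1 1 = 1 from D4Cyclic.par_one q, map_one, one_mul]

theorem fL_up (t : kq φ) : lift (model hφ hK) (fL hφ hK (upMat t)) = xe 14 (t : K) := by
  rw [lift_fL, ← D4Cyclic.lev_up]
  congr 1
  refine H87.sl2_ext ?_
  show (upMat t : Matrix (Fin 2) (Fin 2) (kq φ)).map (kq φ).subtype = _
  rw [H87.upMat_coe, H87.upMat_coe]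
  ext i j
  fin_cases i <;> fin_cases j <;> simp

theorem fL_low (t : kq φ) : lift (model hφ hK) (fL hφ hK (lowMat t)) = xe 9 (t : K) := by
  rw [lift_fL, ← D4Cyclic.lev_low]
  congr 1
  refine H87.sl2_ext ?_
  show (lowMat t : Matrix (Fin 2) (Fin 2) (kq φ)).map (kq φ).subtype = _
  rw [H87.lowMat_coe, H87.lowMat_coe]
  ext i j
  fin_cases i <;> fin_cases j <;> simp

include hφ in
theorem coe_fixed (y : (kq φ)ˣ) : (Units.map ((kq φ).subtype : kq φ →* K) y) ^ q =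
    Units.map ((kq φ).subtype : kq φ →* K) y := by
  refine Units.ext ?_
  rw [Units.val_pow_eq_pow_val, ← hφ]
  exact (y : kq φ).2

theorem fL_dm (y : (kq φ)ˣ) : lift (model hφ hK) (fL hφ hK (dm y)) =
    tG (QD K) (par q 1 (Units.map ((kq φ).subtype : kq φ →* K) y)) := by
  rw [lift_fL, ← D4Cyclic.lev_diag (q := q)]
  congr 1
  have e : SL2Rels.hEl upMat lowMat ((Units.map ((kq φ).subtype : kq φ →* K) y : Kˣ) : K) =
      dg (Units.map ((kq φ).subtype : kq φ →* K) y) := rfl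
  rw [e]
  refine H87.sl2_ext ?_
  show (dm y : Matrix (Fin 2) (Fin 2) (kq φ)).map (kq φ).subtype = _
  rw [coe_dg, dm_coe]
  ext i j
  fin_cases i <;> fin_cases j <;> simp

/-- The long root element with a parameter in the fixed field. -/
theorem fL_opp (r : kq φ) : ∃ e ∈ (Ad hφ hK).Uw (sI φ 1),
    fL hφ hK (lowMat r) = (Ad hφ hK).n (sI φ 1) * e * ((Ad hφ hK).n (sI φ 1))⁻¹ := by
  set P := H56.TwAut.D4.spec hφ hK
  let g : P.k (1 : Fin 2) → P.k (1 : Fin 2) := fun t => (P.n_conj (1 : Fin 2) t).choose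
  have hg : ∀ t, (Ad hφ hK).n (sI φ 1) * P.tx (1 : Fin 2) t * ((Ad hφ hK).n (sI φ 1))⁻¹ =
      P.ty (1 : Fin 2) (g t) := fun t => (P.n_conj (1 : Fin 2) t).choose_spec
  have hinj : Function.Injective g := fun a b h => by
    refine P.tx_inj _ (mul_left_cancel (mul_right_cancel ((hg a).trans ?_)))
    rw [h, hg]
  obtain ⟨t, ht⟩ := Finite.surjective_of_injective hinj r
  refine ⟨P.tx (1 : Fin 2) t, P.tx_mem_Uw _ t, lift_injective _ ?_⟩
  rw [fL_low, hg, ht]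
  exact (H56.TwAut.D4.elems (r : K)).2.2.2.symm

theorem long_cases {e : GD hφ hK} (he : e ∈ (Ad hφ hK).Uw (sI φ 1)) :
    (∃ s, e = fL hφ hK (upMat s)) ∧
      ∃ r, (Ad hφ hK).n (sI φ 1) * e * ((Ad hφ hK).n (sI φ 1))⁻¹ = fL hφ hK (lowMat r) := by
  set P := H56.TwAut.D4.spec hφ hK
  obtain ⟨t, rfl⟩ := P.mem_tw_Uw (1 : Fin 2) e he
  refine ⟨⟨t, lift_injective _ ?_⟩, ?_⟩
  · exact (H56.TwAut.D4.elems (t : K)).2.1.trans (fL_up hφ hK t).symm
  · obtain ⟨t', e'⟩ := P.n_conj (1 : Fin 2) t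
    refine ⟨t', e'.trans (lift_injective _ ?_)⟩
    exact (H56.TwAut.D4.elems (t' : K)).2.2.2.trans (fL_low hφ hK t').symm

theorem fL_up_mem (s : kq φ) : fL hφ hK (upMat s) ∈ (Ad hφ hK).Uw (sI φ 1) := by
  set P := H56.TwAut.D4.spec hφ hK
  have h := P.tx_mem_Uw (1 : Fin 2) s
  rwa [show fL hφ hK (upMat s) = P.tx (1 : Fin 2) s from lift_injective _ (by
    rw [fL_up]; exact (H56.TwAut.D4.elems (s : K)).2.1.symm)]

theorem fS_up_lift (t : K) : lift (model hφ hK) (fS hφ hK (upMat t)) =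
    xe d4p1 t * xe d4p3 (t ^ q) * xe d4p4 (t ^ q ^ 2) := by
  rw [fS_up]; exact (H56.TwAut.D4.elems t).1

theorem fS_low_lift (t : K) : lift (model hφ hK) (fS hφ hK (lowMat t)) =
    xe d4m1 t * xe d4m3 (t ^ q) * xe d4m4 (t ^ q ^ 2) := by
  rw [fS_low]; exact (H56.TwAut.D4.elems t).2.2.1

theorem orbit_chars : ([18, 13, 12, 5, 10, 11, 14, 9].map fun r =>
    (List.range 4).map fun m => chevD4.cartan m r) =
    [[2, -1, 0, 0], [0, -1, 2, 0], [0, -1, 0, 2], [-2, 1, 0, 0], [0, 1, -2, 0], [0, 1, 0, -2],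
      [-1, 2, -1, -1], [1, -2, 1, 1]] := by decide +kernel

theorem chT_short (u y : Kˣ) (hy : y ^ q = y) :
    (chT (par q u y) d4p1 = u ^ 2 * y⁻¹ ∧ chT (par q u y) d4p3 = (u ^ 2 * y⁻¹) ^ q ∧
      chT (par q u y) d4p4 = (u ^ 2 * y⁻¹) ^ q ^ 2) ∧
    (chT (par q u y) d4m1 = (u ^ 2 * y⁻¹)⁻¹ ∧ chT (par q u y) d4m3 = ((u ^ 2 * y⁻¹)⁻¹) ^ q ∧
      chT (par q u y) d4m4 = ((u ^ 2 * y⁻¹)⁻¹) ^ q ^ 2) := by
  have hy2 : y ^ q ^ 2 = y := by rw [pow_two, pow_mul, hy, hy]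
  have e := orbit_chars
  simp only [List.map_cons, List.map_nil, List.range_succ, List.range_zero, List.nil_append,
    List.cons_append, List.cons.injEq, and_true] at e
  simp only [d4p1, d4p3, d4p4, d4m1, d4m3, d4m4, D4Cyclic.chT_par, e]
  refine ⟨⟨?_, ?_, ?_⟩, ?_, ?_, ?_⟩ <;>
    simp [mul_pow, inv_pow, hy, hy2, zpow_neg, ← pow_mul, mul_comm, pow_two] <;> ring_nf <;> exact hy2.symm

theorem tG_conj_xe (c : Fin chevD4.rank → Kˣ) {r : ℕ} (hr : r < chevD4.nroots) (t : K) :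
    tG (QD K) c * xe r t * (tG (QD K) c)⁻¹ = xe r ((chT c r : K) * t) := tG_conj (QD K) c hr t

/-- The short reflection on the torus. -/
theorem reflect_short {h : GD hφ hK} {u y : Kˣ} (hy : y ^ q = y)
    (hh : lift (model hφ hK) h = tG (QD K) (par q u y)) :
    lift (model hφ hK) (fS hφ hK (upMat 1 * lowMat (-1) * upMat 1) * h *
      (fS hφ hK (upMat 1 * lowMat (-1) * upMat 1))⁻¹) = tG (QD K) (par q (y * u⁻¹) y) := by
  set c := u ^ 2 * y⁻¹ with hc
  obtain ⟨⟨c1, c2, c3⟩, d1, d2, d3⟩ := chT_short (q := q) u y hy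
  rw [sl2_reflect (fS hφ hK) c ?_ ?_, lift_mul, fS_dm, hh, ← map_mul, ← D4Cyclic.par_mul, one_mul,
    show c⁻¹ * u = y * u⁻¹ by rw [hc]; group]
  · intro t
    refine lift_injective _ ?_
    rw [lift_mul, lift_mul, lift_inv, hh, fS_up_lift, fS_up_lift]
    rw [show ∀ T a b d : ↥(chevD4.group K), T * (a * b * d) * T⁻¹ =
      (T * a * T⁻¹) * (T * b * T⁻¹) * (T * d * T⁻¹) by intros; group,
      tG_conj_xe _ (by decide), tG_conj_xe _ (by decide), tG_conj_xe _ (by decide), c1, c2, c3]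
    simp [mul_pow, hc]
  · intro t
    refine lift_injective _ ?_
    rw [lift_mul, lift_mul, lift_inv, hh, fS_low_lift, fS_low_lift]
    rw [show ∀ T a b d : ↥(chevD4.group K), T * (a * b * d) * T⁻¹ =
      (T * a * T⁻¹) * (T * b * T⁻¹) * (T * d * T⁻¹) by intros; group,
      tG_conj_xe _ (by decide), tG_conj_xe _ (by decide), tG_conj_xe _ (by decide), d1, d2, d3]
    simp [mul_pow, hc]

/-- The long reflection on the torus. -/
theorem reflect_long {h : GD hφ hK} {u y : Kˣ} (hy : y ^ q = y)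
    (hh : lift (model hφ hK) h = tG (QD K) (par q u y)) :
    lift (model hφ hK) (fL hφ hK (upMat 1 * lowMat (-1) * upMat 1) * h *
      (fL hφ hK (upMat 1 * lowMat (-1) * upMat 1))⁻¹) = tG (QD K) (par q u (u ^ nexp q * y⁻¹)) := by
  have hN := D4Cyclic.norm_fixed hK u
  have hmem : ((y ^ 2 * (u ^ nexp q)⁻¹ : Kˣ) : K) ∈ kq φ := by
    show φ _ = _
    rw [hφ, ← Units.val_pow_eq_pow_val, mul_pow, inv_pow, hN, pow_right_comm, hy]
    rfl
  set cK : Kˣ := y ^ 2 * (u ^ nexp q)⁻¹ with hcK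
  set c : (kq φ)ˣ := Units.mk0 ⟨(cK : K), hmem⟩ fun h0 => cK.ne_zero (congrArg Subtype.val h0)
  have hcc : Units.map ((kq φ).subtype : kq φ →* K) c = cK := Units.ext rfl
  rw [sl2_reflect (fL hφ hK) c ?_ ?_, lift_mul, fL_dm, hh, ← map_mul, ← D4Cyclic.par_mul, one_mul,
    map_inv, hcc, show cK⁻¹ * y = u ^ nexp q * y⁻¹ by rw [hcK]; group]
  · intro t
    refine lift_injective _ ?_
    rw [lift_mul, lift_mul, lift_inv, hh, fL_up, fL_up, tG_conj_xe _ (by decide),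
      D4Cyclic.chT_par_14]
    rfl
  · intro t
    refine lift_injective _ ?_
    rw [lift_mul, lift_mul, lift_inv, hh, fL_low, fL_low, tG_conj_xe _ (by decide),
      D4Cyclic.chT_par_9, D4Cyclic.chT_par_14, ← hcK, ← hcc, ← map_inv]
    rfl

/-- Torus elements are conjugate to their inverses. -/
theorem torus_conj_inv {h : GD hφ hK} (hh : h ∈ (Ad hφ hK).H) : IsConj h h⁻¹ := by
  obtain ⟨u, y, hy, e⟩ := D4Cyclic.exists_par hφ hK ((mem_H (model hφ hK)).1 hh)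
    (((model hφ hK).iso.symm h).2 |> fun e => by rwa [iso_symm_coe] at e)
  have step : ∀ (h' : GD hφ hK) (u y : Kˣ), y ^ q = y → IsConj h h' →
      lift (model hφ hK) h' = tG (QD K) (par q u y) →
      ∃ h'', (y * u⁻¹) ^ nexp q * y⁻¹ = (y * u⁻¹) ^ nexp q * y⁻¹ ∧ IsConj h h'' ∧
        lift (model hφ hK) h'' = tG (QD K) (par q (y * u⁻¹) ((y * u⁻¹) ^ nexp q * y⁻¹)) := by
    intro h' u y hy hc e
    refine ⟨fL hφ hK (upMat 1 * lowMat (-1) * upMat 1) * (fS hφ hK (upMat 1 * lowMat (-1) * upMat 1) *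
      h' * (fS hφ hK (upMat 1 * lowMat (-1) * upMat 1))⁻¹) *
      (fL hφ hK (upMat 1 * lowMat (-1) * upMat 1))⁻¹, rfl, ?_, ?_⟩
    · exact hc.trans (isConj_iff.2 ⟨fL hφ hK (upMat 1 * lowMat (-1) * upMat 1) *
        fS hφ hK (upMat 1 * lowMat (-1) * upMat 1), by group⟩)
    · exact reflect_long hφ hK hy (reflect_short hφ hK hy e)
  have fixN : ∀ v z : Kˣ, z ^ q = z → (v ^ nexp q * z⁻¹) ^ q = v ^ nexp q * z⁻¹ := fun v z hz => by
    rw [mul_pow, inv_pow, hz, D4Cyclic.norm_fixed hK]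
  obtain ⟨h1, -, c1, e1⟩ := step h u y hy (IsConj.refl h) e.symm
  obtain ⟨h2, -, c2, e2⟩ := step h1 _ _ (fixN _ _ hy) c1 e1
  obtain ⟨h3, -, c3, e3⟩ := step h2 _ _ (fixN _ _ (fixN _ _ hy)) c2 e2
  have hN : y ^ nexp q = y ^ 3 := by
    rw [nexp, pow_add, pow_add, pow_one, pow_mul, hy, hy]
    simp [pow_succ]
  have hNN : (u ^ nexp q) ^ nexp q = (u ^ nexp q) ^ 3 := by
    have hy' := D4Cyclic.norm_fixed hK u
    set z := u ^ nexp q
    rw [nexp, pow_add, pow_add, pow_one, pow_mul, hy', hy']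
    simp [pow_succ]
  set z := u ^ nexp q with hz
  have s1 : (y * u⁻¹) ^ nexp q * y⁻¹ = y * y * z⁻¹ := by
    rw [mul_pow, inv_pow, hN, ← hz]
    refine Units.ext ?_
    push_cast
    field_simp
  have s2a : y * y * z⁻¹ * (y * u⁻¹)⁻¹ = y * u * z⁻¹ := by
    refine Units.ext ?_
    push_cast
    field_simp
  have s2 : (y * u * z⁻¹) ^ nexp q * (y * y * z⁻¹)⁻¹ = y * z⁻¹ := by
    rw [mul_pow, mul_pow, inv_pow, hN, ← hz, hNN]
    refine Units.ext ?_
    push_cast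
    field_simp
  have s3a : y * z⁻¹ * (y * u * z⁻¹)⁻¹ = u⁻¹ := by
    refine Units.ext ?_
    push_cast
    field_simp
  have s3 : (u⁻¹) ^ nexp q * (y * z⁻¹)⁻¹ = y⁻¹ := by
    rw [inv_pow, ← hz]
    refine Units.ext ?_
    push_cast
    field_simp
  rw [s1, s2a, s2, s3a, s3] at e3
  suffices h3 = h⁻¹ from this ▸ c3
  refine lift_injective _ ?_
  rw [e3, lift_inv, ← e, ← map_inv]
  congr 1
  refine eq_inv_of_mul_eq_one_left ?_
  rw [← D4Cyclic.par_mul, inv_mul_cancel, inv_mul_cancel, D4Cyclic.par_one]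

end Cfsg.Agent.H84.Gauss.D4
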