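import Cfsg.Agent.H84.Gauss.D4Ctx
import Cfsg.Agent.H84.Gauss.AdjustSL2
import Cfsg.Agent.H74.RootExt.SL2Lift
import Cfsg.Agent.D4Cyclic.Levi

/-!
The short root rank one subgroup of `³D₄(q)` as an image of `SL₂(q³)` and its torus.
-/

set_option autoImplicit false
set_option maxRecDepth 100000
set_option linter.unusedSectionVars false

namespace Cfsg.Agent.H84.Gauss.D4

open Cfsg.Lie Cfsg.Agent.H37 Cfsg.Agent.H37.RootSys Cfsg.Agent.H37.Twist Cfsg.Agent.H56.ChevAut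
open Cfsg.Agent.H56.TwAut Cfsg.Agent.H37.Twist.D4
open Cfsg.Agent.H13.Split Cfsg.Agent.H74.RootExt
open Cfsg.Agent.H54.Presentation (wEl SL2Rels)
open Cfsg.Agent.H87 (upMat lowMat)
open Cfsg.Agent.D4Cyclic (par)

universe u

variable {K : Type u} [Field K] [Fintype K] {φ : K →+* K} {q : ℕ}
  (hφ : ∀ t, φ t = t ^ q) (hK : Fintype.card K = q ^ 3)

/-- Torus elements commute. -/
theorem H_comm : ∀ a ∈ (Ad hφ hK).H, ∀ b ∈ (Ad hφ hK).H, a * b = b * a := by
  intro a ha b hb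
  obtain ⟨c, hc⟩ := exists_tG (QD K) ((mem_H (model hφ hK)).1 ha)
  obtain ⟨d, hd⟩ := exists_tG (QD K) ((mem_H (model hφ hK)).1 hb)
  refine lift_injective _ ?_
  rw [lift_mul, lift_mul, ← hc, ← hd, ← map_mul, ← map_mul, mul_comm]

/-- The short root elements. -/
noncomputable def xS (t : K) : GD hφ hK := (H56.TwAut.D4.spec hφ hK).tx (0 : Fin 2) ⟨t, trivial⟩

/-- The opposite short root elements. -/
noncomputable def yS (t : K) : GD hφ hK := (H56.TwAut.D4.spec hφ hK).ty (0 : Fin 2) ⟨t, trivial⟩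

section Generic

variable {D : ChevalleyDatum} {F : Type*} [Field F] (S : Setup D F)

theorem nt_single (a : Fin D.rank) (t : F) : S.nt a t = nUG S.Q (D.simple a.val) t := by
  rw [nUG_eq]; rfl

theorem nt_comm {a b : Fin D.rank} (hab : a ≠ b) (h : orthSB D a b = true) (t u : F) :
    Commute (S.nt a t) (S.nt b u) := by
  have hc := fun x y => comm_facts S hab h x y
  refine Commute.mul_left (Commute.mul_left ?_ ?_) ?_ <;>
    refine Commute.mul_right (Commute.mul_right ?_ ?_) ?_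
  all_goals first | exact (hc _ _).1 | exact (hc _ _).2.1 | exact (hc _ _).2.2.1 | exact (hc _ _).2.2.2

/-- The torus of the rank one subgroup of an orbit of three orthogonal roots. -/
theorem pn_three {a b c : Fin D.rank} (h : OrthList D [a, b, c]) (u : Fin D.rank → Fˣ) :
    pn S [a, b, c] (fun x => (u x : F)) * pn S [a, b, c] (fun _ => -1) =
      tG S.Q (Pi.mulSingle a (u a) * (Pi.mulSingle b (u b) * Pi.mulSingle c (u c))) := by
  have hab := h.head_ne (b := b) (by simp)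
  have hac := h.head_ne (b := c) (by simp)
  have hbc := h.tail.head_ne (b := c) (by simp)
  have hba : ∀ x y, Commute (S.nt b x) (S.nt a y) := fun x y => (nt_comm S hab.1 hab.2 y x).symm
  have hca : ∀ x y, Commute (S.nt c x) (S.nt a y) := fun x y => (nt_comm S hac.1 hac.2 y x).symm
  have hcb : ∀ x y, Commute (S.nt c x) (S.nt b y) := fun x y => (nt_comm S hbc.1 hbc.2 y x).symm
  simp only [pn, List.map_cons, List.map_nil, List.prod_cons, List.prod_nil, mul_one]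
  rw [map_mul, map_mul, tG_single, tG_single, tG_single, hUG_eq, hUG_eq, hUG_eq, ← nt_single,
    ← nt_single, ← nt_single, ← nt_single, ← nt_single, ← nt_single]
  calc S.nt a (u a) * (S.nt b (u b) * S.nt c (u c)) * (S.nt a (-1) * (S.nt b (-1) * S.nt c (-1)))
      = S.nt a (u a) * S.nt b (u b) * (S.nt c (u c) * S.nt a (-1)) * (S.nt b (-1) * S.nt c (-1)) := by
        group
    _ = S.nt a (u a) * (S.nt b (u b) * S.nt a (-1)) * (S.nt c (u c) * S.nt b (-1)) * S.nt c (-1) := by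
        rw [(hca (u c) (-1)).eq]; group
    _ = _ := by rw [(hba (u b) (-1)).eq, (hcb (u c) (-1)).eq]; group

end Generic

theorem par_singles (q : ℕ) (t : Kˣ) :
    (Pi.mulSingle (0 : Fin 4) t * (Pi.mulSingle (2 : Fin 4) (t ^ q) *
      Pi.mulSingle (3 : Fin 4) ((t ^ q) ^ q)) : Fin 4 → Kˣ) = par q t 1 := by
  funext i
  fin_cases i <;> simp [par, Pi.mulSingle, Function.update] <;> rfl

theorem lift_hS (t : Kˣ) : lift (model hφ hK) (SL2Rels.hEl (xS hφ hK) (yS hφ hK) (t : K)) =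
    tG (QD K) (par q t 1) := by
  set P := H56.TwAut.D4.spec hφ hK
  have e : SL2Rels.hEl (xS hφ hK) (yS hφ hK) (t : K) =
      P.tx (0 : Fin 2) ⟨t, trivial⟩ * P.ty (0 : Fin 2) (-(⟨t, trivial⟩ : P.k (0 : Fin 2))⁻¹) *
        P.tx (0 : Fin 2) ⟨t, trivial⟩ *
      (P.tx (0 : Fin 2) (-1) * P.ty (0 : Fin 2) 1 * P.tx (0 : Fin 2) (-1)) := by
    simp only [SL2Rels.hEl, wEl, xS, yS, inv_neg, inv_one, neg_neg]
    rfl
  rw [e]
  refine (lift_mul _ _ _).trans ((congrArg₂ (· * ·) (P.lift_nt _ _) (P.lift_nt' _)).trans ?_)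
  have hu : (P.par (t : K)) = fun x => ((t ^ q ^ H56.TwAut.D4.pw x : Kˣ) : K) :=
    funext fun x => (Units.val_pow_eq_pow_val t _).symm
  have h := pn_three (H56.TwAut.D4.su K) (a := (0 : Fin 4)) (b := (2 : Fin 4)) (c := (3 : Fin 4))
    (P.orth (0 : Fin 2)) fun x => t ^ q ^ H56.TwAut.D4.pw x
  refine (congrArg₂ (fun p r => pn (H56.TwAut.D4.su K) (P.O (0 : Fin 2)) p * r) hu rfl).trans
    (h.trans (congrArg (tG (QD K)) ?_))
  rw [← par_singles]
  show (Pi.mulSingle (0 : Fin 4) (t ^ q ^ 0) * (Pi.mulSingle (2 : Fin 4) (t ^ q ^ 1) *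
    Pi.mulSingle (3 : Fin 4) (t ^ q ^ 2)) : Fin 4 → Kˣ) = _
  rw [pow_zero, pow_one, pow_one, pow_two, pow_mul]

theorem sl2Rels_S : SL2Rels (xS hφ hK) (yS hφ hK) where
  x_add t u := (Tw.sl2Rels (H56.TwAut.D4.spec hφ hK) (0 : Fin 2)).x_add ⟨t, trivial⟩ ⟨u, trivial⟩
  y_add t u := (Tw.sl2Rels (H56.TwAut.D4.spec hφ hK) (0 : Fin 2)).y_add ⟨t, trivial⟩ ⟨u, trivial⟩
  w_conj t u ht := (Tw.sl2Rels (H56.TwAut.D4.spec hφ hK) (0 : Fin 2)).w_conj ⟨t, trivial⟩
    ⟨u, trivial⟩ fun h => ht (congrArg Subtype.val h)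

theorem exists_fS : ∃ f : Matrix.SpecialLinearGroup (Fin 2) K →* GD hφ hK,
    (∀ t, f (upMat t) = xS hφ hK t) ∧ (∀ t, f (lowMat t) = yS hφ hK t) ∧
      ∀ d : Kˣ, lift (model hφ hK) (f (dm d)) = tG (QD K) (par q d 1) := by
  obtain ⟨f, hx, hy, -⟩ := Chevalley.SL2Hom.exists_hom (sl2Rels_S hφ hK) fun t u => by
    refine lift_injective _ ?_
    rw [lift_mul, lift_hS, lift_hS, lift_hS, ← map_mul, ← Cfsg.Agent.D4Cyclic.par_mul, one_mul]
  refine ⟨f, hx, hy, fun d => ?_⟩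
  have e : dm d = dg d := H87.sl2_ext (by rw [coe_dg, dm_coe, Units.val_inv_eq_inv_val])
  rw [e, show f (dg d) = SL2Rels.hEl (xS hφ hK) (yS hφ hK) (d : K) by
    show f (SL2Rels.hEl upMat lowMat (d : K)) = _
    simp only [SL2Rels.hEl, wEl, map_mul, hx, hy], lift_hS]

/-- The homomorphism onto the short root rank one subgroup. -/
noncomputable def fS : Matrix.SpecialLinearGroup (Fin 2) K →* GD hφ hK :=
  (exists_fS hφ hK).choose

theorem fS_up (t : K) : fS hφ hK (upMat t) = xS hφ hK t := (exists_fS hφ hK).choose_spec.1 t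

theorem fS_low (t : K) : fS hφ hK (lowMat t) = yS hφ hK t := (exists_fS hφ hK).choose_spec.2.1 t

theorem fS_dm (d : Kˣ) : lift (model hφ hK) (fS hφ hK (dm d)) = tG (QD K) (par q d 1) :=
  (exists_fS hφ hK).choose_spec.2.2 d

theorem xS_opp (r : K) : ∃ e ∈ (Ad hφ hK).Uw (sI φ 0),
    yS hφ hK r = (Ad hφ hK).n (sI φ 0) * e * ((Ad hφ hK).n (sI φ 0))⁻¹ := by
  set P := H56.TwAut.D4.spec hφ hK
  let g : P.k (0 : Fin 2) → P.k (0 : Fin 2) := fun t => (P.n_conj (0 : Fin 2) t).choose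
  have hg : ∀ t, (Ad hφ hK).n (sI φ 0) * P.tx (0 : Fin 2) t * ((Ad hφ hK).n (sI φ 0))⁻¹ =
      P.ty (0 : Fin 2) (g t) := fun t => (P.n_conj (0 : Fin 2) t).choose_spec
  have hinj : Function.Injective g := fun a b h => by
    refine P.tx_inj _ (mul_left_cancel (mul_right_cancel ((hg a).trans ?_)))
    rw [h, hg]
  obtain ⟨t, ht⟩ := Finite.surjective_of_injective hinj ⟨r, trivial⟩
  exact ⟨P.tx (0 : Fin 2) t, P.tx_mem_Uw _ t, by rw [hg, ht]; rfl⟩

/-- The short root torus shifts the torus part. -/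
theorem adjust_short :
    Adjust (Ad hφ hK) (sI φ 0) (Set.range fun d => fS hφ hK (dm d)) := by
  refine adjust_sl2 (H_comm hφ hK) (ad_sbase hφ hK) (sI_mem hφ hK 0) (fS hφ hK) (fun e he => ?_)
    (fun r => ?_) (fun e he => ?_) (fun r => ?_) fun d => ?_
  · obtain ⟨t, rfl⟩ := (H56.TwAut.D4.spec hφ hK).mem_tw_Uw (0 : Fin 2) e he
    exact ⟨t.1, (fS_up hφ hK t.1).symm⟩
  · rw [fS_up]; exact (H56.TwAut.D4.spec hφ hK).tx_mem_Uw _ _
  · obtain ⟨t, rfl⟩ := (H56.TwAut.D4.spec hφ hK).mem_tw_Uw (0 : Fin 2) e he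
    obtain ⟨t', e'⟩ := (H56.TwAut.D4.spec hφ hK).n_conj (0 : Fin 2) t
    exact ⟨t'.1, e'.trans (fS_low hφ hK t'.1).symm⟩
  · obtain ⟨e, he, e'⟩ := xS_opp hφ hK r
    exact ⟨e, he, (fS_low hφ hK r).trans e'⟩
  · rw [mem_H, fS_dm]; exact tG_mem _ _

end Cfsg.Agent.H84.Gauss.D4
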