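/-!
Certificates over the field of eight elements: linear combinations of tensor rows.
-/

set_option autoImplicit false

namespace Cfsg.Agent.H84.Gauss.D4Two

/-- Rows whose combination is the constant, by trace. -/
def mainL : Nat → List (Nat × Nat × Nat × Nat × Nat)
  | 0 => [(1, (0, 2, 5, 5)), (1, (2, 3, 2, 6)), (1, (3, 2, 6, 2)), (1, (3, 3, 4, 2)), (1, (3, 4, 7, 0)), (1, (4, 7, 3, 2)), (1, (5, 0, 1, 2)), (1, (6, 2, 4, 6)), (1, (6, 7, 0, 3))]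
  | 1 => [(1, (0, 5, 2, 3)), (1, (1, 0, 2, 1)), (1, (2, 2, 0, 5)), (1, (3, 5, 3, 3)), (1, (4, 6, 4, 1)), (1, (5, 1, 2, 6)), (1, (5, 3, 6, 0)), (1, (6, 3, 7, 5)), (1, (7, 3, 4, 5))]
  | 2 => [(1, (0, 7, 4, 0)), (1, (1, 4, 6, 4)), (1, (2, 1, 5, 2)), (1, (3, 5, 6, 7)), (1, (4, 4, 0, 7)), (1, (5, 1, 5, 3)), (1, (5, 6, 6, 6)), (1, (6, 2, 6, 1)), (1, (7, 0, 3, 4))]
  | 4 => [(1, (0, 2, 5, 7)), (1, (1, 0, 1, 1)), (1, (1, 3, 7, 3)), (1, (2, 7, 7, 1)), (1, (6, 6, 3, 0)), (1, (6, 7, 0, 3)), (1, (7, 1, 2, 7)), (1, (7, 3, 3, 6)), (1, (7, 6, 7, 2))]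
  | 6 => [(1, (0, 5, 2, 5)), (1, (1, 7, 6, 5)), (1, (2, 7, 4, 0)), (1, (3, 0, 6, 6)), (1, (3, 3, 4, 2)), (1, (5, 4, 4, 5)), (1, (6, 3, 5, 4)), (1, (6, 5, 5, 1)), (1, (6, 7, 0, 3))]
  | 7 => [(1, (0, 1, 1, 6)), (1, (1, 0, 5, 1)), (1, (2, 1, 0, 5)), (1, (2, 2, 6, 3)), (1, (2, 4, 3, 3)), (1, (2, 7, 5, 6)), (1, (3, 2, 2, 3)), (1, (4, 7, 4, 0)), (1, (7, 1, 6, 1))]
  | _ => []

/-- Rows whose combinations are the twelve mixed coordinates, by trace. -/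
def coordL : Nat → List (List (Nat × Nat × Nat × Nat × Nat))
  | 3 => [[(2, (1, 7, 3, 3)), (4, (1, 7, 7, 2)), (3, (2, 1, 6, 6)), (4, (4, 2, 1, 2)), (2, (4, 4, 2, 5)), (5, (4, 4, 5, 2)), (7, (5, 5, 7, 5)), (6, (6, 4, 4, 2)), (7, (7, 6, 5, 3))],
    [(6, (3, 2, 1, 1)), (2, (3, 2, 4, 7)), (5, (3, 3, 2, 4)), (7, (4, 2, 3, 3)), (6, (4, 4, 2, 5)), (3, (4, 4, 5, 2)), (4, (7, 3, 2, 1)), (5, (7, 6, 5, 3)), (2, (7, 6, 6, 7))],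
    [(4, (2, 4, 4, 6)), (2, (3, 3, 1, 7)), (7, (3, 7, 5, 4)), (2, (4, 4, 4, 3)), (4, (5, 1, 2, 6)), (6, (5, 2, 1, 6)), (1, (5, 2, 4, 4)), (5, (7, 4, 4, 1)), (5, (7, 4, 5, 7))],
    [(7, (4, 3, 7, 2)), (3, (4, 7, 5, 3)), (2, (5, 3, 2, 5)), (1, (5, 6, 6, 6)), (6, (6, 1, 2, 5)), (5, (6, 1, 3, 6)), (1, (7, 3, 1, 3)), (2, (7, 4, 5, 7)), (7, (7, 5, 7, 1))],
    [(7, (1, 1, 2, 3)), (1, (1, 2, 3, 7)), (1, (1, 4, 2, 2)), (7, (3, 6, 5, 7)), (6, (4, 3, 7, 2)), (3, (5, 5, 6, 4)), (4, (5, 5, 7, 5)), (2, (7, 1, 2, 7)), (3, (7, 1, 6, 1))],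
    [(3, (3, 1, 6, 4)), (6, (3, 3, 1, 7)), (2, (4, 3, 2, 3)), (3, (4, 5, 4, 2)), (5, (5, 2, 3, 5)), (1, (5, 2, 4, 4)), (4, (7, 1, 2, 7)), (2, (7, 5, 4, 7)), (6, (7, 7, 5, 1))],
    [(2, (1, 5, 7, 7)), (2, (1, 7, 3, 3)), (4, (4, 2, 1, 2)), (5, (4, 6, 1, 3)), (6, (5, 1, 6, 5)), (4, (5, 4, 2, 4)), (7, (6, 2, 4, 6)), (1, (6, 6, 6, 5)), (5, (6, 7, 3, 5))],
    [(2, (2, 6, 5, 1)), (3, (3, 7, 7, 7)), (7, (4, 2, 3, 3)), (5, (5, 3, 7, 6)), (1, (5, 5, 7, 5)), (4, (5, 6, 6, 6)), (3, (5, 7, 3, 6)), (2, (6, 4, 4, 2)), (7, (6, 7, 7, 6))],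
    [(6, (1, 6, 5, 2)), (7, (4, 1, 2, 2)), (3, (5, 4, 4, 5)), (5, (6, 3, 7, 5)), (5, (6, 6, 1, 2)), (4, (6, 6, 6, 5)), (3, (7, 1, 2, 7)), (7, (7, 1, 3, 3)), (2, (7, 5, 7, 1))],
    [(2, (1, 1, 6, 7)), (2, (2, 1, 2, 4)), (6, (2, 3, 7, 4)), (4, (3, 2, 4, 7)), (6, (3, 5, 7, 4)), (3, (4, 4, 5, 2)), (3, (5, 3, 1, 4)), (1, (6, 5, 7, 2)), (5, (7, 5, 4, 7))],
    [(6, (1, 4, 2, 2)), (7, (1, 6, 6, 3)), (1, (2, 2, 3, 6)), (3, (4, 1, 6, 3)), (6, (4, 2, 3, 3)), (4, (4, 3, 1, 5)), (5, (5, 3, 2, 5)), (1, (5, 7, 3, 6)), (5, (7, 2, 1, 7))],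
    [(2, (1, 1, 2, 3)), (7, (1, 3, 2, 7)), (7, (1, 4, 5, 3)), (5, (1, 7, 7, 2)), (3, (2, 1, 2, 4)), (4, (3, 1, 3, 7)), (6, (6, 7, 5, 2)), (5, (7, 1, 6, 1)), (3, (7, 7, 5, 1))]]
  | 5 => [[(2, (1, 5, 5, 6)), (5, (3, 2, 2, 3)), (2, (3, 4, 5, 1)), (5, (4, 1, 2, 2)), (6, (4, 6, 7, 6)), (7, (5, 2, 1, 6)), (4, (6, 7, 1, 1)), (4, (6, 7, 3, 5)), (1, (7, 1, 7, 5))],
    [(6, (1, 7, 1, 6)), (6, (2, 4, 1, 7)), (4, (5, 1, 7, 7)), (3, (5, 6, 7, 1)), (5, (6, 4, 5, 5)), (4, (6, 5, 3, 4)), (3, (6, 5, 4, 5)), (2, (6, 7, 3, 5)), (7, (7, 1, 7, 5))],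
    [(6, (1, 3, 4, 6)), (1, (1, 3, 5, 5)), (3, (1, 6, 2, 6)), (1, (1, 6, 6, 3)), (2, (2, 2, 1, 4)), (2, (6, 2, 2, 4)), (6, (6, 6, 7, 4)), (7, (7, 2, 1, 7)), (4, (7, 7, 1, 5))],
    [(1, (1, 4, 3, 6)), (7, (2, 5, 3, 7)), (3, (3, 7, 3, 1)), (4, (4, 2, 6, 4)), (2, (5, 2, 2, 1)), (4, (6, 3, 7, 5)), (7, (6, 4, 5, 5)), (6, (7, 5, 4, 7)), (6, (7, 5, 5, 5))],
    [(7, (1, 3, 7, 3)), (2, (2, 3, 5, 7)), (1, (2, 6, 7, 7)), (5, (3, 1, 7, 2)), (2, (3, 7, 3, 1)), (5, (4, 5, 4, 2)), (6, (6, 1, 7, 1)), (4, (6, 3, 4, 1)), (4, (6, 3, 7, 5))],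
    [(5, (2, 6, 2, 3)), (6, (2, 7, 6, 7)), (7, (3, 3, 7, 1)), (1, (4, 3, 4, 4)), (1, (4, 3, 7, 2)), (4, (5, 5, 3, 1)), (5, (6, 1, 2, 5)), (6, (6, 2, 6, 1)), (3, (7, 7, 1, 5))],
    [(1, (2, 2, 6, 3)), (6, (3, 4, 1, 3)), (2, (4, 1, 2, 2)), (5, (5, 1, 2, 6)), (4, (6, 1, 4, 4)), (4, (6, 2, 1, 5)), (3, (6, 2, 6, 1)), (5, (7, 1, 4, 2)), (6, (7, 5, 5, 5))],
    [(7, (2, 2, 1, 4)), (3, (2, 3, 5, 7)), (7, (2, 4, 1, 7)), (1, (2, 6, 2, 3)), (3, (2, 6, 6, 4)), (4, (3, 4, 3, 2)), (6, (4, 4, 3, 4)), (5, (6, 2, 1, 5)), (6, (7, 3, 5, 2))],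
    [(2, (1, 2, 2, 5)), (6, (1, 6, 6, 3)), (7, (2, 2, 1, 4)), (7, (2, 5, 3, 7)), (1, (4, 2, 6, 4)), (3, (4, 7, 3, 2)), (4, (6, 3, 7, 5)), (6, (6, 6, 2, 1)), (4, (7, 1, 7, 5))],
    [(6, (1, 1, 2, 3)), (2, (1, 5, 3, 5)), (7, (2, 2, 2, 7)), (4, (4, 3, 4, 4)), (4, (5, 6, 6, 6)), (3, (6, 2, 6, 1)), (7, (7, 1, 2, 7)), (6, (7, 2, 6, 5)), (1, (7, 5, 4, 7))],
    [(7, (2, 1, 4, 7)), (5, (2, 4, 5, 4)), (4, (2, 5, 4, 4)), (2, (3, 1, 7, 2)), (5, (3, 5, 3, 3)), (1, (3, 6, 2, 2)), (6, (5, 2, 1, 6)), (1, (6, 6, 7, 4)), (7, (7, 3, 4, 5))],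
    [(5, (1, 4, 5, 3)), (3, (1, 5, 4, 3)), (5, (1, 7, 1, 6)), (6, (2, 4, 1, 7)), (6, (3, 5, 4, 1)), (1, (4, 7, 1, 4)), (7, (7, 1, 7, 5)), (4, (7, 4, 1, 2)), (1, (7, 7, 3, 7))]]
  | _ => []

/-- The diagonal forms: diagonal entry, conjugator, a change of basis with nonzero entries. -/
def diagL : Nat → (Nat × Nat) × (Nat × Nat × Nat × Nat) × (Nat × Nat × Nat × Nat)
  | 3 => ((4, 7), (1, 4, 6, 4), (1, 1, 2, 3))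
  | 5 => ((3, 6), (1, 3, 2, 7), (1, 1, 2, 3))
  | _ => ((1, 1), (1, 0, 0, 1), (1, 0, 0, 1))

end Cfsg.Agent.H84.Gauss.D4Two
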