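import Mathlib
import Cfsg.Agent.H84.Gauss.D4TwoData

/-!
The field of eight elements on triples, and the checks of the certificates.
-/

set_option autoImplicit false
set_option maxRecDepth 100000

namespace Cfsg.Agent.H84.Gauss.D4Two

/-- Triples of coordinates. -/
abbrev F8 := ZMod 2 × ZMod 2 × ZMod 2

/-- The element of a code. -/
def el (n : ℕ) : F8 := ((n % 2 : ℕ), (n / 2 % 2 : ℕ), (n / 4 % 2 : ℕ))

/-- The product. -/
def fmul (a b : F8) : F8 :=
  (a.1 * b.1 + (a.2.1 * b.2.2 + a.2.2 * b.2.1),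
   a.1 * b.2.1 + a.2.1 * b.1 + (a.2.1 * b.2.2 + a.2.2 * b.2.1) + a.2.2 * b.2.2,
   a.1 * b.2.2 + a.2.1 * b.2.1 + a.2.2 * b.1 + a.2.2 * b.2.2)

/-- Two by two matrices. -/
abbrev M2 := F8 × F8 × F8 × F8

/-- The matrix of a code. -/
def mat (y : ℕ × ℕ × ℕ × ℕ) : M2 := (el y.1, el y.2.1, el y.2.2.1, el y.2.2.2)

/-- The matrix product. -/
def mmul (A B : M2) : M2 :=
  (fmul A.1 B.1 + fmul A.2.1 B.2.2.1, fmul A.1 B.2.1 + fmul A.2.1 B.2.2.2,
   fmul A.2.2.1 B.1 + fmul A.2.2.2 B.2.2.1, fmul A.2.2.1 B.2.1 + fmul A.2.2.2 B.2.2.2)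

/-- The inverse in determinant one. -/
def madj (A : M2) : M2 := (A.2.2.2, A.2.1, A.2.2.1, A.1)

/-- The determinant. -/
def mdet (A : M2) : F8 := fmul A.1 A.2.2.2 + fmul A.2.1 A.2.2.1

/-- The companion matrix of a trace. -/
def comp (t : ℕ) : M2 := (el 0, el 1, el 1, el t)

/-- The diagonal form of a trace. -/
def diag (t : ℕ) : M2 := (el (diagL t).1.1, el 0, el 0, el (diagL t).1.2)

/-- The entries of a row of the tensor cube with Frobenius twists. -/
def tens (x y : F8) (l : Fin 8) : F8 :=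
  let p := fun i : ℕ => if i = 0 then x else y
  let sq := fun a : F8 => fmul a a
  fmul (fmul (p (l.val / 4)) (sq (p (l.val / 2 % 2)))) (sq (sq (p (l.val % 2))))

/-- The row of a matrix. -/
def rowOf (A : M2) (j : Fin 16) : F8 :=
  if h : j.val < 8 then tens A.2.2.1 A.2.2.2 ⟨j.val, h⟩
  else tens A.1 A.2.1 ⟨j.val - 8, by omega⟩

/-- The allowed corners. -/
def good (a : F8) : Bool := a == el 1 || a == el 2 || a == el 5

/-- A conjugator with an allowed corner. -/
def yOk (m : M2) (A : M2) : Bool := mdet A == el 1 && good (mmul (mmul A m) (madj A)).1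

/-- A combination of rows. -/
def certOk (m : M2) (L : List (ℕ × ℕ × ℕ × ℕ × ℕ)) (tgt : Fin 16 → F8) (c : F8) : Bool :=
  (L.all fun p => yOk m (mat p.2)) && (L.map fun p => el p.1).sum == c &&
    (List.finRange 16).all fun j => (L.map fun p => fmul (el p.1) (rowOf (mat p.2) j)).sum == tgt j

/-- The twelve mixed coordinates. -/
def midL : List (Fin 16) := [1, 2, 3, 4, 5, 6, 9, 10, 11, 12, 13, 14]

theorem main_ok : ∀ t ∈ [0, 1, 2, 4, 6, 7],
    certOk (comp t) (mainL t) (fun _ => el 0) (el 1) = true := by decide +kernel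

theorem diag_ok : ∀ t, t ∈ [3, 5] →
    mdet (mat (diagL t).2.1) = el 1 ∧
      mmul (mmul (mat (diagL t).2.1) (comp t)) (madj (mat (diagL t).2.1)) = diag t ∧
      yOk (diag t) (mat (diagL t).2.2) = true ∧ fmul (el (diagL t).1.1) (el (diagL t).1.2) = el 1 ∧
      ∀ j : Fin 16, j ∈ ([0, 7, 8, 15] : List (Fin 16)) → rowOf (mat (diagL t).2.2) j = el 1 := by
  intro t ht
  simp only [List.mem_cons, List.not_mem_nil, or_false] at ht
  rcases ht with rfl | rfl <;>
    exact ⟨by decide +kernel, by decide +kernel, by decide +kernel, by decide +kernel, by decide +kernel⟩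

theorem coord_ok : ∀ t ∈ [3, 5], ∀ i : Fin 12, ∃ L ∈ coordL t,
    certOk (diag t) L (fun j => if midL[i.val]? = some j then el 1 else el 0) (el 0) = true := by
  decide +kernel

theorem codes : ∀ a : F8, ∃ t ∈ [0, 1, 2, 3, 4, 5, 6, 7], a = el t := by decide +kernel

theorem fmul_inv : ∀ a : F8, a ≠ el 0 → ∃ b, fmul a b = el 1 := by decide +kernel

section Hom

variable {K : Type*} [Field K] [CharP K 2] (θ : K)

/-- The embedding given by a root. -/
def ev (a : F8) : K :=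
  ZMod.castHom (dvd_refl 2) K a.1 + ZMod.castHom (dvd_refl 2) K a.2.1 * θ +
    ZMod.castHom (dvd_refl 2) K a.2.2 * θ ^ 2

theorem ev_add (a b : F8) : ev θ (a + b) = ev θ a + ev θ b := by
  simp only [ev, Prod.fst_add, Prod.snd_add, map_add]; ring

theorem ev_mul (hθ : θ ^ 3 + θ + 1 = 0) (a b : F8) : ev θ (fmul a b) = ev θ a * ev θ b := by
  simp only [ev, fmul, map_add, map_mul]
  set a0 := ZMod.castHom (dvd_refl 2) K a.1
  set a1 := ZMod.castHom (dvd_refl 2) K a.2.1
  set a2 := ZMod.castHom (dvd_refl 2) K a.2.2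
  set b0 := ZMod.castHom (dvd_refl 2) K b.1
  set b1 := ZMod.castHom (dvd_refl 2) K b.2.1
  set b2 := ZMod.castHom (dvd_refl 2) K b.2.2
  have h2 := CharTwo.two_eq_zero (R := K)
  linear_combination (-(a1 * b2 + a2 * b1) - θ * (a2 * b2)) * hθ +
    (a1 * b2 + a2 * b1 + θ * (a1 * b2 + a2 * b1) + θ * (a2 * b2) + θ ^ 2 * (a2 * b2)) * h2

theorem ev_zero : ev θ (el 0) = 0 := by simp [ev, el]

theorem ev_one : ev θ (el 1) = 1 := by simp [ev, el]

theorem ev_two : ev θ (el 2) = θ := by simp [ev, el]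

theorem ev_ne (hθ : θ ^ 3 + θ + 1 = 0) {a : F8} (ha : a ≠ el 0) : ev θ a ≠ 0 := by
  obtain ⟨b, hb⟩ := fmul_inv a ha
  intro h
  have e := ev_mul θ hθ a b
  rw [hb, ev_one, h, zero_mul] at e
  exact one_ne_zero e

theorem ev_inj (hθ : θ ^ 3 + θ + 1 = 0) : Function.Injective (ev θ : F8 → K) := by
  intro a b h
  by_contra hne
  refine ev_ne θ hθ (a := a + b) (fun e => hne ?_) (by rw [ev_add, h, CharTwo.add_self_eq_zero])
  exact (show ∀ a b : F8, a + b = el 0 → a = b by decide +kernel) a b e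

theorem ev_surj (hθ : θ ^ 3 + θ + 1 = 0) [Fintype K] (hK : Fintype.card K = 8) :
    Function.Surjective (ev θ : F8 → K) :=
  ((Fintype.bijective_iff_injective_and_card _).2
    ⟨ev_inj θ hθ, by rw [hK]; simp [F8]⟩).2

/-- The image of a matrix. -/
def evM (A : M2) : Matrix (Fin 2) (Fin 2) K :=
  !![ev θ A.1, ev θ A.2.1; ev θ A.2.2.1, ev θ A.2.2.2]

theorem evM_mul (hθ : θ ^ 3 + θ + 1 = 0) (A B : M2) : evM θ (mmul A B) = evM θ A * evM θ B := by
  simp [evM, mmul, Matrix.mul_fin_two, ev_add, ev_mul θ hθ]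

theorem evM_det (hθ : θ ^ 3 + θ + 1 = 0) (A : M2) : (evM θ A).det = ev θ (mdet A) := by
  rw [evM, Matrix.det_fin_two_of, mdet, ev_add, ev_mul θ hθ, ev_mul θ hθ, CharTwo.sub_eq_add]

end Hom

theorem exists_root {K : Type*} [Field K] [Fintype K] [CharP K 2] (hK : Fintype.card K = 8) :
    ∃ θ : K, θ ^ 3 + θ + 1 = 0 := by
  obtain ⟨x, hx0, hx1⟩ : ∃ x : K, x ≠ 0 ∧ x ≠ 1 := by
    by_contra h
    push Not at h
    have hsurj : Function.Surjective fun b : Bool => if b then (1 : K) else 0 := fun x => by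
      by_cases h0 : x = 0
      · exact ⟨false, by simp [h0]⟩
      · exact ⟨true, by simp [h x h0]⟩
    have := Fintype.card_le_of_surjective _ hsurj
    rw [hK, Fintype.card_bool] at this
    omega
  have h7 : x ^ 7 = 1 := by
    have := FiniteField.pow_card_sub_one_eq_one x hx0
    rwa [hK] at this
  have h2 := CharTwo.two_eq_zero (R := K)
  have hz : (x + 1) * ((x ^ 3 + x + 1) * (x ^ 3 + x ^ 2 + 1)) = 0 := by
    linear_combination h7 + (1 + x + x ^ 2 + 2 * x ^ 3 + 2 * x ^ 4 + x ^ 5 + x ^ 6) * h2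
  rcases mul_eq_zero.1 hz with h | h
  · exact absurd (CharTwo.add_eq_zero.1 h) hx1
  rcases mul_eq_zero.1 h with h | h
  · exact ⟨x, h⟩
  · refine ⟨x⁻¹, ?_⟩
    field_simp
    linear_combination h

end Cfsg.Agent.H84.Gauss.D4Two
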