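import Cfsg.Agent.H84.Gauss.D4Long

/-!
The first layer of the radical of the short root parabolic subgroup of `³D₄` in characteristic two,
as the tensor product of three twisted natural modules.
-/

set_option autoImplicit false
set_option maxRecDepth 100000
set_option linter.unusedSectionVars false

namespace Cfsg.Agent.H84.Gauss.D4Two

open Cfsg.Lie Cfsg.Agent.H37 Cfsg.Agent.H37.RootSys Cfsg.Agent.H37.Twist
open Cfsg.Agent.H37.Twist.D4
open Cfsg.Agent.H87 (upMat lowMat)

/-- Two roots with at most one structure term. -/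
def pairOk (r s : ℕ) (o : Option ℕ) : Bool :=
  decide (r < 24) && decide (s < 24) &&
    match o with
    | none => r == s || (decide (s ≠ r ∧ s ≠ chevD4.neg r) && chevD4.commTerms r s == [])
    | some c => decide (s ≠ r ∧ s ≠ chevD4.neg r) &&
        (chevD4.commTerms r s == [(c, 1, 1, 1)] || chevD4.commTerms r s == [(c, -1, 1, 1)])

/-- The layer roots of a side. -/
def R (s : Fin 2) (l : Fin 8) : ℕ :=
  ([[22, 21, 20, 19, 17, 16, 15, 14], [9, 8, 7, 6, 4, 3, 2, 1]].getD s.val []).getD l.val 0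

/-- The central root of a side. -/
def C (s : Fin 2) : ℕ := if s = 0 then 23 else 0

/-- The distinguished coordinate of a side. -/
def l₀ (s : Fin 2) : Fin 8 := if s = 0 then 7 else 0

/-- The roots of the radical. -/
def layL (s : Fin 2) : List ℕ :=
  if s = 0 then [22, 21, 20, 19, 17, 16, 15, 14, 23] else [9, 8, 7, 6, 4, 3, 2, 1, 0]

/-- The roots of a side. -/
def signL (s : Fin 2) : List ℕ :=
  if s = 0 then [12, 13, 14, 15, 16, 17, 18, 19, 20, 21, 22, 23]
  else [0, 1, 2, 3, 4, 5, 6, 7, 8, 9, 10, 11]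

/-- A factor of an index. -/
def bitv (i : Fin 3) (l : Fin 8) : Fin 2 :=
  if l.val / 2 ^ (2 - i.val) % 2 = 0 then 0 else 1

/-- Changing a factor. -/
def flp (i : Fin 3) (l : Fin 8) : Fin 8 :=
  if bitv i l = 0 then l + ([4, 2, 1] : List (Fin 8)).getD i.val 0
  else l - ([4, 2, 1] : List (Fin 8)).getD i.val 0

/-- The fundamental roots of the rank one subgroup. -/
def Ax (d : Fin 2) (i : Fin 3) : ℕ :=
  (([[18, 13, 12], [5, 10, 11]] : List (List ℕ)).getD d.val []).getD i.val 0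

theorem lay_facts : ∀ s : Fin 2, ∀ m l : Fin 8,
    pairOk (R s m) (C s) none ∧ pairOk (C s) (R s m) none ∧
    pairOk (R s m) (R s l.rev) (if m = l then some (C s) else none) ∧
    pairOk (R s m) (R s l) (if m = l.rev then some (C s) else none) ∧ C s < 24 ∧
    R s m ∈ layL s ∧ R s (l₀ s) ∈ signL s ∧ (C s) ∈ layL s ∧ pairOk (C s) (C s) none := by
  decide +kernel

theorem lay_cases : ∀ s : Fin 2, ∀ r ∈ layL s, r = C s ∨ ∃ m : Fin 8, r = R s m := by decide +kernel

theorem sign_facts : ∀ s : Fin 2, ∀ r ∈ signL s, pairOk r (C s) none ∧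
    (r ≠ R s (l₀ s) → pairOk r (R s (l₀ s).rev) none) := by decide +kernel

theorem axis_ok : ∀ s d : Fin 2, ∀ i : Fin 3, ∀ m : Fin 8,
    pairOk (C s) (Ax d i) none ∧
    (bitv i m = d → pairOk (R s m) (Ax d i) none) ∧
    (bitv i m ≠ d → pairOk (R s m) (Ax d i) (some (R s (flp i m))) ∧
      pairOk (R s (flp i m)) (Ax d i) none) ∧
    bitv i (flp i m) ≠ bitv i m ∧ flp i (flp i m) = m := by decide +kernel

theorem fix_facts : ∀ r ∈ [14, 22, 9, 1, 23, 0], Sym.dataD4a.sg r = 1 ∧ tables.rh r = r ∧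
    r < chevD4.nroots := by decide +kernel

universe u

variable {K : Type u} [Field K] [CharP K 2]

theorem pairOk_none {r s : ℕ} (h : pairOk r s none = true) (t u : K) :
    Commute (xe r t) (xe s u) := by
  simp only [pairOk, Bool.and_eq_true, Bool.or_eq_true, decide_eq_true_eq, beq_iff_eq] at h
  obtain ⟨⟨hr, hs⟩, h | ⟨⟨h1, h2⟩, h3⟩⟩ := h
  · subst h
    show _ = _
    exact (((QD K).sys.x_add' r hr t u).symm.trans (congrArg _ (add_comm t u))).trans
      ((QD K).sys.x_add' r hr u t)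
  · have e : xe s u * xe r t = _ := xG_comm (Q := QD K) hr hs h1 h2 t u
    rw [h3, List.map_nil, List.prod_nil, mul_one] at e
    exact e.symm

theorem pairOk_some {r s c : ℕ} (h : pairOk r s (some c) = true) (t u : K) :
    xe s u * xe r t = xe r t * xe s u * xe c (t * u) := by
  simp only [pairOk, Bool.and_eq_true, Bool.or_eq_true, decide_eq_true_eq, beq_iff_eq] at h
  obtain ⟨⟨hr, hs⟩, ⟨h1, h2⟩, h3⟩ := h
  have e : xe s u * xe r t = _ := xG_comm (Q := QD K) hr hs h1 h2 t u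
  rw [e]
  rcases h3 with h3 | h3 <;> rw [h3, List.map_cons, List.map_nil, List.prod_cons, List.prod_nil,
    mul_one] <;> congr 2 <;> simp [CharTwo.neg_eq]

theorem pairOk_lt {r s : ℕ} {o : Option ℕ} (h : pairOk r s o = true) :
    r < chevD4.nroots ∧ s < chevD4.nroots := by
  simp only [pairOk, Bool.and_eq_true, decide_eq_true_eq] at h
  exact ⟨h.1.1, h.1.2⟩

theorem xe_zero {r : ℕ} (hr : r < chevD4.nroots) : (xe r (0 : K) : ↥(chevD4.group K)) = 1 :=
  (QD K).sys.x_zero' hr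

theorem xe_add {r : ℕ} (hr : r < chevD4.nroots) (a b : K) : xe r (a + b) = xe r a * xe r b :=
  (QD K).sys.x_add' r hr a b

theorem xe_inv {r : ℕ} (hr : r < chevD4.nroots) (a : K) : (xe r a)⁻¹ = xe r a :=
  inv_eq_of_mul_eq_one_right (by rw [← xe_add hr, CharTwo.add_self_eq_zero, xe_zero hr])

theorem C_lt (s : Fin 2) : C s < chevD4.nroots := (pairOk_lt (lay_facts s 0 0).2.1).1

/-- A coordinate of an element. -/
def Br (s : Fin 2) (l : Fin 8) (d : ↥(chevD4.group K)) (c : K) : Prop :=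
  d * xe (R s l.rev) 1 * d⁻¹ = xe (C s) c * xe (R s l.rev) 1

/-- The elements with a coordinate. -/
def HC (K : Type u) [Field K] [CharP K 2] (s : Fin 2) (l : Fin 8) :
    Subgroup ↥(chevD4.group K) where
  carrier := {d | (∀ c, Commute d (xe (C s) c)) ∧ ∃ c, Br s l d c}
  one_mem' := ⟨fun _ => Commute.one_left _, 0, by rw [Br, xe_zero (C_lt s)]; group⟩
  mul_mem' := by
    rintro a b ⟨ha, c, hc⟩ ⟨hb, c', hc'⟩
    refine ⟨fun z => (ha z).mul_left (hb z), c' + c, ?_⟩
    unfold Br at *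
    rw [show a * b * xe (R s l.rev) 1 * (a * b)⁻¹ = a * (b * xe (R s l.rev) 1 * b⁻¹) * a⁻¹ by group,
      hc', xe_add (C_lt s), mul_assoc (xe (C s) c'), ← hc, ← mul_assoc a (xe (C s) c'), (ha c').eq]
    group
  inv_mem' := by
    rintro a ⟨ha, c, hc⟩
    refine ⟨fun z => (ha z).inv_left, c, ?_⟩
    unfold Br at *
    have e : xe (R s l.rev) (1 : K) = (xe (C s) c)⁻¹ * (a * xe (R s l.rev) 1 * a⁻¹) := by
      rw [hc]; group
    conv_lhs => rw [e, xe_inv (C_lt s)]
    rw [inv_inv, ← mul_assoc, (ha c).inv_left.eq]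
    group

theorem Br.unique {s : Fin 2} {l : Fin 8} {d : ↥(chevD4.group K)} {c c' : K} (h : Br s l d c)
    (h' : Br s l d c') : c = c' :=
  xG_inj (QD K) (C_lt s) (mul_right_cancel (h.symm.trans h'))

/-- The coordinate. -/
noncomputable def W (s : Fin 2) (d : ↥(chevD4.group K)) (l : Fin 8) : K :=
  Classical.epsilon (Br s l d)

theorem W_eq {s : Fin 2} {l : Fin 8} {d : ↥(chevD4.group K)} {c : K} (h : Br s l d c) :
    W s d l = c :=
  Br.unique (Classical.epsilon_spec ⟨c, h⟩) h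

theorem W_spec {s : Fin 2} {l : Fin 8} {d : ↥(chevD4.group K)} (h : d ∈ HC K s l) :
    Br s l d (W s d l) := by
  obtain ⟨-, c, hc⟩ := h
  rwa [W_eq hc]

theorem W_mul {s : Fin 2} {l : Fin 8} {a b : ↥(chevD4.group K)} (ha : a ∈ HC K s l)
    (hb : b ∈ HC K s l) : W s (a * b) l = W s a l + W s b l := by
  refine W_eq ?_
  have h1 := W_spec ha
  have h2 := W_spec hb
  unfold Br at *
  rw [show a * b * xe (R s l.rev) 1 * (a * b)⁻¹ = a * (b * xe (R s l.rev) 1 * b⁻¹) * a⁻¹ by group,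
    h2, add_comm, xe_add (C_lt s), mul_assoc (xe (C s) (W s b l)), ← h1,
    ← mul_assoc a (xe (C s) (W s b l)), (ha.1 _).eq]
  group

theorem W_one (s : Fin 2) (l : Fin 8) : W (K := K) s 1 l = 0 :=
  W_eq (by rw [Br, xe_zero (C_lt s)]; group)

theorem W_inv {s : Fin 2} {l : Fin 8} {a : ↥(chevD4.group K)} (ha : a ∈ HC K s l) :
    W s a⁻¹ l = W s a l := by
  have h := W_mul ha (inv_mem ha)
  rw [mul_inv_cancel, W_one] at h
  exact (CharTwo.add_eq_zero.1 h.symm).symm

theorem gen_none {s : Fin 2} {l : Fin 8} {r : ℕ} (h : pairOk r (C s) none = true)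
    (h' : pairOk r (R s l.rev) none = true) (t : K) :
    xe r t ∈ HC K s l ∧ W s (xe r t) l = 0 := by
  have hb : Br s l (xe r t) 0 := by
    rw [Br, (pairOk_none h' t 1).eq, xe_zero (C_lt s)]; group
  exact ⟨⟨fun c => pairOk_none h t c, 0, hb⟩, W_eq hb⟩

theorem gen_R (s : Fin 2) (m l : Fin 8) (t : K) :
    xe (R s m) t ∈ HC K s l ∧ W s (xe (R s m) t) l = if m = l then t else 0 := by
  obtain ⟨h1, h2, h3, -⟩ := lay_facts s m l
  by_cases hml : m = l
  · rw [if_pos hml] at h3 ⊢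
    have hb : Br s l (xe (R s m) t) t := by
      have e := pairOk_some h3 t 1
      rw [mul_one] at e
      unfold Br
      have hc1 : Commute (xe (C s) t) (xe (R s m) t) := pairOk_none h2 t t
      have hc2 : Commute (xe (C s) t) (xe (R s l.rev) 1) := pairOk_none (lay_facts s l.rev l).2.1 t 1
      rw [mul_inv_eq_iff_eq_mul, show xe (C s) t * xe (R s l.rev) 1 * xe (R s m) t =
        xe (C s) t * (xe (R s l.rev) 1 * xe (R s m) t) by group, e, ← mul_assoc,
        ((hc1.mul_right hc2)).eq, mul_assoc _ (xe (C s) t), ← xe_add (C_lt s),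
        CharTwo.add_self_eq_zero, xe_zero (C_lt s), mul_one]
    exact ⟨⟨fun c => pairOk_none h1 t c, t, hb⟩, W_eq hb⟩
  · rw [if_neg hml] at h3 ⊢
    exact gen_none h1 h3 t

theorem gen_C (s : Fin 2) (l : Fin 8) (t : K) :
    xe (C s) t ∈ HC K s l ∧ W s (xe (C s) t) l = 0 :=
  gen_none (lay_facts s 0 0).2.2.2.2.2.2.2.2 (lay_facts s l.rev 0).2.1 t

/-- The radical of a side. -/
def Qs (K : Type u) [Field K] (s : Fin 2) : Subgroup ↥(chevD4.group K) :=
  XS (QD K).sys.x {r | r ∈ layL s}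

/-- The unipotent group of a side. -/
def Ps (K : Type u) [Field K] (s : Fin 2) : Subgroup ↥(chevD4.group K) :=
  XS (QD K).sys.x {r | r ∈ signL s}

theorem Qs_le (s : Fin 2) (l : Fin 8) : Qs K s ≤ HC K s l := XS_le fun r hr t => by
  rcases lay_cases s r hr with rfl | ⟨m, rfl⟩
  · exact (gen_C s l t).1
  · exact (gen_R s m l t).1

theorem Ps_le (s : Fin 2) : Ps K s ≤ HC K s (l₀ s) := XS_le fun r hr t => by
  obtain ⟨h1, h2⟩ := sign_facts s r hr
  by_cases h : r = R s (l₀ s)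
  · subst h; exact (gen_R s _ _ t).1
  · exact (gen_none h1 (h2 h) t).1

theorem W_zero_of (s : Fin 2) {S : Set ℕ} (hS : ∀ r ∈ S, r ∈ signL s ∧ r ≠ R s (l₀ s))
    {d : ↥(chevD4.group K)} (hd : d ∈ XS (QD K).sys.x S) : W s d (l₀ s) = 0 := by
  induction hd using Subgroup.closure_induction with
  | mem z hz =>
    obtain ⟨r, hr, t, rfl⟩ := hz
    obtain ⟨h1, h2⟩ := sign_facts s r (hS r hr).1
    exact (gen_none h1 (h2 (hS r hr).2) t).2
  | one => exact W_one s _
  | mul a b ha hb iha ihb =>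
    rw [W_mul (Ps_le s (XS_mono (fun r hr => (hS r hr).1) ha))
      (Ps_le s (XS_mono (fun r hr => (hS r hr).1) hb)), iha, ihb, add_zero]
  | inv a ha iha => rw [W_inv (Ps_le s (XS_mono (fun r hr => (hS r hr).1) ha)), iha]

/-- The action of a root element of the rank one subgroup on coordinates. -/
def Eax (i : Fin 3) (d : Fin 2) (t : K) (w : Fin 8 → K) : Fin 8 → K :=
  fun l => if bitv i l = d then w l + t * w (flp i l) else w l

theorem axis_conj (s d : Fin 2) (i : Fin 3) (t : K) {z : ↥(chevD4.group K)} (hz : z ∈ Qs K s) :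
    xe (Ax d i) t * z * (xe (Ax d i) t)⁻¹ ∈ Qs K s ∧
      W s (xe (Ax d i) t * z * (xe (Ax d i) t)⁻¹) = Eax i d t (W s z) := by
  set a := xe (Ax d i) t
  induction hz using Subgroup.closure_induction with
  | mem z hz =>
    obtain ⟨r, hr, u, rfl⟩ := hz
    have hmem : ∀ r ∈ layL s, ∀ v : K, xe r v ∈ Qs K s := fun r hr v => x_mem_XS hr v
    rcases lay_cases s r hr with rfl | ⟨m, rfl⟩
    · have e : a * xe (C s) u * a⁻¹ = xe (C s) u :=
        mul_inv_eq_iff_eq_mul.2 (pairOk_none (axis_ok s d i 0).1 u t).symm.eq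
      show a * xe (C s) u * a⁻¹ ∈ _ ∧ W s (a * xe (C s) u * a⁻¹) = Eax i d t (W s (xe (C s) u))
      rw [e]
      refine ⟨hmem _ hr u, funext fun l => ?_⟩
      simp only [Eax, (gen_C s _ u).2, mul_zero, add_zero, ite_self]
    · show a * xe (R s m) u * a⁻¹ ∈ _ ∧ W s (a * xe (R s m) u * a⁻¹) = Eax i d t (W s (xe (R s m) u))
      obtain ⟨-, h1, h2, h3, h4⟩ := axis_ok s d i m
      by_cases hb : bitv i m = d
      · have e : a * xe (R s m) u * a⁻¹ = xe (R s m) u :=
          mul_inv_eq_iff_eq_mul.2 (pairOk_none (h1 hb) u t).symm.eq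
        rw [e]
        refine ⟨hmem _ hr u, funext fun l => ?_⟩
        simp only [Eax, (gen_R s m _ u).2]
        by_cases hl : bitv i l = d
        · have : m ≠ flp i l := fun h => (axis_ok s d i l).2.2.2.1 (by rw [← h, hb, hl])
          rw [if_pos hl, if_neg this, mul_zero, add_zero]
        · rw [if_neg hl]
      · obtain ⟨hs1, hs2⟩ := h2 hb
        have e : a * xe (R s m) u * a⁻¹ = xe (R s m) u * xe (R s (flp i m)) (u * t) := by
          rw [mul_inv_eq_iff_eq_mul, pairOk_some hs1 u t, mul_assoc, mul_assoc,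
            (pairOk_none hs2 (u * t) t).eq]
        rw [e]
        refine ⟨mul_mem (hmem _ hr u) (hmem _ (lay_facts s _ 0).2.2.2.2.2.1 _), funext fun l => ?_⟩
        rw [W_mul (gen_R s _ _ u).1 (gen_R s _ _ _).1]
        simp only [Eax, (gen_R s _ _ _).2]
        have hfd : bitv i (flp i m) = d :=
          (show ∀ a b c : Fin 2, a ≠ b → b ≠ c → a = c by decide) _ _ _ h3 hb
        by_cases hl : bitv i l = d
        · rw [if_pos hl, if_neg (show m ≠ l from fun h => hb (h ▸ hl))]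
          by_cases hl' : flp i m = l
          · have hm' : m = flp i l := by rw [← hl', h4]
            rw [if_pos hl', if_pos hm', mul_comm]
          · have hm' : m ≠ flp i l := fun h => hl' (by rw [h, (axis_ok s d i l).2.2.2.2])
            rw [if_neg hl', if_neg hm', mul_zero]
        · rw [if_neg hl, if_neg (show flp i m ≠ l from fun h => hl (h ▸ hfd)), add_zero]
  | one =>
    rw [mul_one, mul_inv_cancel]
    exact ⟨one_mem _, funext fun l => by simp [Eax, W_one]⟩
  | mul x y hx hy ihx ihy =>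
    rw [show a * (x * y) * a⁻¹ = a * x * a⁻¹ * (a * y * a⁻¹) by group]
    refine ⟨mul_mem ihx.1 ihy.1, funext fun l => ?_⟩
    rw [W_mul (Qs_le s l ihx.1) (Qs_le s l ihy.1), ihx.2, ihy.2]
    simp only [Eax, W_mul (Qs_le s _ hx) (Qs_le s _ hy)]
    split <;> ring
  | inv x hx ihx =>
    rw [show a * x⁻¹ * a⁻¹ = (a * x * a⁻¹)⁻¹ by group]
    refine ⟨inv_mem ihx.1, funext fun l => ?_⟩
    rw [W_inv (Qs_le s l ihx.1), ihx.2]
    simp only [Eax, W_inv (Qs_le s _ hx)]

/-- The tensor cube of a matrix. -/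
def Tw (y : Matrix (Fin 2) (Fin 2) K) (w : Fin 8 → K) (l : Fin 8) : K :=
  ∑ m, y (bitv 0 l) (bitv 0 m) * y (bitv 1 l) (bitv 1 m) ^ 2 * y (bitv 2 l) (bitv 2 m) ^ 4 * w m

theorem bit_table : ∀ m : Fin 8, (bitv 0 m, bitv 1 m, bitv 2 m) =
    ([(0, 0, 0), (0, 0, 1), (0, 1, 0), (0, 1, 1), (1, 0, 0), (1, 0, 1), (1, 1, 0), (1, 1, 1)] :
      List (Fin 2 × Fin 2 × Fin 2)).getD m.val (0, 0, 0) := by decide +kernel

theorem Tw_one (w : Fin 8 → K) : Tw 1 w = w := by
  funext l
  rw [Tw, Finset.sum_eq_single l]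
  · simp
  · intro m _ hm
    have h := (show ∀ l m : Fin 8, m ≠ l →
      bitv 0 l ≠ bitv 0 m ∨ bitv 1 l ≠ bitv 1 m ∨ bitv 2 l ≠ bitv 2 m by decide +kernel) l m hm
    rcases h with h | h | h <;> simp [Matrix.one_apply_ne h]
  · simp

theorem Tw_mul (A B : Matrix (Fin 2) (Fin 2) K) (w : Fin 8 → K) :
    Tw (A * B) w = Tw A (Tw B w) := by
  have sq : ∀ a b : K, (a + b) ^ 2 = a ^ 2 + b ^ 2 := CharTwo.add_sq
  have q4 : ∀ a b : K, (a + b) ^ 4 = a ^ 4 + b ^ 4 := fun a b => by
    rw [show (4 : ℕ) = 2 * 2 from rfl, pow_mul, sq, sq, ← pow_mul, ← pow_mul]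
  funext l
  simp only [Tw, Finset.mul_sum, ← mul_assoc]
  rw [Finset.sum_comm]
  refine Finset.sum_congr rfl fun m _ => ?_
  rw [← Finset.sum_mul]
  congr 1
  simp only [Fin.sum_univ_eight, Matrix.mul_apply, Fin.sum_univ_two, sq, q4,
    show ∀ n : Fin 8, bitv 0 n = ([0, 0, 0, 0, 1, 1, 1, 1] : List (Fin 2)).getD n.val 0 by decide +kernel,
    show ∀ n : Fin 8, bitv 1 n = ([0, 0, 1, 1, 0, 0, 1, 1] : List (Fin 2)).getD n.val 0 by decide +kernel,
    show ∀ n : Fin 8, bitv 2 n = ([0, 1, 0, 1, 0, 1, 0, 1] : List (Fin 2)).getD n.val 0 by decide +kernel]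
  simp
  ring

/-- A word in the rank one subgroup. -/
noncomputable def axW (d : Fin 2) (t : K) : ↥(chevD4.group K) :=
  xe (Ax d 0) t * xe (Ax d 1) (t ^ 2) * xe (Ax d 2) (t ^ 4)

/-- Its matrix. -/
def axM (d : Fin 2) (t : K) : Matrix (Fin 2) (Fin 2) K :=
  if d = 0 then !![1, t; 0, 1] else !![1, 0; t, 1]

theorem axW_conj (s d : Fin 2) (t : K) {z : ↥(chevD4.group K)} (hz : z ∈ Qs K s) :
    axW d t * z * (axW d t)⁻¹ ∈ Qs K s ∧
      W s (axW d t * z * (axW d t)⁻¹) = Tw (axM d t) (W s z) := by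
  obtain ⟨h1, e1⟩ := axis_conj s d 2 (t ^ 4) hz
  obtain ⟨h2, e2⟩ := axis_conj s d 1 (t ^ 2) h1
  obtain ⟨h3, e3⟩ := axis_conj s d 0 t h2
  have e : axW d t * z * (axW d t)⁻¹ = xe (Ax d 0) t * (xe (Ax d 1) (t ^ 2) *
      (xe (Ax d 2) (t ^ 4) * z * (xe (Ax d 2) (t ^ 4))⁻¹) * (xe (Ax d 1) (t ^ 2))⁻¹) *
      (xe (Ax d 0) t)⁻¹ := by simp only [axW]; group
  rw [e]
  refine ⟨h3, ?_⟩
  rw [e3, e2, e1]
  funext l
  fin_cases d <;> fin_cases l <;>
    simp [Tw, Eax, axM, Fin.sum_univ_eight, bitv, flp] <;> ring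

/-- An ordered product of layer elements. -/
noncomputable def prodW (s : Fin 2) (L : List (Fin 8)) (w : Fin 8 → K) : ↥(chevD4.group K) :=
  (L.map fun l => xe (R s l) (w l)).prod

theorem prodW_congr (s : Fin 2) {L : List (Fin 8)} {w w' : Fin 8 → K} (h : ∀ l ∈ L, w l = w' l) :
    prodW s L w = prodW s L w' := by
  unfold prodW
  congr 1
  exact List.map_congr_left fun l hl => by rw [h l hl]

theorem prodW_insert (s : Fin 2) (m : Fin 8) (t : K) : ∀ (L : List (Fin 8)), L.Nodup → m ∈ L →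
    ∀ w : Fin 8 → K, ∃ c, xe (R s m) t * prodW s L w =
      prodW s L (Function.update w m (w m + t)) * xe (C s) c
  | [], _, h, _ => absurd h List.not_mem_nil
  | l :: L, hnd, hm, w => by
    obtain ⟨hl, hnd'⟩ := List.nodup_cons.1 hnd
    have step : ∀ w : Fin 8 → K, prodW s (l :: L) w = xe (R s l) (w l) * prodW s L w := fun w => rfl
    by_cases hml : m = l
    · subst hml
      refine ⟨0, ?_⟩
      rw [xe_zero (C_lt s), mul_one, step, step, Function.update_self, ← mul_assoc,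
        ← xe_add (pairOk_lt (lay_facts s m 0).1).1, add_comm,
        prodW_congr s (w := Function.update w m (w m + t)) (w' := w) (fun x hx => Function.update_of_ne (ne_of_mem_of_not_mem hx hl) _ _)]
    · have hm' : m ∈ L := (List.mem_cons.1 hm).resolve_left hml
      obtain ⟨c, ec⟩ := prodW_insert s m t L hnd' hm' w
      obtain ⟨c', ec'⟩ : ∃ c', xe (R s m) t * xe (R s l) (w l) =
          xe (R s l) (w l) * xe (R s m) t * xe (C s) c' := by
        obtain ⟨-, -, -, h, -⟩ := lay_facts s l m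
        by_cases hlm : l = m.rev
        · rw [if_pos hlm] at h; exact ⟨_, pairOk_some h _ _⟩
        · rw [if_neg hlm] at h
          exact ⟨0, by rw [xe_zero (C_lt s), mul_one]; exact (pairOk_none h _ _).symm.eq⟩
      have hcen : Commute (xe (C s) c') (prodW s L w) := by
        refine Commute.list_prod_right _ _ fun z hz => ?_
        obtain ⟨x, -, rfl⟩ := List.mem_map.1 hz
        exact pairOk_none (lay_facts s x 0).2.1 _ _
      refine ⟨c + c', ?_⟩
      rw [step, step, Function.update_of_ne (Ne.symm hml), ← mul_assoc, ec', mul_assoc _ _ (prodW s L w),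
        hcen.eq, ← mul_assoc, mul_assoc _ _ (prodW s L w), ec, xe_add (C_lt s)]
      group

theorem exists_prodW (s : Fin 2) {d : ↥(chevD4.group K)} (hd : d ∈ Qs K s) :
    ∃ (w : Fin 8 → K) (c : K), d = prodW s (List.finRange 8) w * xe (C s) c := by
  induction hd using Subgroup.closure_induction_left with
  | one =>
    refine ⟨fun _ => 0, 0, ?_⟩
    rw [xe_zero (C_lt s), mul_one]
    refine (List.prod_eq_one fun z hz => ?_).symm
    obtain ⟨x, -, rfl⟩ := List.mem_map.1 hz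
    exact xe_zero (pairOk_lt (lay_facts s x 0).1).1
  | mul_left z hz y _ ih =>
    obtain ⟨r, hr, t, rfl⟩ := hz
    obtain ⟨w, c, rfl⟩ := ih
    rcases lay_cases s r hr with rfl | ⟨m, rfl⟩
    · refine ⟨w, t + c, ?_⟩
      have hcen : Commute (xe (C s) t) (prodW s (List.finRange 8) w) := by
        refine Commute.list_prod_right _ _ fun z hz => ?_
        obtain ⟨x, -, rfl⟩ := List.mem_map.1 hz
        exact pairOk_none (lay_facts s x 0).2.1 _ _
      show xe (C s) t * _ = _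
      rw [xe_add (C_lt s), ← mul_assoc, hcen.eq, mul_assoc]
    · obtain ⟨c', e⟩ := prodW_insert s m t _ (List.nodup_finRange 8) (List.mem_finRange m) w
      refine ⟨Function.update w m (w m + t), c' + c, ?_⟩
      show xe (R s m) t * _ = _
      rw [← mul_assoc, e, xe_add (C_lt s), mul_assoc]
  | inv_mul_cancel z hz y _ ih =>
    obtain ⟨r, hr, t, rfl⟩ := hz
    obtain ⟨w, c, rfl⟩ := ih
    rcases lay_cases s r hr with rfl | ⟨m, rfl⟩
    · refine ⟨w, t + c, ?_⟩
      have hcen : Commute (xe (C s) t) (prodW s (List.finRange 8) w) := by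
        refine Commute.list_prod_right _ _ fun z hz => ?_
        obtain ⟨x, -, rfl⟩ := List.mem_map.1 hz
        exact pairOk_none (lay_facts s x 0).2.1 _ _
      show (xe (C s) t)⁻¹ * _ = _
      rw [xe_inv (C_lt s), xe_add (C_lt s), ← mul_assoc, hcen.eq, mul_assoc]
    · obtain ⟨c', e⟩ := prodW_insert s m t _ (List.nodup_finRange 8) (List.mem_finRange m) w
      refine ⟨Function.update w m (w m + t), c' + c, ?_⟩
      show (xe (R s m) t)⁻¹ * _ = _
      rw [xe_inv (pairOk_lt (lay_facts s m 0).1).1, ← mul_assoc, e, xe_add (C_lt s), mul_assoc]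

theorem W_prodW (s : Fin 2) (w : Fin 8 → K) (c : K) (l : Fin 8) :
    W s (prodW s (List.finRange 8) w * xe (C s) c) l = w l := by
  have key : ∀ L : List (Fin 8), L.Nodup →
      prodW s L w ∈ HC K s l ∧ W s (prodW s L w) l = if l ∈ L then w l else 0 := by
    intro L
    induction L with
    | nil => intro _; exact ⟨one_mem _, by simpa [prodW] using W_one s l⟩
    | cons m L ih =>
      intro hnd
      obtain ⟨hm, hnd'⟩ := List.nodup_cons.1 hnd
      obtain ⟨h1, h2⟩ := ih hnd'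
      obtain ⟨h3, h4⟩ := gen_R s m l (w m)
      refine ⟨mul_mem h3 h1, ?_⟩
      show W s (xe (R s m) (w m) * prodW s L w) l = _
      rw [W_mul h3 h1, h2, h4]
      by_cases h : m = l
      · subst h; simp [hm]
      · simp [h, Ne.symm h]
  obtain ⟨h1, h2⟩ := key _ (List.nodup_finRange 8)
  rw [W_mul h1 (gen_C s l c).1, h2, (gen_C s l c).2, if_pos (List.mem_finRange l), add_zero]

/-- An element without mixed coordinates is a product of three long root elements. -/
theorem long_form (s : Fin 2) {d : ↥(chevD4.group K)} (hd : d ∈ Qs K s)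
    (h : ∀ l : Fin 8, l ≠ 0 → l ≠ 7 → W s d l = 0) :
    ∃ c, d = xe (R s 0) (W s d 0) * xe (R s 7) (W s d 7) * xe (C s) c := by
  obtain ⟨w, c, rfl⟩ := exists_prodW s hd
  refine ⟨c, ?_⟩
  have hz : ∀ l : Fin 8, l ≠ 0 → l ≠ 7 → xe (R s l) (w l) = 1 := fun l h0 h7 => by
    rw [show w l = 0 from (W_prodW s w c l).symm.trans (h l h0 h7)]
    exact xe_zero (pairOk_lt (lay_facts s l 0).1).1
  rw [W_prodW, W_prodW]
  show prodW s [0, 1, 2, 3, 4, 5, 6, 7] w * _ = _
  simp only [prodW, List.map_cons, List.map_nil, List.prod_cons, List.prod_nil,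
    hz 1 (by decide) (by decide), hz 2 (by decide) (by decide), hz 3 (by decide) (by decide),
    hz 4 (by decide) (by decide), hz 5 (by decide) (by decide), hz 6 (by decide) (by decide),
    one_mul, mul_one]

theorem σ_fix {φ : K →+* K} {q : ℕ} (hφ : ∀ t, φ t = t ^ q) {r : ℕ}
    (hr : r ∈ [14, 22, 9, 1, 23, 0]) (t : K) : (endo φ).σ (xe r t) = xe r (t ^ q) := by
  obtain ⟨h1, h2, h3⟩ := fix_facts r hr
  rw [xe, (endo φ).σ_x r h3]
  show xG (QD K).K K (tables.rh r) ((endo φ).f r t) = _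
  rw [show (endo φ).f r t = t ^ q from graphEndo_f_pow hφ h1 t, h2]

/-- The two long coordinates of a fixed element are fixed. -/
theorem W_fixed {φ : K →+* K} {q : ℕ} (hq : q ≠ 0) (hφ : ∀ t, φ t = t ^ q) (s : Fin 2)
    {l : Fin 8} (hl : l = 0 ∨ l = 7) {d : ↥(chevD4.group K)} (hd : d ∈ HC K s l)
    (hσ : (endo φ).σ d = d) : W s d l ^ q = W s d l := by
  have hr : R s l.rev ∈ [14, 22, 9, 1, 23, 0] ∧ C s ∈ [14, 22, 9, 1, 23, 0] :=
    (show ∀ s : Fin 2, ∀ l : Fin 8, l = 0 ∨ l = 7 →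
      R s l.rev ∈ [14, 22, 9, 1, 23, 0] ∧ C s ∈ [14, 22, 9, 1, 23, 0] by decide +kernel) s l hl
  have h := congrArg (endo φ).σ (W_spec hd)
  rw [map_mul, map_mul, map_mul, map_inv, hσ, σ_fix hφ hr.1, σ_fix hφ hr.2, one_pow] at h
  exact (W_eq (c := W s d l ^ q) h).symm

end Cfsg.Agent.H84.Gauss.D4Two
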