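import Mathlib

/-!
Evaluating words in the generators of a small group with a Bruhat decomposition: the unipotent part is
held as a bit vector, multiplication by a generator is read off a checked table.
-/

set_option autoImplicit false

namespace Cfsg.Agent.H84.Gauss

/-- The product of a word. -/
def prodL {G : Type*} [Group G] (g : ℕ → G) (l : List ℕ) : G := (l.map g).prod

/-- The data of the evaluator. -/
structure Mach where
  /-- the number of unipotent generators -/
  k : ℕ
  /-- multiplication tables, `k` bits for each entry -/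
  tab : ℕ → ℕ
  /-- `g j * g i` as a word, for `i ≤ j` -/
  rel : ℕ → ℕ → List ℕ
  /-- the image of a generator under a reflection -/
  img : ℕ → ℕ → Option ℕ
  /-- the root group part of a unipotent element, and its inverse -/
  part : ℕ → ℕ → ℕ × ℕ
  /-- `n e n = a n b` -/
  one : ℕ → ℕ → Option (ℕ × ℕ)
  /-- reduced words of the Weyl elements -/
  word : ℕ → List ℕ
  /-- right multiplication in the Weyl group -/
  wr : ℕ → ℕ → ℕ

namespace Mach

variable (M : Mach)

/-- The letters of a unipotent element. -/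
def bits (u : ℕ) : List ℕ := (List.range M.k).filter (Nat.testBit u)

/-- Right multiplication by a generator. -/
def mt (i u : ℕ) : ℕ := (M.tab i >>> (M.k * u)) % 2 ^ M.k

/-- Right multiplication by a word. -/
def mw (u : ℕ) (l : List ℕ) : ℕ := l.foldl (fun s i => M.mt i s) u

/-- Multiplication. -/
def mu (u v : ℕ) : ℕ := M.mw u (M.bits v)

/-- A table entry is correct given the smaller ones. -/
def entryOk (i u : ℕ) : Bool :=
  match (M.bits u).getLast? with
  | none => decide (M.bits (M.mt i u) = [i])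
  | some j =>
    if j < i then decide (M.bits (M.mt i u) = M.bits u ++ [i])
    else
      decide (M.bits u = M.bits (u - 2 ^ j) ++ [j]) && decide (u - 2 ^ j < u) &&
        decide (M.mt i u = M.mw (u - 2 ^ j) (M.rel j i)) &&
        match M.rel j i with
        | [] => true
        | h :: t => decide (i ≤ h ∧ h < M.k) && t.all fun a => decide (i < a ∧ a < M.k)

/-- A generator's table is correct. -/
def tableOk (i : ℕ) : Bool := (List.range (2 ^ M.k)).all (M.entryOk i)

/-- Conjugation by a reflection. -/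
def cj (r d : ℕ) : Option ℕ := ((M.bits d).mapM (M.img r)).map (M.mw 0)

/-- Moving a root group element through a Weyl element. -/
def sigma (w e : ℕ) : Option ℕ := (M.word w).foldr (fun r o => o.bind (M.cj r)) (some e)

/-- Right multiplication of `u n_w v` by one letter. -/
def step (s : ℕ × ℕ × ℕ) (L : ℕ) : Option (ℕ × ℕ × ℕ) :=
  if L < M.k then some (s.1, s.2.1, M.mt L s.2.2)
  else
    let r := L - M.k
    let p := M.part r s.2.2
    let d := M.mu p.2 s.2.2
    if M.mu p.1 d = s.2.2 ∧ r < 2 then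
      (M.cj r d).bind fun d' =>
        let w' := M.wr s.2.1 r
        if (M.word s.2.1).length < (M.word w').length then
          (M.sigma s.2.1 p.1).map fun f => (M.mu s.1 f, w', d')
        else if p.1 = 0 then some (s.1, w', d')
        else (M.one r p.1).bind fun ab =>
          (M.sigma w' ab.1).map fun f => (M.mu s.1 f, s.2.1, M.mu ab.2 d')
    else none

/-- The normal form of a word. -/
def ev (l : List ℕ) : Option (ℕ × ℕ × ℕ) := l.foldlM M.step (0, 0, 0)

/-- The representative of the conjugacy class of a word in some cell. -/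
def key (l : List ℕ) : Option (ℕ × ℕ) := (M.ev l).map fun s => (s.2.1, M.mu s.2.2 s.1)

theorem mt_lt (i u : ℕ) : M.mt i u < 2 ^ M.k := Nat.mod_lt _ (Nat.two_pow_pos _)

variable {G : Type*} [Group G]

/-- The evaluator describes `g` and `n`. -/
structure Sound (g n : ℕ → G) : Prop where
  table : ∀ i < M.k, M.tableOk i = true
  rel : ∀ i j, i ≤ j → j < M.k → g j * g i = prodL g (M.rel j i)
  img : ∀ r i σ, r < 2 → i < M.k → M.img r i = some σ → σ < M.k ∧ n r * g i * (n r)⁻¹ = g σ
  sq : ∀ r, r < 2 → n r * n r = 1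
  one : ∀ r e a b, r < 2 → M.one r e = some (a, b) →
    n r * prodL g (M.bits e) * n r = prodL g (M.bits a) * n r * prodL g (M.bits b)
  word_lt : ∀ w, ∀ r ∈ M.word w, r < 2
  word_zero : M.word 0 = []
  wr : ∀ w r, r < 2 → prodL n (M.word w) * n r = prodL n (M.word (M.wr w r))

theorem bits_lt {u i : ℕ} (h : i ∈ M.bits u) : i < M.k := List.mem_range.1 (List.mem_filter.1 h).1

theorem bits_zero : M.bits 0 = [] := List.filter_eq_nil_iff.2 fun a _ => by simp

variable {M} {g n : ℕ → G} (hS : M.Sound g n)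

/-- The element of a bit vector. -/
def phi (M : Mach) (g : ℕ → G) (u : ℕ) : G := prodL g (M.bits u)

theorem phi_zero : phi M g 0 = 1 := by rw [phi, bits_zero]; rfl

include hS

theorem mt_spec : ∀ i < M.k, ∀ u < 2 ^ M.k, phi M g (M.mt i u) = phi M g u * g i := by
  suffices ∀ d i, i + d + 1 = M.k → ∀ u < 2 ^ M.k, phi M g (M.mt i u) = phi M g u * g i from
    fun i hi => this (M.k - i - 1) i (by omega)
  intro d
  induction d using Nat.strong_induction_on with
  | _ d ih =>
  intro i hd u
  induction u using Nat.strong_induction_on with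
  | _ u ihu =>
  intro hu
  have h := List.all_eq_true.1 (hS.table i (by omega)) u (List.mem_range.2 hu)
  rcases hlast : (M.bits u).getLast? with _ | j
  · simp only [entryOk, hlast, decide_eq_true_eq] at h
    rw [List.getLast?_eq_none_iff] at hlast
    simp [phi, prodL, h, hlast]
  · simp only [entryOk, hlast] at h
    split_ifs at h with hji
    · rw [decide_eq_true_eq] at h
      simp [phi, prodL, h]
    · simp only [Bool.and_eq_true, decide_eq_true_eq] at h
      obtain ⟨⟨⟨hb, hlt⟩, he⟩, hrel⟩ := h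
      have hj : j < M.k := M.bits_lt (List.mem_of_getLast? hlast)
      have hw : ∀ (l : List ℕ), (∀ a ∈ l, i < a ∧ a < M.k) → ∀ v < 2 ^ M.k,
          phi M g (M.mw v l) = phi M g v * prodL g l := by
        intro l
        induction l with
        | nil => intro _ v _; simp [mw, prodL]
        | cons a t iht =>
          intro hl v hv
          obtain ⟨ha1, ha2⟩ := hl a List.mem_cons_self
          show phi M g (M.mw (M.mt a v) t) = _
          rw [iht (fun b hb => hl b (List.mem_cons_of_mem _ hb)) _ (M.mt_lt _ _),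
            ih (M.k - a - 1) (by omega) a (by omega) v hv, prodL, prodL, List.map_cons,
            List.prod_cons, mul_assoc]
      have hu' : phi M g u = phi M g (u - 2 ^ j) * g j := by simp [phi, prodL, hb]
      rw [he, hu', mul_assoc, hS.rel i j (not_lt.1 hji) hj]
      rcases hr : M.rel j i with _ | ⟨a, t⟩
      · simp [mw, prodL]
      · simp only [hr, Bool.and_eq_true, decide_eq_true_eq, List.all_eq_true] at hrel
        obtain ⟨⟨ha1, ha2⟩, ht⟩ := hrel
        show phi M g (M.mw (M.mt a (u - 2 ^ j)) t) = _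
        rw [hw t ht _ (M.mt_lt _ _)]
        have hfirst : phi M g (M.mt a (u - 2 ^ j)) = phi M g (u - 2 ^ j) * g a := by
          rcases eq_or_lt_of_le ha1 with rfl | h'
          · exact ihu _ hlt (by omega)
          · exact ih (M.k - a - 1) (by omega) a (by omega) _ (by omega)
        rw [hfirst, prodL, prodL, List.map_cons, List.prod_cons, mul_assoc]

theorem mw_spec : ∀ (l : List ℕ), (∀ a ∈ l, a < M.k) → ∀ v < 2 ^ M.k,
    phi M g (M.mw v l) = phi M g v * prodL g l ∧ M.mw v l < 2 ^ M.k
  | [], _, v, hv => ⟨by simp [mw, prodL], hv⟩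
  | a :: t, hl, v, hv => by
    obtain ⟨h1, h2⟩ := mw_spec t (fun b hb => hl b (List.mem_cons_of_mem _ hb)) (M.mt a v)
      (M.mt_lt _ _)
    refine ⟨?_, h2⟩
    show phi M g (M.mw (M.mt a v) t) = _
    rw [h1, mt_spec hS a (hl a List.mem_cons_self) v hv, prodL, prodL, List.map_cons, List.prod_cons,
      mul_assoc]

theorem mu_spec {u : ℕ} (hu : u < 2 ^ M.k) (v : ℕ) :
    phi M g (M.mu u v) = phi M g u * phi M g v ∧ M.mu u v < 2 ^ M.k :=
  mw_spec hS _ (fun _ h => M.bits_lt h) u hu

theorem cj_spec {r d d' : ℕ} (hr : r < 2) (h : M.cj r d = some d') :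
    n r * phi M g d * (n r)⁻¹ = phi M g d' ∧ d' < 2 ^ M.k := by
  obtain ⟨l, hl, rfl⟩ := Option.map_eq_some_iff.1 h
  have key : ∀ (b l : List ℕ), (∀ a ∈ b, a < M.k) → b.mapM (M.img r) = some l →
      (∀ a ∈ l, a < M.k) ∧ n r * prodL g b * (n r)⁻¹ = prodL g l := by
    intro b
    induction b with
    | nil => intro l _ h; simp at h; subst h; simp [prodL]
    | cons a t iht =>
      intro l hb h
      rw [List.mapM_cons] at h
      obtain ⟨σ, hσ, h⟩ := Option.bind_eq_some_iff.1 h
      obtain ⟨l', hl', h⟩ := Option.bind_eq_some_iff.1 h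
      simp only [pure, Option.some.injEq] at h
      subst h
      obtain ⟨h1, h2⟩ := iht l' (fun c hc => hb c (List.mem_cons_of_mem _ hc)) hl'
      obtain ⟨h3, h4⟩ := hS.img r a σ hr (hb a List.mem_cons_self) hσ
      refine ⟨List.forall_mem_cons.2 ⟨h3, h1⟩, ?_⟩
      simp only [prodL, List.map_cons, List.prod_cons] at *
      rw [← h4, ← h2]; group
  obtain ⟨h1, h2⟩ := key _ l (fun _ h => M.bits_lt h) hl
  obtain ⟨h3, h4⟩ := mw_spec hS l h1 0 (Nat.two_pow_pos _)
  rw [phi_zero, one_mul] at h3
  exact ⟨h2.trans h3.symm, h4⟩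

theorem sigma_spec {w e f : ℕ} (h : M.sigma w e = some f) :
    prodL n (M.word w) * phi M g e * (prodL n (M.word w))⁻¹ = phi M g f := by
  have key : ∀ (l : List ℕ), (∀ r ∈ l, r < 2) → ∀ f, l.foldr (fun r o => o.bind (M.cj r)) (some e) =
      some f → prodL n l * phi M g e * (prodL n l)⁻¹ = phi M g f := by
    intro l
    induction l with
    | nil => intro _ f h; simp at h; subst h; simp [prodL]
    | cons r t iht =>
      intro hl f h
      rw [List.foldr_cons] at h
      obtain ⟨f', hf', h⟩ := Option.bind_eq_some_iff.1 h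
      rw [← (cj_spec hS (hl r List.mem_cons_self) h).1,
        ← iht (fun c hc => hl c (List.mem_cons_of_mem _ hc)) f' hf']
      simp only [prodL, List.map_cons, List.prod_cons]
      group
  exact key _ (hS.word_lt w) f h

/-- The element of a state. -/
def val (_hS : M.Sound g n) (s : ℕ × ℕ × ℕ) : G :=
  phi M g s.1 * prodL n (M.word s.2.1) * phi M g s.2.2

theorem step_spec {s s' : ℕ × ℕ × ℕ} {L : ℕ} (hu : s.1 < 2 ^ M.k) (hv : s.2.2 < 2 ^ M.k)
    (hp : ∀ r v, (M.part r v).1 < 2 ^ M.k ∧ (M.part r v).2 < 2 ^ M.k)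
    (hone : ∀ r e a b, M.one r e = some (a, b) → b < 2 ^ M.k)
    (h : M.step s L = some s') :
    val hS s' = val hS s * (if L < M.k then g L else n (L - M.k)) ∧
      s'.1 < 2 ^ M.k ∧ s'.2.2 < 2 ^ M.k := by
  obtain ⟨u, w, v⟩ := s
  unfold step at h
  simp only at h hu hv
  by_cases hL : L < M.k
  · rw [if_pos hL, Option.some.injEq] at h
    subst h
    refine ⟨?_, hu, M.mt_lt _ _⟩
    simp only [val, if_pos hL]
    rw [mt_spec hS L hL v hv, mul_assoc, mul_assoc, mul_assoc]
  rw [if_neg hL] at h
  set r := L - M.k with hr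
  set e := (M.part r v).1 with he'
  set d := M.mu (M.part r v).2 v with hd0
  by_cases hc : M.mu e d = v ∧ r < 2
  swap
  · rw [if_neg hc] at h; cases h
  rw [if_pos hc] at h
  obtain ⟨d', hd', h1'⟩ := Option.bind_eq_some_iff.1 h
  obtain ⟨hcj, hdlt⟩ := cj_spec hS hc.2 hd'
  have hp' := hp r v
  have hv' : phi M g v = phi M g e * phi M g d := by
    rw [← (mu_spec hS hp'.1 d).1, hc.1]
  have hn : (n r)⁻¹ = n r := inv_eq_of_mul_eq_one_right (hS.sq r hc.2)
  rw [hn] at hcj
  have hwr := hS.wr w r hc.2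
  have hn2 := hS.sq r hc.2
  simp only [val, if_neg hL]
  split_ifs at h1' with hlen he
  · obtain ⟨f, hf, h2'⟩ := Option.map_eq_some_iff.1 h1'
    subst h2'
    refine ⟨?_, (mu_spec hS hu f).2, hdlt⟩
    show phi M g (M.mu u f) * prodL n (M.word (M.wr w r)) * phi M g d' = _
    rw [(mu_spec hS hu f).1, ← sigma_spec hS hf, ← hwr, ← hcj, hv']
    simp only [mul_assoc, inv_mul_cancel_left]
    rw [← mul_assoc (n r) (n r), hn2, one_mul]
  · simp only [Option.some.injEq] at h1'
    subst h1'
    refine ⟨?_, hu, hdlt⟩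
    show phi M g u * prodL n (M.word (M.wr w r)) * phi M g d' = _
    rw [← hwr, ← hcj, hv', he, phi_zero]
    simp only [mul_assoc, one_mul]
    rw [← mul_assoc (n r) (n r), hn2, one_mul]
  · obtain ⟨⟨a, b⟩, hab, h2'⟩ := Option.bind_eq_some_iff.1 h1'
    obtain ⟨f, hf, h3'⟩ := Option.map_eq_some_iff.1 h2'
    subst h3'
    have hb := hone _ _ _ _ hab
    refine ⟨?_, (mu_spec hS hu f).2, (mu_spec hS hb d').2⟩
    have h1 : n r * phi M g e * n r = phi M g a * n r * phi M g b := hS.one r e a b hc.2 hab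
    have h2 : prodL n (M.word w) = prodL n (M.word (M.wr w r)) * n r := by
      rw [← hwr, mul_assoc, hn2, mul_one]
    show phi M g (M.mu u f) * prodL n (M.word w) * phi M g (M.mu b d') = _
    rw [(mu_spec hS hu f).1, (mu_spec hS hb d').1, ← sigma_spec hS hf, ← hcj, hv', h2]
    calc phi M g u * (prodL n (M.word (M.wr w r)) * phi M g a * (prodL n (M.word (M.wr w r)))⁻¹) *
          (prodL n (M.word (M.wr w r)) * n r) * (phi M g b * (n r * phi M g d * n r))
        = phi M g u * prodL n (M.word (M.wr w r)) * (phi M g a * n r * phi M g b) * n r *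
            (phi M g d * n r) := by group
      _ = phi M g u * (prodL n (M.word (M.wr w r)) * n r) * phi M g e * (n r * n r) *
            (phi M g d * n r) := by rw [← h1]; group
      _ = _ := by rw [hn2]; group

theorem ev_spec (hp : ∀ r v, (M.part r v).1 < 2 ^ M.k ∧ (M.part r v).2 < 2 ^ M.k)
    (hone : ∀ r e a b, M.one r e = some (a, b) → b < 2 ^ M.k) {l : List ℕ} {s : ℕ × ℕ × ℕ}
    (h : M.ev l = some s) :
    val hS s = prodL (fun L => if L < M.k then g L else n (L - M.k)) l ∧
      s.1 < 2 ^ M.k ∧ s.2.2 < 2 ^ M.k := by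
  set F : ℕ → G := fun L => if L < M.k then g L else n (L - M.k) with hF
  have key : ∀ (l : List ℕ) (s0 s : ℕ × ℕ × ℕ), s0.1 < 2 ^ M.k → s0.2.2 < 2 ^ M.k →
      l.foldlM M.step s0 = some s →
      val hS s = val hS s0 * prodL F l ∧ s.1 < 2 ^ M.k ∧ s.2.2 < 2 ^ M.k := by
    intro l
    induction l with
    | nil => intro s0 s h1 h2 h; simp at h; subst h; exact ⟨by simp [prodL], h1, h2⟩
    | cons L t iht =>
      intro s0 s h1 h2 h
      rw [List.foldlM_cons] at h
      obtain ⟨s1, hs1, h⟩ := Option.bind_eq_some_iff.1 h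
      obtain ⟨e1, h1', h2'⟩ := step_spec hS h1 h2 hp hone hs1
      obtain ⟨e2, h3, h4⟩ := iht s1 s h1' h2' h
      exact ⟨by rw [e2, e1, prodL, prodL, List.map_cons, List.prod_cons, mul_assoc], h3, h4⟩
  obtain ⟨h1, h2⟩ := key l (0, 0, 0) s (Nat.two_pow_pos _) (Nat.two_pow_pos _) h
  refine ⟨?_, h2⟩
  rw [h1]
  simp [val, hS.word_zero, phi_zero, prodL]

/-- A word is conjugate to the element of its key. -/
theorem key_spec (hp : ∀ r v, (M.part r v).1 < 2 ^ M.k ∧ (M.part r v).2 < 2 ^ M.k)
    (hone : ∀ r e a b, M.one r e = some (a, b) → b < 2 ^ M.k) {l : List ℕ} {w v : ℕ}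
    (h : M.key l = some (w, v)) :
    IsConj (prodL (fun L => if L < M.k then g L else n (L - M.k)) l)
      (prodL n (M.word w) * phi M g v) := by
  obtain ⟨⟨a, w', b⟩, hs, h⟩ := Option.map_eq_some_iff.1 h
  obtain ⟨h1, ha, hb⟩ := ev_spec hS hp hone hs
  simp only [Prod.mk.injEq] at h
  obtain ⟨rfl, rfl⟩ := h
  rw [← h1, isConj_iff]
  refine ⟨(phi M g a)⁻¹, ?_⟩
  simp only [val]
  rw [(mu_spec hS hb a).1]
  group

end Mach

end Cfsg.Agent.H84.Gauss
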