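import Cfsg.Agent.H84.Gauss.Root

/-!
Covering a split Tits system of rank two by products of two conjugates of an element of a Levi
subgroup acting without fixed points on both unipotent radicals.
-/

set_option autoImplicit false
set_option linter.unusedSectionVars false

namespace Cfsg.Agent.H84.Gauss

open Cfsg.Agent.H28 Cfsg.Agent.H54.BNC Cfsg.Agent.H13.Split Cfsg.Agent.H74.RootExt
open Cfsg.Agent.H37 (Tits.Ambient)
open Cfsg.Agent.H40.Ree (para mem_para)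

variable {G W : Type*} [Group G] [Group W] (A : Tits.Ambient G W)

/-- Conjugation in `Lg t` can shift the torus part of a noncentral element by any element of `T`. -/
def Adjust (t : W) (T : Set G) : Prop :=
  ∀ e ∈ A.Uw t, e ≠ 1 → ∀ h ∈ A.H, ∀ e' ∈ A.Uw t, ∀ τ ∈ T,
    ∃ y ∈ Lg A t, ∃ e₂ ∈ A.Uw t, ∃ e₃ ∈ A.Uw t,
      y * (A.n t * e * (A.n t)⁻¹ * h * e') * y⁻¹ = A.n t * e₂ * (A.n t)⁻¹ * (h * τ) * e₃

/-- `x` lies in `Lg s` and fixes nothing in either radical of `s`. -/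
def Fpf (s w₀ : W) (x : G) : Prop :=
  x ∈ Lg A s ∧ ∀ d ∈ rad A s,
    (x * d * x⁻¹ = d → d = 1) ∧
      (x * (A.n w₀ * d * (A.n w₀)⁻¹) * x⁻¹ = A.n w₀ * d * (A.n w₀)⁻¹ → d = 1)

/-- Some torus element in each coset of `T` gives only products of two conjugates of `x`. -/
def Cover (s w₀ : W) (T : Set G) (x : G) : Prop :=
  ∀ h ∈ A.H, ∃ τ ∈ T, h * τ ∈ A.H ∧ ∀ e ∈ A.Uw s, ∀ e' ∈ A.Uw s,
    ∃ a b : G, Fpf A s w₀ (a * x * a⁻¹) ∧ Fpf A s w₀ (b * x * b⁻¹) ∧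
      A.n s * e * (A.n s)⁻¹ * (h * τ) * e' = a * x * a⁻¹ * (b * x * b⁻¹)

variable {A} {p : ℕ} {w₀ : W} [Finite G] (hC : Ctx A p w₀)
include hC

/-- Left multiplication by the opposite radical is conjugation. -/
theorem Ctx.fpf_left {s : W} (hs : s ∈ A.S) {x : G} (hx : Fpf A s w₀ x) {d : G}
    (hd : d ∈ rad A s) : ∃ c : G, A.n w₀ * d * (A.n w₀)⁻¹ * x = c * x * c⁻¹ := by
  set V : Subgroup G := (rad A s).map (MulAut.conj (A.n w₀)).toMonoidHom with hV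
  have hmem : ∀ v, v ∈ V ↔ ∃ r ∈ rad A s, A.n w₀ * r * (A.n w₀)⁻¹ = v := fun v =>
    Subgroup.mem_map.trans (Iff.rfl)
  have hstab : ∀ v ∈ V, x * v * x⁻¹ ∈ V := by
    intro v hv
    obtain ⟨r, hr, rfl⟩ := (hmem v).1 hv
    obtain ⟨r', hr', e⟩ := hC.Lg_rad_opp hs hx.1 hr
    exact (hmem _).2 ⟨r', hr', e.symm⟩
  let f : V → V := fun c => ⟨c.1 * (x * c.1⁻¹ * x⁻¹), mul_mem c.2 (hstab _ (inv_mem c.2))⟩
  have hf : Function.Injective f := by
    intro a b hab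
    have e : (a : G) * (x * (a : G)⁻¹ * x⁻¹) = b * (x * (b : G)⁻¹ * x⁻¹) := congrArg Subtype.val hab
    have e2 : x * ((a : G)⁻¹ * b) * x⁻¹ = (a : G)⁻¹ * b := by
      calc x * ((a : G)⁻¹ * b) * x⁻¹
          = (a : G)⁻¹ * ((a : G) * (x * (a : G)⁻¹ * x⁻¹)) * (x * b * x⁻¹) := by group
        _ = (a : G)⁻¹ * b := by rw [e]; group
    obtain ⟨r, hr, er⟩ := (hmem _).1 (mul_mem (inv_mem a.2) b.2)
    rw [← er] at e2
    have h1 := (hx.2 r hr).2 e2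
    rw [h1, mul_one, mul_inv_cancel] at er
    exact Subtype.ext (inv_mul_eq_one.1 er.symm)
  obtain ⟨c, hc⟩ := Finite.surjective_of_injective hf ⟨_, (hmem _).2 ⟨d, hd, rfl⟩⟩
  have e : (c : G) * (x * (c : G)⁻¹ * x⁻¹) = A.n w₀ * d * (A.n w₀)⁻¹ := congrArg Subtype.val hc
  exact ⟨c, by rw [← e]; group⟩

/-- Right multiplication by the radical is conjugation. -/
theorem Ctx.fpf_right {s : W} (hs : s ∈ A.S) {x : G} (hx : Fpf A s w₀ x) {d : G}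
    (hd : d ∈ rad A s) : ∃ c : G, x * d = c * x * c⁻¹ := by
  have hstab : ∀ v ∈ rad A s, x⁻¹ * v * x ∈ rad A s := fun v hv => (hC.Lg_rad hs hx.1 v hv).2
  let f : rad A s → rad A s := fun c => ⟨x⁻¹ * c.1 * x * c.1⁻¹, mul_mem (hstab _ c.2) (inv_mem c.2)⟩
  have hf : Function.Injective f := by
    intro a b hab
    have e : x⁻¹ * (a : G) * x * (a : G)⁻¹ = x⁻¹ * b * x * (b : G)⁻¹ := congrArg Subtype.val hab
    have e2 : x * ((a : G)⁻¹ * b) * x⁻¹ = (a : G)⁻¹ * b := by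
      calc x * ((a : G)⁻¹ * b) * x⁻¹
          = x * (a : G)⁻¹ * (x⁻¹ * (a : G) * x * (a : G)⁻¹)⁻¹ * (x⁻¹ * (a : G) * x * (a : G)⁻¹) *
              b * x⁻¹ := by group
        _ = x * (a : G)⁻¹ * (x⁻¹ * (a : G) * x * (a : G)⁻¹)⁻¹ * (x⁻¹ * b * x * (b : G)⁻¹) *
              b * x⁻¹ := by rw [e]
        _ = (a : G)⁻¹ * b := by group
    exact Subtype.ext (inv_mul_eq_one.1 ((hx.2 _ (mul_mem (inv_mem a.2) b.2)).1 e2))
  obtain ⟨c, hc⟩ := Finite.surjective_of_injective hf ⟨d, hd⟩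
  have e : x⁻¹ * (c : G) * x * (c : G)⁻¹ = d := congrArg Subtype.val hc
  exact ⟨c, by rw [← e]; group⟩

/-- The radicals of `s` may be absorbed into a product of two conjugates. -/
theorem Ctx.absorb {s : W} (hs : s ∈ A.S) {x a b r r' l : G} (hr : r ∈ rad A s)
    (hr' : r' ∈ rad A s) (ha : Fpf A s w₀ (a * x * a⁻¹)) (hb : Fpf A s w₀ (b * x * b⁻¹))
    (hl : l = a * x * a⁻¹ * (b * x * b⁻¹)) :
    ∃ u v : G, A.n w₀ * r * (A.n w₀)⁻¹ * l * r' = u * x * u⁻¹ * (v * x * v⁻¹) := by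
  obtain ⟨c, hc⟩ := hC.fpf_left hs ha hr
  obtain ⟨d, hd⟩ := hC.fpf_right hs hb hr'
  refine ⟨c * a, d * b, ?_⟩
  rw [hl, show A.n w₀ * r * (A.n w₀)⁻¹ * (a * x * a⁻¹ * (b * x * b⁻¹)) * r' =
    (A.n w₀ * r * (A.n w₀)⁻¹ * (a * x * a⁻¹)) * (b * x * b⁻¹ * r') by group, hc, hd]
  group

/-- A conjugate of every nontrivial element lies outside a maximal parabolic subgroup. -/
theorem Ctx.exists_outside {s t : W} (hs : s ∈ A.S) (ht : t ∈ A.S) (hst : s ≠ t)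
    (hgen : ∀ w ∈ Subgroup.closure (A.S \ {t}), w = 1 ∨ w = s) (hsimple : IsSimpleGroup G)
    {g : G} (hg : g ≠ 1) :
    ∃ y : G, ∃ w, w ∉ Subgroup.closure (A.S \ {t}) ∧ y * g * y⁻¹ ∈ cell A w := by
  by_contra hcon
  push Not at hcon
  have hall : Subgroup.normalClosure {g} ≤ para A hs := by
    refine (Subgroup.closure_le _).2 fun z hz => ?_
    obtain ⟨g', hg', hconj⟩ := Group.mem_conjugatesOfSet_iff.1 hz
    rw [Set.mem_singleton_iff] at hg'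
    subst hg'
    obtain ⟨y, rfl⟩ := isConj_iff.1 hconj
    obtain ⟨w, hw⟩ := exists_cell A (y * g' * y⁻¹)
    have hmem : w ∈ Subgroup.closure (A.S \ {t}) := by
      by_contra h; exact hcon y w h hw
    rcases hgen w hmem with rfl | rfl
    · exact Or.inl (mem_cell_one hw)
    · exact Or.inr hw
  have htop : Subgroup.normalClosure {g} = ⊤ :=
    ((hsimple.eq_bot_or_eq_top_of_normal _ Subgroup.normalClosure_normal)).resolve_left fun h =>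
      hg (Subgroup.mem_bot.1 (h ▸ Subgroup.subset_normalClosure (Set.mem_singleton g)))
  rcases (mem_para A).1 (hall (htop ▸ Subgroup.mem_top (A.n t))) with h | h
  · exact S_ne_one A ht (A.eq_one_of_n_mem_B h)
  · exact hst (cell_inj A (n_mem_cell A t) h).symm

/-- Every nontrivial element is a product of two conjugates of `x`. -/
theorem Ctx.two_conj {s t : W} (hs : s ∈ A.S) (ht : t ∈ A.S) (hst : s ≠ t)
    (hgen : ∀ w ∈ Subgroup.closure (A.S \ {t}), w = 1 ∨ w = s) (hsimple : IsSimpleGroup G)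
    {T : Set G} (hadj : Adjust A t T) {x : G} (hcov : Cover A s w₀ T x) {g : G} (hg : g ≠ 1) :
    ∃ u v : G, g = u * x * u⁻¹ * (v * x * v⁻¹) := by
  obtain ⟨y0, w, hw, hgw⟩ := hC.exists_outside hs ht hst hgen hsimple hg
  obtain ⟨u, c, hc, k, hk, b, hb, e1, hct⟩ := hC.exists_gauss ht hw hgw
  obtain ⟨r, hr, e, he, e', he', r', hr', e2, he1⟩ := hC.exists_three ht (k := k) hc hb
  obtain ⟨τ, hτ, -, hcov'⟩ := hcov k hk
  obtain ⟨y, hy, e₂, he₂, e₃, he₃, e3⟩ := hadj e he (he1 hct) k hk e' he' τ hτ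
  obtain ⟨r₂, hr₂, e4⟩ := hC.Lg_rad_opp ht hy hr
  have hr₃ : y * r' * y⁻¹ ∈ rad A t := (hC.Lg_rad ht hy r' hr').1
  obtain ⟨x₂, hx₂, e5⟩ := hC.conj_w₀_opp ht he₂
  set g' := y * (u * (y0 * g * y0⁻¹) * u⁻¹) * y⁻¹ with hg'
  have e6 : g' = A.n w₀ * (r₂ * x₂) * (A.n w₀)⁻¹ * (k * τ) * (e₃ * (y * r' * y⁻¹)) := by
    calc g' = (y * (A.n w₀ * r * (A.n w₀)⁻¹) * y⁻¹) *
          (y * (A.n t * e * (A.n t)⁻¹ * k * e') * y⁻¹) * (y * r' * y⁻¹) := by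
            simp only [hg', e1, e2]; group
      _ = _ := by rw [e4, e3, e5]; group
  obtain ⟨r₄, hr₄, e₄, he₄, e₅, he₅, r₅, hr₅, e7, -⟩ :=
    hC.exists_three hs (k := k * τ) (mul_mem hr₂.1 (A.Uw_le t hx₂))
      (mul_mem (A.Uw_le t he₃) hr₃.1)
  obtain ⟨a, b', ha, hb', el⟩ := hcov' e₄ he₄ e₅ he₅
  obtain ⟨u', v', e8⟩ := hC.absorb hs hr₄ hr₅ ha hb' el
  refine ⟨(y * u * y0)⁻¹ * u', (y * u * y0)⁻¹ * v', ?_⟩
  have e9 : g' = u' * x * u'⁻¹ * (v' * x * v'⁻¹) := e6.trans (e7.trans e8)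
  calc g = (y * u * y0)⁻¹ * g' * (y * u * y0) := by simp only [hg']; group
    _ = _ := by rw [e9]; group

end Cfsg.Agent.H84.Gauss
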