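import Cfsg.Agent.H84.Gauss.ReeTorus
import Cfsg.Agent.H84.Gauss.FixFree
import Cfsg.Agent.H84.Gauss.Fpf
import Cfsg.Agent.H13.Split.All

/-!
`²F₄(q)` satisfies the standing hypotheses; the central torus of the Suzuki Levi subgroup fixes nothing
in either radical.
-/

set_option autoImplicit false
set_option maxRecDepth 100000
set_option linter.unusedSectionVars false

namespace Cfsg.Agent.H84.Gauss

open Cfsg.Lie Cfsg.Agent.H37 Cfsg.Agent.H37.RootSys Cfsg.Agent.H37.Twist Cfsg.Agent.H56.ChevAut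
open Cfsg.Agent.H56.TwAut Cfsg.Agent.H56.TwAut.F4 Cfsg.Agent.H37.Twist.F4
open Cfsg.Agent.H13.Split Cfsg.Agent.H74.RootExt Cfsg.Agent.H40.Ree

universe u

variable {K : Type u} [Field K] [Fintype K] [CharP K 2] {φ : K →+* K} {m : ℕ}
  (hφ : ∀ t, φ t = t ^ 2 ^ m) (hK : Fintype.card K = 2 ^ (2 * m + 1))

theorem ree_ctx : Ctx (Md hφ hK).tw 2 (Md hφ hK).w0 where
  base := sbase hφ hK
  norm := by
    haveI := Fact.mk Nat.prime_two
    exact (model_hyp (QD K) 2 (Md hφ hK) (by decide) (of_decide_eq_true rfl) fun j => longest_F4 j).norm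
  cen := by rintro _ ⟨i, rfl⟩; exact sW_cen hφ hK i
  sq := w0_sq hφ hK

theorem lift_rad {d : GT hφ hK} (hd : d ∈ rad (Md hφ hK).tw (sW φ 1)) :
    lift (Md hφ hK) d ∈ XS (QD K).sys.x
      (↑(Sys.keep (QD K).X.good ((fold φ).ι (sW φ 1))) : Set ℕ) := by
  obtain ⟨k, hk, e⟩ := lift_n (Md hφ hK) (sW φ 1)
  have h1 := (mem_U (Md hφ hK)).1 hd.1
  have h2 := (mem_U (Md hφ hK)).1 hd.2
  refine mem_keep_of_conj (QD K).sys _ h1 ?_
  change lift (Md hφ hK) ((Md hφ hK).tw.n (sW φ 1) * d * ((Md hφ hK).tw.n (sW φ 1))⁻¹) ∈ _ at h2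
  rw [lift_mul, lift_mul, lift_inv, e] at h2
  have h3 := (QD K).amb.H_conj_U k⁻¹ (inv_mem hk) _ h2
  show (QD K).amb.n ((fold φ).ι (sW φ 1)) * _ * ((QD K).amb.n ((fold φ).ι (sW φ 1)))⁻¹ ∈ (QD K).amb.U
  convert h3 using 1
  group

theorem keep_roots {r : ℕ} (hr : r ∈ Sys.keep (QD K).X.good ((fold φ).ι (sW φ 1))) :
    ∃ h : r < chevF4.nroots, 24 ≤ r ∧ r ∉ [25, 27, 28, 30] := by
  obtain ⟨h1, h2, h3⟩ := Sys.mem_keep.1 hr
  refine ⟨h1, h2, fun hmem => ?_⟩
  have hflip : Sys.flip (QD K).X.good ((fold φ).ι (sW φ 1)) = H37.Twist.F4.pos.toFinset := by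
    show Sys.flip (QD K).X.good ((fold φ).ι ((fold φ).gens (1 : Fin 2))) = _
    rw [(fold φ).ι_gens (1 : Fin 2), flip_word (QD K).X.good ((fold φ).word_lt (1 : Fin 2))]
    exact congrArg List.toFinset H37.Twist.F4.flip_ok.1
  have h4 : r ∈ Sys.flip (QD K).X.good ((fold φ).ι (sW φ 1)) := by
    rw [hflip, List.mem_toFinset]
    exact (show ∀ x ∈ [25, 27, 28, 30], x ∈ H37.Twist.F4.pos by decide +kernel) r hmem
  obtain ⟨_, _, h5⟩ := Sys.mem_flip.1 h4
  exact absurd h5 (not_lt.2 h3)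

theorem zel_fpf (hm : 1 ≤ m) {u : Kˣ} (hu : orderOf u = 2 ^ (2 * m + 1) - 1) :
    Fpf (Md hφ hK).tw (sW φ 1) (Md hφ hK).w0 (zel hφ hK u) := by
  set c := hc m u (u * u ^ 2 ^ m) with hc'
  have hz : lift (Md hφ hK) (zel hφ hK u) = tG (QD K) c := lift_hel hφ hK _
  have hfix : ∀ r, ∀ hr : r < chevF4.nroots, r ∉ [25, 27, 28, 30, 22, 20, 19, 17] → ∀ a : K,
      tG (QD K) c * (QD K).sys.x r a * (tG (QD K) c)⁻¹ = (QD K).sys.x r a → a = 0 := by
    intro r hr hne a ha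
    change tG (QD K) c * xG (QD K).K K r a * _ = xG (QD K).K K r a at ha
    rw [tG_conj (QD K) c hr] at ha
    by_contra ha0
    refine chT_zel_ne hm hu hr hne (Units.ext ?_)
    exact mul_left_eq_self₀.1 (xG_inj (QD K) hr ha) |>.resolve_right ha0
  refine ⟨H_le_Lg _ (zel_mem hφ hK u), fun d hd => ?_⟩
  have hD := lift_rad hφ hK hd
  have hcl := closed_keep (QD K).sys ((fold φ).ι (sW φ 1))
  refine ⟨fun e => ?_, fun e => ?_⟩
  · have e' := congrArg (lift (Md hφ hK)) e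
    rw [lift_mul, lift_mul, lift_inv, hz] at e'
    refine lift_injective _ (Eq.trans ?_ (map_one (liftHom (Md hφ hK))).symm)
    refine XS_fixed (QD K).sys.toUnip hcl (fun r hr t => ?_) hD e'
    obtain ⟨h1, h2, h3⟩ := keep_roots (K := K) hr
    refine ⟨(chT c r : K) * t, tG_conj (QD K) c h1 t, fun ht => hfix r h1 ?_ t ?_⟩
    · simp only [List.mem_cons, List.not_mem_nil, or_false] at h3 ⊢; omega
    · change tG (QD K) c * xG (QD K).K K r t * _ = xG (QD K).K K r t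
      rw [tG_conj (QD K) c h1, ht]
  · have e' := congrArg (lift (Md hφ hK)) e
    obtain ⟨k, hk, ek⟩ := lift_n (Md hφ hK) (Md hφ hK).w0
    rw [Model.ι_w0] at ek
    simp only [lift_mul, lift_inv, hz, ek] at e'
    set N := (QD K).amb.n (QD K).X.w0 with hN
    set D := lift (Md hφ hK) d
    obtain ⟨c', rfl⟩ := exists_tG (QD K) hk
    have hcomm : Commute (tG (QD K) c') (tG (QD K) c) := by
      show _ = _
      rw [← map_mul, ← map_mul, mul_comm]
    have e2 : N⁻¹ * tG (QD K) c * N * D * (N⁻¹ * tG (QD K) c * N)⁻¹ = D := by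
      set T := tG (QD K) c
      set T' := tG (QD K) c'
      calc N⁻¹ * T * N * D * (N⁻¹ * T * N)⁻¹
          = (T' * N)⁻¹ * (T' * T * T'⁻¹) * (T' * N * D * (T' * N)⁻¹) * (T' * T * T'⁻¹)⁻¹ *
              (T' * N) := by group
        _ = (T' * N)⁻¹ * (T * (T' * N * D * (T' * N)⁻¹) * T⁻¹) * (T' * N) := by
            rw [hcomm.eq, mul_inv_cancel_right]; group
        _ = D := by rw [e']; group
    refine lift_injective _ (Eq.trans ?_ (map_one (liftHom (Md hφ hK))).symm)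
    refine XS_fixed (QD K).sys.toUnip hcl (fun r hr t => ?_) hD e2
    obtain ⟨h1, h2, h3⟩ := keep_roots (K := K) hr
    have hw := w0_val (K := K) h1
    obtain ⟨t', e1, e3⟩ := rep_conj_moves (QD K).sys (QD K).X.w0
      (h := N⁻¹ * tG (QD K) c * N) ((QD K).amb.n_conj_H' _ (tG_mem (QD K) c)) h1 t rfl
      (fun a ha => by
        have hz0 := hfix _ (Fin.isLt _) (by
          rw [hw]; simp only [List.mem_cons, List.not_mem_nil, or_false] at h3 ⊢; omega) a ha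
        rw [hz0]; exact (QD K).sys.x_zero' (Fin.isLt _))
    refine ⟨t', e1, fun ht => ?_⟩
    have h0 := e3 ht
    rw [← (QD K).sys.x_zero' h1] at h0
    exact xG_inj (QD K) h1 h0

end Cfsg.Agent.H84.Gauss
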