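import Cfsg.Agent.H84.Gauss.ReeTorus
import Cfsg.Agent.H74.RootExt.SL2Lift

/-!
The two tori inside the rank one subgroups of `²F₄(q)`.
-/

set_option autoImplicit false
set_option maxRecDepth 100000
set_option linter.unusedSectionVars false

namespace Cfsg.Agent.H84.Gauss

open Cfsg.Lie Cfsg.Agent.H37 Cfsg.Agent.H37.RootSys Cfsg.Agent.H37.Twist Cfsg.Agent.H56.ChevAut
open Cfsg.Agent.H56.TwAut Cfsg.Agent.H56.TwAut.F4 Cfsg.Agent.H37.Twist.F4
open Cfsg.Agent.H13.Split Cfsg.Agent.H74.RootExt Cfsg.Agent.H40.Ree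
open Cfsg.Agent.H54.Presentation (wEl SL2Rels)
open Cfsg.Agent.H87 (upMat lowMat)

universe u

variable {K : Type u} [Field K] [Fintype K] [CharP K 2] {φ : K →+* K} {m : ℕ}
  (hφ : ∀ t, φ t = t ^ 2 ^ m) (hK : Fintype.card K = 2 ^ (2 * m + 1)) (hm : 1 ≤ m)

/-- The torus of the linear rank one subgroup. -/
noncomputable def tel (d : Kˣ) : GT hφ hK := hel hφ hK (d, 1)

theorem Nd_mul_mem_H {d d' : K} (hd : d ≠ 0) (hd' : d' ≠ 0) :
    Nd hφ hK d * Nd hφ hK d' ∈ (Md hφ hK).tw.H := by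
  obtain ⟨a, ha, ea⟩ := Nd_mem hφ hK hd
  obtain ⟨b, hb, eb⟩ := Nd_mem hφ hK hd'
  set A := (Md hφ hK).tw
  set n := A.n ((fold φ).gens (0 : Fin 2))
  obtain ⟨l, hl, el⟩ := A.n_mul ((fold φ).gens (0 : Fin 2)) ((fold φ).gens (0 : Fin 2))
  rw [A.sq_S _ (sW_mem hφ hK 0), A.n_one, mul_one] at el
  rw [ea, eb, show a * n * (b * n) = a * (n * b * n⁻¹) * (n * n) by group, el]
  exact mul_mem (mul_mem ha (A.n_conj_H _ _ hb)) hl

include hm in
theorem sl2_torus (d : Kˣ) : ∃ e : Lsub hφ hK 0 ≃* Matrix.SpecialLinearGroup (Fin 2) K,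
    (∀ t, ∀ h, e ⟨x0 hφ hK t, h⟩ = upMat t) ∧ (∀ t, ∀ h, e ⟨y0 hφ hK t, h⟩ = lowMat t) ∧
      ∃ h : tel hφ hK d ∈ Lsub hφ hK 0, e ⟨tel hφ hK d, h⟩ = dg d := by
  obtain ⟨e, hx, hy⟩ := sl2_equiv hφ hK hm
  refine ⟨e, hx, hy, ?_⟩
  have hNd : ∀ c : Kˣ, ∃ h : Nd hφ hK (c : K) ∈ Lsub hφ hK 0,
      e ⟨Nd hφ hK (c : K), h⟩ = wEl (upMat (k := K)) lowMat (c : K) := fun c => by
    refine ⟨mul_mem (mul_mem (x0_mem_Lsub hφ hK _) (y0_mem_Lsub hφ hK _)) (x0_mem_Lsub hφ hK _), ?_⟩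
    show e (⟨x0 hφ hK c, x0_mem_Lsub hφ hK _⟩ * ⟨y0 hφ hK (c : K)⁻¹, y0_mem_Lsub hφ hK _⟩ *
      ⟨x0 hφ hK c, x0_mem_Lsub hφ hK _⟩) = _
    rw [map_mul, map_mul, hx, hy, wEl, CharTwo.neg_eq]
  obtain ⟨hd, ed⟩ := hNd d
  obtain ⟨h1, e1⟩ := hNd 1
  obtain ⟨hP, eP⟩ := hNd 1
  set g : Lsub hφ hK 0 := ⟨_, hd⟩ * ⟨_, h1⟩ with hg
  have eg : e g = dg d := by
    rw [hg, map_mul, ed, e1]
    show wEl upMat lowMat (d : K) * wEl upMat lowMat ((1 : Kˣ) : K) =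
      wEl upMat lowMat (d : K) * wEl upMat lowMat (-1 : K)
    rw [Units.val_one, CharTwo.neg_eq]
  obtain ⟨⟨a, b⟩, eab⟩ := exists_hel hφ hK (g := (g : GT hφ hK))
    (Nd_mul_mem_H hφ hK d.ne_zero (1 : Kˣ).ne_zero)
  have hmem : hel hφ hK (a, b) ∈ Lsub hφ hK 0 := eab ▸ g.2
  have ge : g = ⟨hel hφ hK (a, b), hmem⟩ := Subtype.ext eab
  rw [ge] at eg
  -- the action on the root group
  have hc : chi0 (a, b) = d ^ 2 := by
    have h2 := (hel_x0 hφ hK (a, b) 1).1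
    have h3 : e (⟨_, hmem⟩ * ⟨x0 hφ hK 1, x0_mem_Lsub hφ hK 1⟩ * (⟨_, hmem⟩ : Lsub hφ hK 0)⁻¹) =
        e ⟨x0 hφ hK ((chi0 (a, b) : K) * 1), x0_mem_Lsub hφ hK _⟩ := congrArg e (Subtype.ext h2)
    rw [map_mul, map_mul, map_inv, eg, hx, hx, mul_inv_eq_iff_eq_mul] at h3
    have h4 := congrArg (fun M : Matrix.SpecialLinearGroup (Fin 2) K => M.1 0 1) h3
    simp [coe_dg, H87.upMat_coe, Matrix.mul_apply, Fin.sum_univ_two] at h4
    refine Units.ext ?_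
    push_cast
    rw [pow_two]
    calc (chi0 (a, b) : K) = (chi0 (a, b) : K) * ((d : K)⁻¹ * d) := by
          rw [inv_mul_cancel₀ d.ne_zero, mul_one]
      _ = d * d := by rw [← mul_assoc, ← h4]
  -- inversion by the reflection
  have hinv : hel hφ hK (b * a⁻¹, b) = (hel hφ hK (a, b))⁻¹ := by
    have hPe : (⟨nP hφ hK, by
        have : nP hφ hK = Nd hφ hK ((1 : Kˣ) : K) := by rw [nP, Nd, Units.val_one, inv_one]
        rw [this]; exact hP⟩ : Lsub hφ hK 0) = ⟨Nd hφ hK ((1 : Kˣ) : K), hP⟩ :=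
      Subtype.ext (by show nP hφ hK = Nd hφ hK ((1 : Kˣ) : K); rw [nP, Nd, Units.val_one, inv_one])
    have h5 : e (⟨Nd hφ hK ((1 : Kˣ) : K), hP⟩ * ⟨_, hmem⟩ * (⟨_, hP⟩ : Lsub hφ hK 0)⁻¹) =
        e (⟨_, hmem⟩ : Lsub hφ hK 0)⁻¹ := by
      rw [map_mul, map_mul, map_inv, map_inv, eg, eP, mul_inv_eq_iff_eq_mul]
      refine Matrix.SpecialLinearGroup.ext _ _ fun i j => ?_
      rw [← map_inv, Matrix.SpecialLinearGroup.coe_mul, Matrix.SpecialLinearGroup.coe_mul, coe_dg,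
        coe_dg, Units.val_one, Chevalley.SL2Hom.wEl_sl2 one_ne_zero]
      fin_cases i <;> fin_cases j <;> simp [Matrix.mul_fin_two]
    rw [← hPe] at h5
    have h6 : nP hφ hK * hel hφ hK (a, b) * (nP hφ hK)⁻¹ = (hel hφ hK (a, b))⁻¹ :=
      congrArg Subtype.val (e.injective h5)
    rwa [nP_conj_hel] at h6
  have hb : b = 1 := by
    have h6 : hel hφ hK ((b * a⁻¹, b) * (a, b)) = hel hφ hK ((1, 1) * (1, 1)) := by
      rw [hel_mul, hel_mul, hinv, inv_mul_cancel]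
      have := hel_inj hφ hK
      rw [← hel_mul]
      have h11 : hel hφ hK ((1 : Kˣ), (1 : Kˣ)) = 1 := by
        have := hel_mul hφ hK (1, 1) (1, 1)
        rw [Prod.mk_mul_mk, one_mul] at this
        exact left_eq_mul.1 this
      rw [Prod.mk_mul_mk, one_mul, h11]
    have h7 := congrArg Prod.snd (hel_inj hφ hK h6)
    simp only [Prod.mk_mul_mk, one_mul] at h7
    exact (sq_units_bij hK).1 ((pow_two b).trans (h7.trans (one_pow 2).symm))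
  have ha : a = d := by
    rw [hb] at hc
    simp only [chi0, inv_one, mul_one] at hc
    exact (sq_units_bij hK).1 hc
  subst hb ha
  exact ⟨hmem, eg⟩

/-- The top root group commutes with the Suzuki rank one subgroup. -/
theorem top_commute {g : GT hφ hK} (hg : g ∈ Lsub hφ hK 1) :
    Commute (lift (Md hφ hK) g) (xe 47 (1 : K)) := by
  obtain ⟨hs, h47, -⟩ := top_root
  have hcomm : ∀ s ∈ [25, 27, 28, 30, 22, 20, 19, 17], ∀ t : K,
      Commute (xe s t : ↥(chevF4.group K)) (xe 47 (1 : K)) := fun s hs' t => by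
    obtain ⟨⟨a, b, c⟩, d⟩ := hs s hs'
    exact (commute_coef (Q := QD K) h47 c a b (by rw [d]; simp) 1 t).symm
  have hle : Lsub hφ hK 1 ≤ (Subgroup.centralizer {(xe 47 (1 : K) : ↥(chevF4.group K))}).comap
      (liftHom (Md hφ hK)) := rk_le hφ hK
    (fun g hg => by
      obtain ⟨t, c, rfl⟩ := exists_x1 hφ hK hg
      rw [Subgroup.mem_comap, Subgroup.mem_centralizer_singleton_iff]
      show pr pc φ t c * _ = _ * pr pc φ t c
      rw [pr, four]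
      exact (((hcomm _ (by simp [pc]) _).mul_left (hcomm _ (by simp [pc]) _)).mul_left
        ((hcomm _ (by simp [pc]) _).mul_left (hcomm _ (by simp [pc]) _))).eq)
    (fun g hg => by
      obtain ⟨t, c, rfl⟩ := opp1 hφ hK hg
      rw [Subgroup.mem_comap, Subgroup.mem_centralizer_singleton_iff]
      show pr nc φ t c * _ = _ * pr nc φ t c
      rw [pr, four]
      exact (((hcomm _ (by simp [nc]) _).mul_left (hcomm _ (by simp [nc]) _)).mul_left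
        ((hcomm _ (by simp [nc]) _).mul_left (hcomm _ (by simp [nc]) _))).eq)
  exact (Subgroup.mem_centralizer_singleton_iff.1 (hle hg))

theorem fst_eq_one {a b : Kˣ} (h : hel hφ hK (a, b) ∈ Lsub hφ hK 1) : a = 1 := by
  have h1 := (top_commute hφ hK h).eq
  rw [lift_hel] at h1
  have h2 := tG_conj (QD K) (hc m a b) top_root.2.1 (1 : K)
  change tG (QD K) (hc m a b) * xe 47 (1 : K) * _ = xe 47 _ at h2
  rw [h1, mul_inv_cancel_right, mul_one] at h2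
  have h3 : (1 : K) = (chT (hc m a b) 47 : K) := xG_inj (QD K) top_root.2.1 h2
  have h4 := top_root.2.2
  simp only [List.range_succ, List.range_zero, List.nil_append, List.cons_append, List.map_cons,
    List.map_nil, List.cons.injEq, and_true] at h4
  rw [chT_eq, h4.1, h4.2.1, h4.2.2.1, h4.2.2.2, zpow_zero, zpow_zero, zpow_zero, zpow_one, one_mul,
    one_mul, one_mul] at h3
  exact Units.ext h3.symm

include hm in
theorem suzuki_torus (b : Kˣ) : hel hφ hK (1, b) ∈ Lsub hφ hK 1 := by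
  haveI := finiteGT hφ hK
  haveI : Suzuki.SzField K m := ⟨hK, hm⟩
  obtain ⟨e, hx, hy⟩ := suzuki_equiv hφ hK hm
  have hth : Function.Surjective (Suzuki.th (F := K) m) := fun z => by
    obtain ⟨w, hw⟩ := (Finite.injective_iff_surjective.1 (CharTwo.sq_injective (R := K))) z
    obtain ⟨t, ht⟩ := (phi_bij hφ).2 w
    exact ⟨t, by rw [th_eq hφ, ht]; exact hw⟩
  obtain ⟨κ₀, hκ⟩ := hth (φ (mu m ((1 : Kˣ), b) : K))
  have hκ0 : κ₀ ≠ 0 := fun h => by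
    rw [h, Suzuki.th, zero_pow (by positivity), eq_comm, map_eq_zero] at hκ
    exact (mu m ((1 : Kˣ), b)).ne_zero hκ
  obtain ⟨κ, rfl⟩ : ∃ κ : Kˣ, (κ : K) = κ₀ := ⟨Units.mk0 κ₀ hκ0, rfl⟩
  set A := (Md hφ hK).tw
  set s := sW φ 1
  set g : Lsub hφ hK 1 := e.symm (Suzuki.t m κ)
  have hnorm : ∀ v : GT hφ hK, v ∈ A.Uw s →
      (g : GT hφ hK) * v * (g : GT hφ hK)⁻¹ ∈ A.Uw s := by
    intro v hv
    obtain ⟨t, c, rfl⟩ := exists_x1 hφ hK hv
    obtain ⟨t', ht'⟩ := (phi_bij hφ).2 (Suzuki.th m (κ : K) * φ t)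
    have h1 : g * ⟨x1 hφ hK t c, x1_mem_Lsub hφ hK t c⟩ * g⁻¹ =
        ⟨x1 hφ hK t' ((κ : K) ^ 2 * Suzuki.th m (κ : K) * (c + t * φ t) - t' * φ t'),
          x1_mem_Lsub hφ hK _ _⟩ := e.injective (by
      rw [map_mul, map_mul, map_inv, hx, hx, e.apply_symm_apply, Suzuki.t_u, ht', sub_add_cancel])
    rw [show (g : GT hφ hK) * x1 hφ hK t c * (g : GT hφ hK)⁻¹ = _ from congrArg Subtype.val h1]
    exact x1_mem hφ hK _ _
  obtain ⟨x, hxU, h, hh, eg⟩ | ⟨x, hxU, h, hh, v, hv, eg⟩ :=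
    levi_cases (sbase hφ hK) (sW_cen hφ hK 1) (sW_mem hφ hK 1)
      (rk_le_levi (sbase hφ hK) (sW_cen hφ hK 1) (sW_mem hφ hK 1) g.2)
  · obtain ⟨t₁, c₁, rfl⟩ := exists_x1 hφ hK hxU
    have hhL : h ∈ Lsub hφ hK 1 := by
      have := mul_mem (inv_mem (x1_mem_Lsub hφ hK t₁ c₁)) g.2
      rwa [eg, inv_mul_cancel_left] at this
    obtain ⟨⟨a, b'⟩, rfl⟩ := exists_hel hφ hK hh
    obtain rfl := fst_eq_one hφ hK hhL
    have hg' : g = ⟨x1 hφ hK t₁ c₁, x1_mem_Lsub hφ hK t₁ c₁⟩ * ⟨_, hhL⟩ := Subtype.ext eg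
    have h1 : (⟨_, hhL⟩ : Lsub hφ hK 1) * ⟨x1 hφ hK 1 0, x1_mem_Lsub hφ hK 1 0⟩ *
        (⟨_, hhL⟩ : Lsub hφ hK 1)⁻¹ = ⟨_, x1_mem_Lsub hφ hK ((mu m ((1 : Kˣ), b') : K) * 1)
          ((mu m ((1 : Kˣ), b') : K) * φ (mu m ((1 : Kˣ), b') : K) * 0)⟩ :=
      Subtype.ext (hel_x1 hφ hK (1, b') 1 0)
    have h2 : e (⟨_, hhL⟩ : Lsub hφ hK 1) = (Suzuki.u m (φ t₁) (c₁ + t₁ * φ t₁))⁻¹ *
        Suzuki.t m κ := by
      rw [eq_inv_mul_iff_mul_eq, ← hx t₁ c₁ (x1_mem_Lsub hφ hK t₁ c₁), ← map_mul, ← hg',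
        e.apply_symm_apply]
    have h3 := congrArg e h1
    rw [map_mul, map_mul, map_inv, h2, hx, hx] at h3
    have h4 := congrArg (fun z => Suzuki.u m (φ t₁) (c₁ + t₁ * φ t₁) * z) h3
    simp only [mul_inv_rev, inv_inv, mul_assoc, mul_inv_cancel_left] at h4
    rw [← mul_assoc, ← mul_assoc, Suzuki.t_u, Suzuki.u_mul, Suzuki.u_mul] at h4
    have h5 := congrArg (fun z : Cfsg.Sz K m => z • Suzuki.oPt m (0 : K) 0) h4
    simp only [Suzuki.u_smul_oPt, Suzuki.oPt_inj, zero_add] at h5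
    have h6 : φ (mu m ((1 : Kˣ), b) : K) = φ (mu m ((1 : Kˣ), b') : K) := by
      have := h5.1
      rw [map_one, mul_one, mul_one, hκ] at this
      exact add_right_cancel (this.trans (add_comm _ _))
    obtain rfl := mu_one_inj hK (Units.ext ((phi_bij hφ).1 h6))
    exact hhL
  · exfalso
    have h1 := hnorm _ (mul_mem (mul_mem (inv_mem hv) (x1_mem hφ hK 1 0)) hv)
    have h2 : h * (A.n s * x1 hφ hK 1 0 * (A.n s)⁻¹) * h⁻¹ ∈ A.Uw s := by
      have h3 := mul_mem (mul_mem (inv_mem hxU) h1) hxU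
      rw [eg] at h3
      convert h3 using 1
      simp only [A, s]
      group
    have h4 : A.n s * x1 hφ hK 1 0 * (A.n s)⁻¹ ∈ A.Uw s := by
      have h3 := (sbase hφ hK).H_conj_Uw (sW_mem hφ hK 1) (inv_mem hh) h2
      convert h3 using 1
      simp only [A, s]
      group
    have h5 : x1 hφ hK 1 0 = 1 := (sbase hφ hK).rad_inf (s := s)
      ((mem_rad A).2 ⟨A.Uw_le _ (x1_mem hφ hK 1 0), A.Uw_le _ h4⟩)
      (((sbase hφ hK).mem_Uw_iff (sW_mem hφ hK 1)).1 (x1_mem hφ hK 1 0))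
    rw [← x1_zero hφ hK] at h5
    exact one_ne_zero (x1_inj hφ hK h5).1

end Cfsg.Agent.H84.Gauss
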