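import Cfsg.Agent.H84.Gauss.ReeFix
import Cfsg.Agent.H84.Gauss.ReeLevi
import Cfsg.Agent.Suzuki.ClassSquare
import Cfsg.Agent.H37.Twist.F4Perfect

/-!
Every nontrivial element of `²F₄(q)`, `q ≥ 8`, is a product of two conjugates of one element of odd
order.
-/

set_option autoImplicit false
set_option maxRecDepth 100000
set_option linter.unusedSectionVars false

namespace Cfsg.Agent.H84.Gauss

open Cfsg.Lie Cfsg.Agent.H37 Cfsg.Agent.H37.RootSys Cfsg.Agent.H37.Twist Cfsg.Agent.H56.ChevAut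
open Cfsg.Agent.H56.TwAut Cfsg.Agent.H56.TwAut.F4 Cfsg.Agent.H37.Twist.F4
open Cfsg.Agent.H13.Split Cfsg.Agent.H74.RootExt Cfsg.Agent.H40.Ree
open Cfsg.Agent.H87 (upMat lowMat)

/-- Moving the corner entry by a conjugation. -/
theorem sl2_shift {k : Type*} [Field k] {r s : k} (hr : r ≠ 0) (d d' : kˣ) :
    ∃ a r' s' : k, upMat a * (lowMat r * dg d * upMat s) * (upMat a)⁻¹ =
      lowMat r' * dg d' * upMat s' := by
  set a : k := ((d' : k) - d) / (r * d) with ha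
  have hd := d.ne_zero
  have hd' := d'.ne_zero
  have key : (d : k) + a * (r * d) = d' := by
    rw [ha, div_mul_cancel₀ _ (mul_ne_zero hr hd)]; ring
  set t : k := (d : k) * s + a * (r * d * s + (d : k)⁻¹) - (d' : k) * a with ht
  refine ⟨a, r * d / d', t / d', Matrix.SpecialLinearGroup.ext _ _ fun i j => ?_⟩
  rw [H87.upMat_inv]
  simp only [Matrix.SpecialLinearGroup.coe_mul, Chevalley.SL2Hom.coe_up, Chevalley.SL2Hom.coe_low,
    coe_dg, Matrix.mul_fin_two]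
  fin_cases i <;> fin_cases j
  · simp; linear_combination key
  · simp; rw [mul_div_cancel₀ _ hd', ht]; linear_combination (-a) * key
  · simp [hd']
  · simp
    field_simp
    rw [ht]
    field_simp
    rw [show (d' : k) = d + a * (r * d) from key.symm]
    ring

universe u

variable {K : Type u} [Field K] [Fintype K] [CharP K 2] {φ : K →+* K} {m : ℕ}
  (hφ : ∀ t, φ t = t ^ 2 ^ m) (hK : Fintype.card K = 2 ^ (2 * m + 1))

theorem rk_conj_mem {i : Fin 2} {e : GT hφ hK} (he : e ∈ (Md hφ hK).tw.Uw (sW φ i)) :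
    (Md hφ hK).tw.n (sW φ i) * e * ((Md hφ hK).tw.n (sW φ i))⁻¹ ∈ Lsub hφ hK i :=
  n_conj_mem_rk he

theorem ree_adjust (hm : 1 ≤ m) :
    Adjust (Md hφ hK).tw (sW φ 0) (Set.range (tel hφ hK)) := by
  haveI := finiteGT hφ hK
  intro e he he1 h hh e' he' τ ⟨d0, hτ⟩
  subst hτ
  set A := (Md hφ hK).tw
  set n := A.n (sW φ 0) with hn
  obtain ⟨r, er⟩ := opp0 hφ hK (g := n * e * n⁻¹) (by convert he using 1; simp only [n, A]; group)
  obtain ⟨s, rfl⟩ := exists_x0 hφ hK he'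
  have hr : r ≠ 0 := fun h0 => he1 (by
    have : y0 hφ hK 0 = 1 := by
      have h1 := nP_conj_x0 hφ hK 0
      rw [x0_zero, mul_one, mul_inv_cancel] at h1
      exact h1.symm
    rwa [h0, this, conj_eq_one_iff] at er)
  obtain ⟨⟨a, b⟩, rfl⟩ := exists_hel hφ hK hh
  obtain ⟨c, rfl⟩ := (sq_units_bij hK).2 b
  -- `h` is a central element times the torus of the linear group
  set Z := hel hφ hK (c, c ^ 2) with hZ
  have hsplit : ∀ d : Kˣ, hel hφ hK (c * d, c ^ 2) = Z * tel hφ hK d := fun d => by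
    rw [hZ, tel, ← hel_mul, Prod.mk_mul_mk, mul_one]
  have hchi : chi0 (c, c ^ 2) = 1 := mul_inv_cancel _
  have hZx : ∀ t, Z * x0 hφ hK t * Z⁻¹ = x0 hφ hK t ∧ Z * y0 hφ hK t * Z⁻¹ = y0 hφ hK t := fun t => by
    have := hel_x0 hφ hK (c, c ^ 2) t
    rwa [hchi, inv_one, Units.val_one, one_mul] at this
  obtain ⟨d, rfl⟩ : ∃ d, a = c * d := ⟨c⁻¹ * a, by rw [mul_inv_cancel_left]⟩
  obtain ⟨ed, hx, hy, hdm, hde⟩ := sl2_torus hφ hK hm d
  obtain ⟨ed', hx', hy', hdm', hde'⟩ := sl2_torus hφ hK hm (d * d0)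
  have hee : ed = ed' := by
    refine MulEquiv.ext fun g => ?_
    have hle : ∀ z, z ∈ Lsub hφ hK 0 → ∃ hz : z ∈ Lsub hφ hK 0, ed ⟨z, hz⟩ = ed' ⟨z, hz⟩ := by
      intro z hz
      have hsub : Lsub hφ hK 0 ≤ ((MonoidHom.eqLocus ed.toMonoidHom ed'.toMonoidHom).map
          (Lsub hφ hK 0).subtype) := rk_le hφ hK
        (fun g hg => by
          obtain ⟨t, rfl⟩ := exists_x0 hφ hK hg
          exact ⟨⟨_, x0_mem_Lsub hφ hK t⟩, (hx t _).trans (hx' t _).symm, rfl⟩)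
        (fun g hg => by
          obtain ⟨t, rfl⟩ := opp0 hφ hK hg
          exact ⟨⟨_, y0_mem_Lsub hφ hK t⟩, (hy t _).trans (hy' t _).symm, rfl⟩)
      obtain ⟨⟨w, hw⟩, hwe, rfl⟩ := hsub hz
      exact ⟨hw, hwe⟩
    obtain ⟨_, e⟩ := hle g g.2
    exact e
  subst hee
  obtain ⟨u, r', s', key⟩ := sl2_shift (r := r) (s := s) hr d (d * d0)
  have hL : x0 hφ hK u * (y0 hφ hK r * tel hφ hK d * x0 hφ hK s) * (x0 hφ hK u)⁻¹ =
      y0 hφ hK r' * tel hφ hK (d * d0) * x0 hφ hK s' := by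
    have h1 : ed (⟨_, x0_mem_Lsub hφ hK u⟩ * (⟨_, y0_mem_Lsub hφ hK r⟩ * ⟨_, hdm⟩ *
        ⟨_, x0_mem_Lsub hφ hK s⟩) * (⟨_, x0_mem_Lsub hφ hK u⟩ : Lsub hφ hK 0)⁻¹) =
        ed (⟨_, y0_mem_Lsub hφ hK r'⟩ * ⟨_, hdm'⟩ * ⟨_, x0_mem_Lsub hφ hK s'⟩) := by
      simp only [MulEquiv.map_mul, MulEquiv.map_inv, hx, hy, hde, hde']
      exact key
    exact congrArg Subtype.val (ed.injective h1)
  refine ⟨x0 hφ hK u, Uw_le_Lg _ (x0_mem hφ hK u), n⁻¹ * y0 hφ hK r' * n, y0_opp hφ hK r',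
    x0 hφ hK s', x0_mem hφ hK s', ?_⟩
  have htel : tel hφ hK (d * d0) = tel hφ hK d * tel hφ hK d0 := by
    rw [tel, tel, tel, ← hel_mul, Prod.mk_mul_mk, one_mul]
  rw [show n * (n⁻¹ * y0 hφ hK r' * n) * n⁻¹ = y0 hφ hK r' by group, er, hsplit,
    mul_assoc Z, ← htel]
  have c1 : Commute Z (x0 hφ hK u) := mul_inv_eq_iff_eq_mul.1 (hZx u).1
  have c2 : Commute Z (y0 hφ hK r) := mul_inv_eq_iff_eq_mul.1 (hZx r).2
  have c3 : Commute Z (y0 hφ hK r') := mul_inv_eq_iff_eq_mul.1 (hZx r').2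
  calc x0 hφ hK u * (y0 hφ hK r * (Z * tel hφ hK d) * x0 hφ hK s) * (x0 hφ hK u)⁻¹
      = x0 hφ hK u * ((y0 hφ hK r * Z) * tel hφ hK d * x0 hφ hK s) * (x0 hφ hK u)⁻¹ := by group
    _ = (x0 hφ hK u * Z) * (y0 hφ hK r * tel hφ hK d * x0 hφ hK s) * (x0 hφ hK u)⁻¹ := by
        rw [← c2.eq]; group
    _ = Z * (x0 hφ hK u * (y0 hφ hK r * tel hφ hK d * x0 hφ hK s) * (x0 hφ hK u)⁻¹) := by
        rw [← c1.eq]; group
    _ = (Z * y0 hφ hK r') * tel hφ hK (d * d0) * x0 hφ hK s' := by rw [hL]; group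
    _ = _ := by rw [c3.eq]; group

omit [Fintype K] [CharP K 2] in
theorem two_pow_odd_mod_five (m : ℕ) :
    2 ^ (2 * m + 1) % 5 = 2 ∨ 2 ^ (2 * m + 1) % 5 = 3 := by
  induction m with
  | zero => simp
  | succ j ih =>
    rw [show 2 * (j + 1) + 1 = (2 * j + 1) + 2 by ring, pow_add, Nat.mul_mod]
    rcases ih with h | h <;> rw [h] <;> decide

/-- An element of odd order whose class squared covers the nontrivial elements. -/
theorem ree_two_conj (hm : 1 ≤ m) : ∃ x : GT hφ hK, Odd (orderOf x) ∧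
    ∀ g : GT hφ hK, g ≠ 1 → ∃ u v : GT hφ hK, g = u * x * u⁻¹ * (v * x * v⁻¹) := by
  haveI := finiteGT hφ hK
  haveI : Suzuki.SzField K m := ⟨hK, hm⟩
  set A := (Md hφ hK).tw
  have hC := ree_ctx hφ hK
  set N := 2 ^ (2 * m + 1) - 1 with hN
  obtain ⟨u, hu⟩ := IsCyclic.exists_ofOrder_eq_natCard (α := Kˣ)
  rw [Nat.card_units, Nat.card_eq_fintype_card, hK] at hu
  -- an element of order five of the Suzuki group
  obtain ⟨e, -, -⟩ := suzuki_equiv hφ hK hm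
  have hmod := two_pow_odd_mod_five m
  have h5 : 5 ∣ Nat.card (Cfsg.Sz K m) := by
    rw [Suzuki.card_Sz, Suzuki.card_nat (F := K) m]
    refine Dvd.dvd.mul_left ?_ _
    rw [Nat.dvd_iff_mod_eq_zero, Nat.add_mod, Nat.pow_mod]
    rcases hmod with h | h <;> rw [h]
  haveI := Fact.mk (show Nat.Prime 5 by norm_num)
  obtain ⟨y, hy⟩ := exists_prime_orderOf_dvd_card' 5 h5
  set z := zel hφ hK u with hz
  set y' : GT hφ hK := ((e.symm y : Lsub hφ hK 1) : GT hφ hK) with hy'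
  set x := y' * z with hx
  have hyz : Commute y' z := (zel_comm_L1 hφ hK u (e.symm y).2).symm
  have hzN : z ^ N = 1 := by
    let f : Kˣ →* GT hφ hK := MonoidHom.mk' (zel hφ hK) (zel_mul hφ hK)
    show f u ^ N = 1
    rw [← map_pow, hN, ← hu, pow_orderOf_eq_one, map_one]
  have hy5 : y' ^ 5 = 1 := by
    rw [hy', ← SubgroupClass.coe_pow, ← map_pow, ← hy, pow_orderOf_eq_one, map_one,
      OneMemClass.coe_one]
  have hN2 : N % 2 = 1 := by
    rw [hN, pow_succ]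
    have := Nat.one_le_two_pow (n := 2 * m)
    omega
  have hN5 : Nat.Coprime 5 N := by
    refine (Nat.Prime.coprime_iff_not_dvd (by norm_num)).2 fun hd => ?_
    have h1 : 1 ≤ 2 ^ (2 * m + 1) := Nat.one_le_two_pow
    rcases hmod with h | h <;> omega
  obtain ⟨k, hk⟩ := exists_pow_eq_self_of_coprime (x := z) (n := 5)
    (hN5.of_dvd_right (orderOf_dvd_of_pow_eq_one hzN))
  have hxLg : x ∈ Lg A (sW φ 1) :=
    mul_mem (rk_le_Lg _ (e.symm y).2) (H_le_Lg _ (zel_mem hφ hK u))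
  have hxk : x ^ (5 * k) = z := by
    rw [pow_mul, hx, hyz.mul_pow, hy5, one_mul, hk]
  have hfpf : Fpf A (sW φ 1) (Md hφ hK).w0 x :=
    Fpf.of_pow hxLg (k := 5 * k) (by rw [hxk]; exact zel_fpf hφ hK hm hu)
  refine ⟨x, ?_, fun g hg => ?_⟩
  · have hodd : Odd (5 * N) := Nat.odd_iff.2 (by omega)
    refine hodd.of_dvd_nat (orderOf_dvd_of_pow_eq_one ?_)
    rw [hx, hyz.mul_pow, pow_mul, hy5, one_pow, one_mul, mul_comm, pow_mul, hzN, one_pow]
  have hsimple : IsSimpleGroup (GT hφ hK) := (H37.Twist.F4.simple hφ hK hm).1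
  have hst : sW φ 1 ≠ sW φ 0 := (show F4.gens 1 ≠ F4.gens 0 by decide +kernel)
  refine hC.two_conj (sW_mem hφ hK 1) (sW_mem hφ hK 0) hst ?_ hsimple (ree_adjust hφ hK hm) ?_ hg
  · intro w hw
    have hle : Subgroup.closure (A.S \ {sW φ 0}) ≤ Subgroup.zpowers (sW φ 1) := by
      refine (Subgroup.closure_le _).2 ?_
      rintro _ ⟨⟨i, rfl⟩, hi⟩
      rcases (show ∀ i : Fin 2, i = 0 ∨ i = 1 by decide) i with rfl | rfl
      · exact absurd rfl hi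
      · exact Subgroup.mem_zpowers _
    obtain ⟨j, rfl⟩ := hle hw
    rcases Int.even_or_odd' j with ⟨l, rfl | rfl⟩ <;>
      simp [zpow_add, zpow_mul, zpow_ofNat, pow_two, A.sq_S _ (sW_mem hφ hK 1)]
  intro h hh
  obtain ⟨⟨a, b⟩, rfl⟩ := exists_hel hφ hK hh
  refine ⟨tel hφ hK (a⁻¹ * u ^ 2), ⟨_, rfl⟩, mul_mem hh (hel_mem hφ hK _), fun ee hee e' he' => ?_⟩
  have hh' : hel hφ hK (a, b) * tel hφ hK (a⁻¹ * u ^ 2) =
      z ^ 2 * hel hφ hK (1, b * ((u * u ^ 2 ^ m) ^ 2)⁻¹) := by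
    rw [hz, zel, tel, pow_two (hel hφ hK _), ← hel_mul, ← hel_mul, ← hel_mul]
    congr 1
    refine Prod.ext ?_ ?_
    · simp [pow_two]
    · show b * 1 = (u * u ^ 2 ^ m) * (u * u ^ 2 ^ m) * (b * ((u * u ^ 2 ^ m) ^ 2)⁻¹)
      rw [mul_one, pow_two (u * u ^ 2 ^ m), mul_comm b, mul_inv_cancel_left]
  set l' : Lsub hφ hK 1 := ⟨_, rk_conj_mem hφ hK hee⟩ *
    ⟨_, suzuki_torus hφ hK hm (b * ((u * u ^ 2 ^ m) ^ 2)⁻¹)⟩ * ⟨e', Uw_le_rk he'⟩ with hl'
  have hInSq : ∃ p q, IsConj y p ∧ IsConj y q ∧ e l' = p * q := by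
    by_cases h1 : e l' = 1
    · exact ⟨y, y⁻¹, IsConj.refl y, Suzuki.isConj_inv_of_isSS m
        ⟨fun h => by rw [h, orderOf_one] at hy; omega, by rw [hy]; decide⟩,
        by rw [h1, mul_inv_cancel]⟩
    · exact Suzuki.class_square m (by rw [hy]; omega) h1
  obtain ⟨p, q, hp, hq, hpq⟩ := hInSq
  obtain ⟨c, rfl⟩ := isConj_iff.1 hp
  obtain ⟨d, rfl⟩ := isConj_iff.1 hq
  have key : ∀ c : Cfsg.Sz K m,
      ((e.symm (c * y * c⁻¹) : Lsub hφ hK 1) : GT hφ hK) * z =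
        (e.symm c : GT hφ hK) * x * (e.symm c : GT hφ hK)⁻¹ := fun c => by
    rw [map_mul, map_mul, map_inv, Subgroup.coe_mul, Subgroup.coe_mul, InvMemClass.coe_inv, hx, hy',
      mul_assoc _ _ z, ← ((zel_comm_L1 hφ hK u (e.symm c).2).inv_right).eq]
    simp only [hz]
    group
  refine ⟨(e.symm c : GT hφ hK), (e.symm d : GT hφ hK),
    hC.fpf_conj (sW_mem hφ hK 1) hfpf (rk_le_Lg _ (e.symm c).2),
    hC.fpf_conj (sW_mem hφ hK 1) hfpf (rk_le_Lg _ (e.symm d).2), ?_⟩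
  rw [← key, ← key, hh']
  have hl : l' = e.symm (c * y * c⁻¹) * e.symm (d * y * d⁻¹) := by
    rw [← map_mul, ← hpq, e.symm_apply_apply]
  have hl2 : (l' : GT hφ hK) = (e.symm (c * y * c⁻¹) : GT hφ hK) * e.symm (d * y * d⁻¹) :=
    congrArg Subtype.val hl
  have cE : Commute z _ := zel_comm_L1 hφ hK u (rk_conj_mem hφ hK (i := 1) hee)
  have cQ : Commute z _ := zel_comm_L1 hφ hK u (e.symm (d * y * d⁻¹)).2
  have cP : Commute z _ := zel_comm_L1 hφ hK u (e.symm (c * y * c⁻¹)).2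
  calc A.n (sW φ 1) * ee * (A.n (sW φ 1))⁻¹ *
        (z ^ 2 * hel hφ hK (1, b * ((u * u ^ 2 ^ m) ^ 2)⁻¹)) * e'
      = (A.n (sW φ 1) * ee * (A.n (sW φ 1))⁻¹ * z ^ 2) *
          hel hφ hK (1, b * ((u * u ^ 2 ^ m) ^ 2)⁻¹) * e' := by group
    _ = z ^ 2 * (l' : GT hφ hK) := by
        rw [← (cE.pow_left 2).eq, hl']; push_cast; group
    _ = (z * e.symm (c * y * c⁻¹)) * (z * e.symm (d * y * d⁻¹)) := by
        rw [hl2]
        have hzPQ : ∀ P Q : GT hφ hK, Commute z P → z ^ 2 * (P * Q) = z * P * (z * Q) :=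
          fun P Q hc => by
            simp only [pow_two, mul_assoc]
            rw [← mul_assoc P z Q, ← hc.eq, mul_assoc]
        exact hzPQ _ _ cP
    _ = _ := by rw [cP.eq, cQ.eq]

end Cfsg.Agent.H84.Gauss
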