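import Cfsg.Agent.H84.Gauss.TitsMach

/-!
Every even element of a big cell of `²F₄(2)` is moved down to a root of the forest, and the roots have
factorisations.
-/

set_option autoImplicit false
set_option maxRecDepth 100000

namespace Cfsg.Agent.H84.Gauss.TM

/-- The entries of a block. -/
def blockOk (w b : ℕ) : Bool := (List.range 512).all fun v => nodeOk w (512 * b + v)

theorem forest13 : (List.range 8).all (blockOk 13) = true := by decide +kernel

theorem forest14 : (List.range 8).all (blockOk 14) = true := by decide +kernel

theorem forest15 : (List.range 8).all (blockOk 15) = true := by decide +kernel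

theorem wit_ok : TD.witL.all witOk = true := by decide +kernel

theorem node_ok {w v : ℕ} (hw : top w = true) (hv : v < 4096) : nodeOk w v = true := by
  have key : ∀ b < 8, blockOk w b = true := by
    simp only [top, Bool.or_eq_true, beq_iff_eq] at hw
    intro b hb
    rcases hw with (rfl | rfl) | rfl
    · exact List.all_eq_true.1 forest13 b (List.mem_range.2 hb)
    · exact List.all_eq_true.1 forest14 b (List.mem_range.2 hb)
    · exact List.all_eq_true.1 forest15 b (List.mem_range.2 hb)
  have h := List.all_eq_true.1 (key (v / 512) (by omega)) (v % 512) (List.mem_range.2 (by omega))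
  rwa [Nat.div_add_mod] at h

end Cfsg.Agent.H84.Gauss.TM
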