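import Cfsg.Agent.H84.Gauss.TitsSound
import Cfsg.Agent.H84.Gauss.TitsForest
import Cfsg.Agent.H84.Gauss.Climb
import Cfsg.Agent.H13.Split.Tits

/-!
Every nontrivial element of the Tits group is a product of two conjugates of one element of order five.
-/

set_option autoImplicit false
set_option maxRecDepth 100000
set_option maxHeartbeats 1000000
set_option synthInstance.maxHeartbeats 400000

namespace Cfsg.Agent.H84.Gauss.TM

open Cfsg.Lie Cfsg.Agent.H28 Cfsg.Agent.H37.RootSys Cfsg.Agent.H37.Twist Cfsg.Agent.H37.NormalForm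
open Cfsg.Agent.H54.BNC Cfsg.Agent.H13.Split
open Cfsg.Agent.H40 (Tits.GT Tits.GF Tits.UF Tits.AT Tits.gensR Tits.rev8 Tits.trV Tits.dpar Tits.gW)

/-- The value of a letter. -/
noncomputable def F (L : ℕ) : Tits.GT := if L < MT.k then gT L else nT (L - MT.k)

/-- The value of a word. -/
noncomputable def P (l : List ℕ) : Tits.GT := prodL F l

theorem P_app (a b : List ℕ) : P (a ++ b) = P a * P b := by simp [P, prodL]

theorem P_bits (v : ℕ) : P (MT.bits v) = Mach.phi MT gT v := by
  unfold P prodL Mach.phi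
  refine congrArg List.prod (List.map_congr_left fun i hi => ?_)
  rw [F, if_pos (Mach.bits_lt MT hi)]

theorem P_wlet (w : ℕ) : P (wlet w) = prodL nT (MT.word w) := by
  unfold P prodL wlet
  rw [List.map_map]
  refine congrArg List.prod (List.map_congr_left fun i _ => ?_)
  show F (12 + i) = nT i
  rw [F, if_neg (show ¬ 12 + i < MT.k from fun h => absurd (show 12 + i < 12 from h) (by omega)),
    show 12 + i - MT.k = i by show 12 + i - 12 = i; omega]

/-- The element of a node. -/
noncomputable def el (w v : ℕ) : Tits.GT := P (wlet w ++ MT.bits v)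

theorem el_eq (w v : ℕ) : el w v = prodL nT (MT.word w) * Mach.phi MT gT v := by
  rw [el, P_app, P_wlet, P_bits]

theorem P_key {l : List ℕ} {w v : ℕ} (h : MT.key l = some (w, v)) : IsConj (P l) (el w v) := by
  rw [el_eq]
  exact Mach.key_spec sound part_lt one_lt h

theorem P_one {l : List ℕ} (h : MT.key l = some (0, 0)) : P l = 1 := by
  have := P_key h
  rwa [el_eq, Mach.phi_zero, mul_one, show prodL nT (MT.word 0) = 1 from rfl, isConj_one_left] at this

theorem P_inv {a b : List ℕ} (h : MT.key (a ++ b) = some (0, 0)) : P b = (P a)⁻¹ := by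
  have := P_one h
  rw [P_app] at this
  exact eq_inv_of_mul_eq_one_right this

/-- The element of order five. -/
noncomputable def X : Tits.GT := P TD.xW

/-- A product of two conjugates of `X`. -/
def Sol (g : Tits.GT) : Prop := ∃ a b : Tits.GT, g = a * X * a⁻¹ * (b * X * b⁻¹)

theorem Sol.of_conj {g h : Tits.GT} (hc : IsConj g h) (hg : Sol g) : Sol h := by
  obtain ⟨c, rfl⟩ := isConj_iff.1 hc
  obtain ⟨a, b, rfl⟩ := hg
  exact ⟨c * a, c * b, by group⟩

theorem move_cert : ∀ m ∈ TD.moveL, MT.key (m.1 ++ m.2) = some (0, 0) := by decide +kernel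

theorem move_inv (i : ℕ) :
    P (TD.moveL.getD i ([], [])).2 = (P (TD.moveL.getD i ([], [])).1)⁻¹ := by
  rcases lt_or_ge i TD.moveL.length with h | h
  · rw [List.getD_eq_getElem _ _ h]
    exact P_inv (move_cert _ (List.getElem_mem h))
  · rw [List.getD_eq_default _ _ h]
    exact inv_one.symm

theorem sol_wit {t : List (List ℕ) × ℕ × ℕ} (ht : t ∈ TD.witL) : Sol (el t.2.1 t.2.2) := by
  have h := List.all_eq_true.1 wit_ok t ht
  unfold witOk at h
  split at h
  · rename_i z zi y yi u ui heq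
    simp only [Bool.and_eq_true, beq_iff_eq] at h
    obtain ⟨⟨⟨hz, hy⟩, hu⟩, hk⟩ := h
    have hc := P_key hk
    simp only [P_app, P_inv hz, P_inv hy, P_inv hu] at hc
    refine Sol.of_conj hc ⟨P z * P y, P z * P u, ?_⟩
    simp only [X]
    group
  · cases h

theorem sol_node : ∀ (r w v : ℕ), code w v / 256 = r → top w = true → v < 4096 → par v = false →
    Sol (el w v) := by
  intro r
  induction r using Nat.strong_induction_on with
  | _ r ih =>
  intro w v hr hw hv hp
  have h := node_ok hw hv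
  simp only [nodeOk, hp, Bool.false_or] at h
  split_ifs at h with h0
  · unfold rootOk at h
    split at h
    · rename_i t w' v' heq
      simp only [Bool.and_eq_true, beq_iff_eq] at h
      obtain ⟨rfl, rfl⟩ := h
      exact sol_wit (List.mem_of_getElem? heq)
    · cases h
  · unfold moveOk at h
    simp only at h
    split at h
    · rename_i w' v' heq
      simp only [Bool.and_eq_true, Bool.not_eq_true', decide_eq_true_eq] at h
      obtain ⟨⟨⟨hw', hp'⟩, hv'⟩, hlt⟩ := h
      have hsol := ih _ (hr ▸ hlt) w' v' rfl hw' hv' hp'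
      refine Sol.of_conj (IsConj.trans (IsConj.symm (P_key heq)) ?_) hsol
      rw [P_app, P_app, P_app, move_inv, el, P_app]
      exact isConj_iff.2 ⟨(P (TD.moveL.getD (code w v % 256) ([], [])).1)⁻¹, by group⟩
    · cases h

/-- The vector of a listed generator. -/
def gvec (k : ℕ) : ℕ :=
  if k % 4 < 3 then 2 ^ (3 * (k / 4) + k % 4)
  else MT.mu (2 ^ (3 * (k / 4) + 1)) (2 ^ (3 * (k / 4) + 2))

theorem gvec_ok : (Tits.gensR Tits.rev8).length = 16 ∧ ∀ k < 16, gvec k < 4096 ∧
    H40.Tits.nfEq ((Tits.gensR Tits.rev8).getD k []) (lwd (MT.bits (gvec k))) = true := by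
  decide +kernel

theorem exists_vec {x : Tits.GT} (hx : x ∈ Tits.UF) :
    ∃ u < 4096, x = Mach.phi MT gT u := by
  have h : x ∈ (Subgroup.closure {g : Tits.GT | ∃ w ∈ Tits.gensR Tits.rev8,
      (g : Tits.GF) = Tits.gW w}).toSubmonoid := H40.Tits.U_gen_GT x hx
  haveI : Finite Tits.GT := Nat.finite_of_card_ne_zero (by rw [H40.Tits.card_GT]; norm_num)
  rw [Subgroup.closure_toSubmonoid_of_finite] at h
  clear hx
  induction h using Submonoid.closure_induction_right with
  | one => exact ⟨0, by norm_num, Mach.phi_zero.symm⟩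
  | mul_right y _ g hg ih =>
    obtain ⟨u, hu, rfl⟩ := ih
    obtain ⟨w, hw, e⟩ := hg
    obtain ⟨k, hk, rfl⟩ := List.getElem_of_mem hw
    rw [gvec_ok.1] at hk
    obtain ⟨h1, h2⟩ := gvec_ok.2 k hk
    have hgk : g = Mach.phi MT gT (gvec k) := by
      refine Subtype.ext ?_
      rw [e, Mach.phi, prod_val fun i hi => Mach.bits_lt MT hi, ← List.getD_eq_getElem _ []]
      exact H40.Tits.nfEq_spec h2
    obtain ⟨h3, h4⟩ := Mach.mu_spec sound (u := u) hu (gvec k)
    exact ⟨_, h4, by rw [h3, hgk]⟩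

/-- The parity of a generator. -/
def dvec (i : ℕ) : ZMod 2 := if i % 3 = 1 then 1 else 0

theorem dpar_gwd : ∀ i < 12, Tits.dpar (gwd i) = dvec i := by decide +kernel

theorem par_dvec : ∀ v < 4096, ((MT.bits v).map dvec).sum = 0 → par v = false := by decide +kernel

theorem trV_prod : ∀ {l : List ℕ}, (∀ i ∈ l, i < 12) →
    Tits.trV (prodL gT l) = Multiplicative.ofAdd (l.map dvec).sum
  | [], _ => by simp [prodL]
  | a :: t, h => by
    have ha := h a List.mem_cons_self
    rw [prodL, List.map_cons, List.prod_cons, map_mul, List.map_cons, List.sum_cons, ofAdd_add]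
    congr 1
    · rw [gT, dif_pos (gwd_good a ha), H40.Tits.trV_eq, H40.Tits.chi_elW, dpar_gwd a ha]
    · exact trV_prod fun i hi => h i (List.mem_cons_of_mem _ hi)

theorem trV_repG (a : DihedralGroup 8) : Tits.trV (H40.Tits.repG a) = 1 := by
  have := (H40.Tits.covers H40.Tits.seed_mem_commutator).1 a
  rwa [H40.Tits.commutator_eq_ker, MonoidHom.mem_ker] at this

theorem cell_cases : ∀ w' : DihedralGroup 8, w' ≠ 1 →
    w' = dW 15 ∨ w' = dW 14 ∨ w' = dW 13 ∨ ∀ j : Fin 2, F4.gens j * w' ≠ w' * F4.gens j ∨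
      F4.gens j = w' := by
  decide +kernel

theorem full15 : Tits.AT.Uw (dW 15) = Tits.AT.U := by
  haveI : Finite Tits.GT := Nat.finite_of_card_ne_zero (by rw [H40.Tits.card_GT]; norm_num)
  refine Subgroup.eq_of_le_of_card_ge (Tits.AT.Uw_le _) ?_
  rw [AT_U, H40.Tits.card_UF]
  refine (Nat.pow_le_pow_iff_left two_ne_zero).1 (le_of_eq ?_)
  rw [AT_card_Uw, show (F4.fold (RingHom.id (ZMod 2))).ι (dW 15) =
    Cfsg.Agent.H37.Weyl.wOf H40.Tits.Q2.X.M (F4.om (dW 15)) from rfl, inv_word H40.Tits.Q2.X.good (H40.Tits.om_lt _),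
    show (flipList H40.Tits.Q2.X.C chevF4 (F4.om (dW 15))).length = 24 from (show (flipList Cfsg.Agent.H37.Weyl.certF4 chevF4 (F4.om (dW 15))).length = 24 by decide +kernel)]
  norm_num

theorem exists_node {g : Tits.GT} (hg : g ∈ commutator Tits.GT) (hg1 : g ≠ 1) :
    ∃ w v, top w = true ∧ v < 4096 ∧ par v = false ∧ IsConj g (el w v) := by
  haveI : Finite Tits.GT := Nat.finite_of_card_ne_zero (by rw [H40.Tits.card_GT]; norm_num)
  set A := Tits.AT
  obtain ⟨c, hc⟩ : ∃ c : Tits.GT, c * g * c⁻¹ ∉ A.B := by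
    by_contra hcon
    push Not at hcon
    have : g ∈ A.B.normalCore := fun c => hcon c
    rw [H40.Tits.AT_core, Subgroup.mem_bot] at this
    exact hg1 this
  obtain ⟨w, hw⟩ := exists_cell A (c * g * c⁻¹)
  have hw1 : w ≠ 1 := fun h => hc ((mem_dc_one.1 (by rw [h] at hw; rw [cell, A.n_one] at hw; exact hw)))
  obtain ⟨y, w', hy, hle, hasc⟩ := exists_max hw
  have hl1 : 0 < ell A w := Nat.pos_of_ne_zero fun h => hw1 (eq_one_of_ell A h)
  have hw'1 : w' ≠ 1 := fun h => by rw [h, ell_one] at hle; omega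
  have hw' : w' = dW 15 ∨ w' = dW 14 ∨ w' = dW 13 := by
    rcases cell_cases w' hw'1 with h | h | h | h
    · exact Or.inl h
    · exact Or.inr (Or.inl h)
    · exact Or.inr (Or.inr h)
    · by_contra hne
      push Not at hne
      obtain ⟨r, hr, hlen⟩ := exists_ascent full15 hne.1
      obtain ⟨j, rfl⟩ : r ∈ Set.range F4.gens := id hr
      rcases h j with h' | h'
      · exact h' (hasc _ hr hlen)
      · rw [← h', A.sq_S _ hr, ell_one] at hlen
        omega
  obtain ⟨a, ha, b, hb, e⟩ := mem_cell_iff.1 hy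
  rw [H40.Tits.AT_B] at ha hb
  obtain ⟨v, hv, ev⟩ := exists_vec (mul_mem hb ha)
  obtain ⟨w'', htop, hw''⟩ : ∃ w'', top w'' = true ∧ w' = dW w'' := by
    rcases hw' with h | h | h
    exacts [⟨15, rfl, h⟩, ⟨14, rfl, h⟩, ⟨13, rfl, h⟩]
  have hn : A.n w' = prodL nT (MT.word w'') := by
    rw [prodN_eq, ← hw'']
    exact Subtype.ext (AT_n_val w')
  have hconj : IsConj g (el w'' v) := by
    rw [el_eq, ← hn, ← ev]
    refine isConj_iff.2 ⟨a⁻¹ * (y * c), ?_⟩
    rw [show a⁻¹ * (y * c) * g * (a⁻¹ * (y * c))⁻¹ = a⁻¹ * (y * (c * g * c⁻¹) * y⁻¹) * a by group, e]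
    group
  refine ⟨w'', v, htop, hv, ?_, hconj⟩
  refine par_dvec v hv ?_
  have h1 : Tits.trV (el w'' v) = 1 := by
    obtain ⟨z, hz⟩ := isConj_iff.1 hconj
    rw [← hz, map_mul, map_mul, show Tits.trV g = 1 by
      rwa [H40.Tits.commutator_eq_ker, MonoidHom.mem_ker] at hg, mul_one, ← map_mul, mul_inv_cancel,
      map_one]
  rw [el_eq, map_mul, prodN_eq, trV_repG, one_mul, Mach.phi,
    trV_prod fun i hi => Mach.bits_lt MT hi] at h1
  exact ofAdd_eq_one.1 h1

theorem xW_facts : MT.key (TD.xW ++ TD.xW ++ TD.xW ++ TD.xW ++ TD.xW) = some (0, 0) ∧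
    MT.key (TD.xW ++ TD.xWi) = some (0, 0) ∧ MT.key (TD.cW ++ TD.cWi) = some (0, 0) ∧
    MT.key (TD.cW ++ TD.xW ++ TD.cWi ++ TD.xWi) = some (0, 0) := by
  decide +kernel

theorem tits_two_conj :
    ∃ x : ↥(commutator Tits.GT), Odd (orderOf x) ∧ ∀ g, g ≠ 1 →
      ∃ u v, g = (u * x * u⁻¹) * (v * x * v⁻¹) := by
  obtain ⟨h5, hxi, hci, hcx⟩ := xW_facts
  have hX5 : X ^ 5 = 1 := by
    have := P_one h5
    simp only [P_app] at this
    simpa [X, pow_succ] using this
  have hXmem : X ∈ commutator Tits.GT := by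
    rw [H40.Tits.commutator_eq_ker, MonoidHom.mem_ker]
    have h : Tits.trV X ^ 5 = 1 := by rw [← map_pow, hX5, map_one]
    revert h
    generalize Tits.trV X = z
    revert z
    decide
  set c : Tits.GT := P TD.cW with hcdef
  have hc : c ∉ commutator Tits.GT := by
    rw [H40.Tits.commutator_eq_ker, MonoidHom.mem_ker, hcdef,
      show TD.cW = [4] from rfl, P, prodL, List.map_singleton, List.prod_singleton, F,
      if_pos (show 4 < MT.k by decide), show gT 4 = prodL gT [4] by simp [prodL],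
      trV_prod (by simp)]
    decide
  have hcX : c * X * c⁻¹ = X := by
    have := P_one hcx
    simp only [P_app, P_inv hxi, P_inv hci] at this
    exact mul_inv_eq_one.1 this
  have adj : ∀ a : Tits.GT, ∃ a' ∈ commutator Tits.GT, a * X * a⁻¹ = a' * X * a'⁻¹ := fun a => by
    by_cases ha : a ∈ commutator Tits.GT
    · exact ⟨a, ha, rfl⟩
    · refine ⟨a * c, (Subgroup.mul_mem_iff_of_index_two H40.Tits.index_commutator).2
        (iff_of_false ha hc), ?_⟩
      rw [mul_inv_rev, show a * c * X * (c⁻¹ * a⁻¹) = a * (c * X * c⁻¹) * a⁻¹ by group, hcX]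
  refine ⟨⟨X, hXmem⟩, ?_, fun g hg => ?_⟩
  · refine Odd.of_dvd_nat (show Odd 5 by decide) (orderOf_dvd_of_pow_eq_one (Subtype.ext ?_))
    exact hX5
  · obtain ⟨w, v, htop, hv, hp, hcj⟩ :=
      exists_node g.2 fun h => hg (Subtype.ext h)
    obtain ⟨a, b, e⟩ := (sol_node _ w v rfl htop hv hp).of_conj hcj.symm
    obtain ⟨a', ha', ea⟩ := adj a
    obtain ⟨b', hb', eb⟩ := adj b
    exact ⟨⟨a', ha'⟩, ⟨b', hb'⟩, Subtype.ext (by rw [e, ea, eb]; rfl)⟩

end Cfsg.Agent.H84.Gauss.TM
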