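import Cfsg.Agent.H84.Gauss.ReeMain
import Cfsg.Agent.H84.Gauss.TitsMain

/-!
The large Ree groups `²F₄` and the Tits group: products of two conjugates of one element of odd order.
-/

set_option autoImplicit false
set_option maxRecDepth 100000
set_option maxHeartbeats 1000000
set_option synthInstance.maxHeartbeats 400000

namespace Cfsg.Agent.H84.Gauss

open Cfsg.Lie Cfsg.Agent.H37.Twist

/-- Some element of odd order covers the nontrivial elements by products of two conjugates. -/
def TwoCover (G : Type*) [Group G] : Prop :=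
  ∃ x : G, Odd (orderOf x) ∧ ∀ g : G, g ≠ 1 → ∃ u v : G, g = (u * x * u⁻¹) * (v * x * v⁻¹)

theorem TwoCover.of_equiv {G G' : Type*} [Group G] [Group G'] (e : G' ≃* G) (h : TwoCover G) :
    TwoCover G' := by
  obtain ⟨x, hx, hc⟩ := h
  refine ⟨e.symm x, by rwa [MulEquiv.orderOf_eq], fun g hg => ?_⟩
  obtain ⟨u, v, huv⟩ := hc (e g) fun h => hg (e.map_eq_one_iff.1 h)
  exact ⟨e.symm u, e.symm v, e.injective (by simp [huv])⟩

theorem TwoCover.of_sub {Γ Δ : Type*} [Group Γ] [Group Δ] {S : Subgroup Γ} {T : Subgroup Δ}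
    (e : ↥S ≃* ↥T) {K : Type*} [Group K] (f : K ≃* ↥(commutator ↥T))
    (h : TwoCover ↥(commutator ↥S)) : TwoCover K := by
  obtain ⟨e'⟩ := Cfsg.Agent.H13.Split.exists_equiv_commutator e f (L := commutator ↥S) rfl
  exact h.of_equiv e'

theorem twoCover_tits {M : Type*} [Group M] (hM : IsoTits M) : TwoCover M := by
  obtain ⟨f⟩ := hM
  exact TwoCover.of_sub H40.Tits.equivT f TM.tits_two_conj

theorem twoCover_ree {M : Type*} [Group M] (hM : Iso2F4 M) : TwoCover M := by
  obtain ⟨K, _, _, m, hm, hK, ⟨e⟩⟩ := hM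
  haveI : CharP K 2 := by
    haveI : Fact (Nat.Prime 2) := ⟨Nat.prime_two⟩
    exact charP_of_card_eq_prime_pow hK
  have hφ : ∀ t, iterateFrobenius K 2 m t = t ^ 2 ^ m := fun t => iterateFrobenius_def ..
  exact TwoCover.of_equiv e (ree_two_conj hφ hK hm)

end Cfsg.Agent.H84.Gauss
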