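import Cfsg.Agent.H84.Gauss.SuzukiLevi

/-!
The tori of the two rank one subgroups of `²F₄(q)` and the weights of the central torus of the Suzuki
Levi subgroup.
-/

set_option autoImplicit false
set_option maxRecDepth 100000
set_option linter.unusedSectionVars false

namespace Cfsg.Agent.H84.Gauss

open Cfsg.Lie Cfsg.Agent.H37 Cfsg.Agent.H37.RootSys Cfsg.Agent.H37.Twist Cfsg.Agent.H56.ChevAut
open Cfsg.Agent.H56.TwAut Cfsg.Agent.H56.TwAut.F4 Cfsg.Agent.H37.Twist.F4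
open Cfsg.Agent.H13.Split Cfsg.Agent.H74.RootExt Cfsg.Agent.H40.Ree
open Cfsg.Agent.H87 (upMat lowMat)

/-- Numerical weights of the central torus of the Suzuki Levi subgroup. -/
theorem ree_weights : ∀ r : Fin 48, r.val ∈ [25, 27, 28, 30, 22, 20, 19, 17] ∨
    (let a : ℤ := chevF4.cartan 1 r.val + 2 * chevF4.cartan 2 r.val + 2 * chevF4.cartan 3 r.val
     let b : ℤ := 2 * (chevF4.cartan 0 r.val + chevF4.cartan 1 r.val + chevF4.cartan 2 r.val)
     a.natAbs < 8 ∧ b.natAbs ≤ 14 ∧ (a ≠ 0 ∨ b ≠ 0) ∧ ¬ (7 : ℤ) ∣ a + 2 * b ∧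
       ¬ (31 : ℤ) ∣ a + 4 * b) := by decide +kernel

/-- The highest root is killed by the Suzuki Levi subgroup. -/
theorem top_root : (∀ s ∈ [25, 27, 28, 30, 22, 20, 19, 17],
      (s ≠ 47 ∧ s ≠ chevF4.neg 47 ∧ s < chevF4.nroots) ∧ chevF4.commTerms 47 s = []) ∧
    47 < chevF4.nroots ∧
    (List.range 4).map (fun k => chevF4.cartan k 47) = [0, 0, 0, 1] := by
  decide +kernel

/-- The four roots of the first class lie in the flipped set. -/
theorem weight_ne {e : ℕ} (he : 2 ≤ e) (hpow : e = 2 ∨ e = 4 ∨ 8 ≤ e) {a b : ℤ}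
    (ha : a.natAbs < 8) (hb : b.natAbs ≤ 14) (hab : a ≠ 0 ∨ b ≠ 0)
    (h7 : ¬ (7 : ℤ) ∣ a + 2 * b) (h31 : ¬ (31 : ℤ) ∣ a + 4 * b) :
    ¬ ((2 * (e : ℤ) ^ 2 - 1) ∣ a + b * e) := by
  rcases hpow with rfl | rfl | h8
  · intro h; exact h7 (by norm_num at h; rwa [mul_comm b] at h)
  · intro h; exact h31 (by norm_num at h; rwa [mul_comm b] at h)
  intro h
  have he' : (8 : ℤ) ≤ e := by exact_mod_cast h8
  have hA : |a| < 8 := by rw [← Int.natCast_natAbs]; exact_mod_cast ha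
  have hB : |b| ≤ 14 := by rw [← Int.natCast_natAbs]; exact_mod_cast hb
  have hlt : |a + b * e| < 2 * (e : ℤ) ^ 2 - 1 := by
    calc |a + b * e| ≤ |a| + |b * (e : ℤ)| := abs_add_le _ _
      _ = |a| + |b| * e := by rw [abs_mul, Nat.abs_cast]
      _ < 2 * (e : ℤ) ^ 2 - 1 := by nlinarith
  have h0 := Int.eq_zero_of_abs_lt_dvd h hlt
  by_cases hb0 : b = 0
  · subst hb0; simp at h0; exact hab.elim (fun h => h h0) (fun h => h rfl)
  · have : (8 : ℤ) ≤ |b * (e : ℤ)| := by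
      rw [abs_mul, Nat.abs_cast]
      have : 1 ≤ |b| := Int.one_le_abs hb0
      nlinarith
    rw [show b * (e : ℤ) = -a by linarith, abs_neg] at this
    omega

universe u

variable {K : Type u} [Field K] [Fintype K] [CharP K 2] {φ : K →+* K} {m : ℕ}
  (hφ : ∀ t, φ t = t ^ 2 ^ m) (hK : Fintype.card K = 2 ^ (2 * m + 1))

include hK in
/-- Squaring is bijective on the units. -/
theorem sq_units_bij : Function.Bijective (fun u : Kˣ => u ^ 2) := by
  refine Finite.injective_iff_bijective.1 fun u v h => Units.ext ?_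
  have h' : (u : K) ^ 2 = (v : K) ^ 2 := by simpa using congrArg Units.val h
  exact CharTwo.sq_injective h'

include hK in
/-- The second coordinate is determined by the character on the Suzuki root group. -/
theorem mu_one_inj {b b' : Kˣ} (h : mu m ((1 : Kˣ), b) = mu m (1, b')) : b = b' := by
  have h1 : mu m ((1 : Kˣ), b * b'⁻¹) = 1 := by
    have := mu_mul (m := m) ((1 : Kˣ), b * b'⁻¹) (1, b')
    rw [Prod.mk_mul_mk, one_mul, inv_mul_cancel_right, h] at this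
    exact mul_eq_right.1 this.symm
  set c := b * b'⁻¹
  simp only [mu, inv_one, mul_one, mul_inv_eq_one] at h1
  have h2 : c ^ 2 ^ m = c := (sq_units_bij hK).1 h1.symm
  have hθ := units_theta hK c
  rw [h2, pow_mul, h2] at hθ
  exact mul_inv_eq_one.1 (mul_eq_left.1 ((pow_two c).symm.trans hθ))

/-- The central torus element of the Suzuki Levi subgroup. -/
noncomputable def zel (u : Kˣ) : GT hφ hK := hel hφ hK (u, u * u ^ 2 ^ m)

include hK in
theorem mu_zel (u : Kˣ) : mu m (u, u * u ^ 2 ^ m) = 1 := by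
  have hθ := units_theta hK u
  have e1 : ((u * u ^ 2 ^ m) ^ 2 ^ m) ^ 2 = (u ^ 2 ^ m) ^ 2 * u := by
    rw [mul_pow, mul_pow]
    congr 1
    rw [← pow_mul]
    exact hθ
  simp only [mu]
  rw [e1, mul_pow]
  group

theorem zel_mul (u v : Kˣ) : zel hφ hK (u * v) = zel hφ hK u * zel hφ hK v := by
  rw [zel, zel, zel, ← hel_mul, Prod.mk_mul_mk, mul_pow, mul_mul_mul_comm]

theorem zel_mem (u : Kˣ) : zel hφ hK u ∈ (Md hφ hK).tw.H := hel_mem hφ hK _

theorem zel_comm_L1 (u : Kˣ) {l : GT hφ hK} (hl : l ∈ Lsub hφ hK 1) :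
    Commute (zel hφ hK u) l := by
  have hle : Lsub hφ hK 1 ≤ Subgroup.centralizer {zel hφ hK u} := rk_le hφ hK
    (fun g hg => by
      obtain ⟨t, c, rfl⟩ := exists_x1 hφ hK hg
      rw [Subgroup.mem_centralizer_singleton_iff]
      have := hel_x1 hφ hK (u, u * u ^ 2 ^ m) t c
      rw [mu_zel hK u, Units.val_one, map_one, one_mul, one_mul, one_mul] at this
      exact (mul_inv_eq_iff_eq_mul.1 this).symm)
    (fun g hg => by
      obtain ⟨t, c, rfl⟩ := opp1 hφ hK hg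
      rw [Subgroup.mem_centralizer_singleton_iff]
      exact (mul_inv_eq_iff_eq_mul.1 (hel_y1 hφ hK _ (mu_zel hK u) t c)).symm)
  exact (Subgroup.mem_centralizer_singleton_iff.1 (hle hl)).symm

/-- A weight of the central torus is nontrivial on a generator. -/
theorem chT_zel_ne (hm : 1 ≤ m) {u : Kˣ} (hu : orderOf u = 2 ^ (2 * m + 1) - 1) {r : ℕ}
    (hr : r < 48) (hne : r ∉ [25, 27, 28, 30, 22, 20, 19, 17]) :
    chT (hc m u (u * u ^ 2 ^ m)) r ≠ 1 := by
  intro h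
  obtain ⟨hA, hB, hab, h7, h31⟩ := (ree_weights ⟨r, hr⟩).resolve_left hne
  set e := 2 ^ m with he
  have h' : u ^ ((chevF4.cartan 0 r) * (e : ℤ) + (chevF4.cartan 1 r) * ((1 + e) * e) +
      (chevF4.cartan 2 r) * (1 + e) + chevF4.cartan 3 r : ℤ) = 1 := by
    rw [← h, chT_eq]
    have e0 : hc m u (u * u ^ 2 ^ m) (0 : Fin 4) = u ^ (e : ℤ) := (zpow_natCast u e).symm
    have e2 : hc m u (u * u ^ 2 ^ m) (2 : Fin 4) = u ^ (1 + e : ℤ) := by
      show u * u ^ 2 ^ m = _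
      rw [zpow_add, zpow_one, zpow_natCast]
    have e1 : hc m u (u * u ^ 2 ^ m) (1 : Fin 4) = u ^ ((1 + e) * e : ℤ) := by
      show (u * u ^ 2 ^ m) ^ 2 ^ m = _
      rw [zpow_mul, zpow_add, zpow_one, zpow_natCast, zpow_natCast]
    have e3 : hc m u (u * u ^ 2 ^ m) (3 : Fin 4) = u := rfl
    rw [e0, e1, e2, e3, ← zpow_mul, ← zpow_mul, ← zpow_mul]
    simp only [zpow_add, mul_comm]
  have hd := orderOf_dvd_iff_zpow_eq_one.2 h'
  have he2 : 2 ≤ e := by
    calc 2 = 2 ^ 1 := rfl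
      _ ≤ e := Nat.pow_le_pow_right two_pos hm
  have hcast : ((2 ^ (2 * m + 1) - 1 : ℕ) : ℤ) = 2 * (e : ℤ) ^ 2 - 1 := by
    rw [Nat.cast_sub Nat.one_le_two_pow, he]; push_cast; ring
  rw [hu, hcast] at hd
  have hpow : e = 2 ∨ e = 4 ∨ 8 ≤ e := by
    rcases (show m = 1 ∨ m = 2 ∨ 3 ≤ m by omega) with h1 | h1 | h1
    · exact Or.inl (by rw [he, h1]; rfl)
    · exact Or.inr (Or.inl (by rw [he, h1]; rfl))
    · exact Or.inr (Or.inr (he ▸ (show 2 ^ 3 ≤ 2 ^ m from Nat.pow_le_pow_right two_pos h1)))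
  refine weight_ne he2 hpow hA hB hab h7 h31 ?_
  obtain ⟨w, hw⟩ := hd
  exact ⟨2 * w - chevF4.cartan 1 r, by linear_combination 2 * hw⟩

end Cfsg.Agent.H84.Gauss
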