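import Cfsg.Agent.H84.Gauss.Split

/-!
The subgroup generated by a fundamental root group, its reflection and the torus.
-/

set_option autoImplicit false
set_option linter.unusedSectionVars false

namespace Cfsg.Agent.H84.Gauss

open Cfsg.Agent.H28 Cfsg.Agent.H54.BNC Cfsg.Agent.H13.Split Cfsg.Agent.H74.RootExt
open Cfsg.Agent.H37 (Tits.Ambient)
open Cfsg.Agent.H40.Ree (conj_r_Uw)

variable {G W : Type*} [Group G] [Group W] {A : Tits.Ambient G W} {p : ℕ} {w₀ : W}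

/-- The subgroup generated by `Uw t`, `n t` and `H`. -/
def Lg (A : Tits.Ambient G W) (t : W) : Subgroup G :=
  Subgroup.closure ((A.Uw t : Set G) ∪ {A.n t} ∪ (A.H : Set G))

theorem Uw_le_Lg (t : W) : A.Uw t ≤ Lg A t := fun _ hx =>
  Subgroup.subset_closure (Or.inl (Or.inl hx))

theorem n_mem_Lg (t : W) : A.n t ∈ Lg A t := Subgroup.subset_closure (Or.inl (Or.inr rfl))

theorem H_le_Lg (t : W) : A.H ≤ Lg A t := fun _ hx => Subgroup.subset_closure (Or.inr hx)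

variable [Finite G] (hC : Ctx A p w₀)
include hC

theorem Ctx.conj_co_Uw {s : W} (hs : s ∈ A.S) {x : G} (hx : x ∈ A.Uw s) :
    A.n (w₀ * s) * x * (A.n (w₀ * s))⁻¹ ∈ A.Uw s :=
  conj_r_Uw hC.base (hC.cen s hs) hs hx

theorem Ctx.conj_co_Uw' {s : W} (hs : s ∈ A.S) {x : G} (hx : x ∈ A.Uw s) :
    (A.n (w₀ * s))⁻¹ * x * A.n (w₀ * s) ∈ A.Uw s := by
  obtain ⟨k, hk, ek⟩ := A.n_inv (w₀ * s)
  rw [mul_inv_rev, A.S_inv hs, hC.inv_w₀, hC.cen s hs] at ek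
  rw [show (A.n (w₀ * s))⁻¹ * x * A.n (w₀ * s) =
    (A.n (w₀ * s))⁻¹ * x * ((A.n (w₀ * s))⁻¹)⁻¹ by group, ek,
    show k * A.n (w₀ * s) * x * (k * A.n (w₀ * s))⁻¹ =
      k * (A.n (w₀ * s) * x * (A.n (w₀ * s))⁻¹) * k⁻¹ by group]
  exact hC.base.H_conj_Uw hs hk (hC.conj_co_Uw hs hx)

/-- The longest element as a product through a fundamental reflection. -/
theorem Ctx.w₀_eq {s : W} (hs : s ∈ A.S) :
    ∃ k ∈ A.H, A.n w₀ = k * A.n s * A.n (w₀ * s) := by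
  obtain ⟨k, hk, e⟩ := A.n_mul s (w₀ * s)
  rw [show s * (w₀ * s) = w₀ by rw [← mul_assoc, hC.cen s hs, mul_assoc, A.sq_S s hs, mul_one]]
    at e
  exact ⟨k⁻¹, inv_mem hk, by rw [mul_assoc, e]; group⟩

theorem Ctx.conj_w₀_Uw {s : W} (hs : s ∈ A.S) {x : G} (hx : x ∈ A.Uw s) :
    ∃ e ∈ A.Uw s, A.n w₀ * x * (A.n w₀)⁻¹ = A.n s * e * (A.n s)⁻¹ := by
  obtain ⟨k, hk, e⟩ := hC.w₀_eq hs
  refine ⟨_, hC.base.H_conj_Uw hs (A.n_conj_H' s hk) (hC.conj_co_Uw hs hx), ?_⟩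
  rw [e]; group

theorem Ctx.conj_w₀_opp {s : W} (hs : s ∈ A.S) {e : G} (he : e ∈ A.Uw s) :
    ∃ x ∈ A.Uw s, A.n s * e * (A.n s)⁻¹ = A.n w₀ * x * (A.n w₀)⁻¹ := by
  obtain ⟨k, hk, ek⟩ := hC.w₀_eq hs
  refine ⟨_, hC.conj_co_Uw' hs
    (hC.base.H_conj_Uw hs (inv_mem (A.n_conj_H' s hk)) he), ?_⟩
  rw [ek]; group

theorem Ctx.conj_w₀_n {s : W} (hs : s ∈ A.S) :
    ∃ k ∈ A.H, (A.n w₀)⁻¹ * A.n s * A.n w₀ = k * A.n s := by
  obtain ⟨a, ha, ea⟩ := A.n_mul s w₀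
  obtain ⟨b, hb, eb⟩ := A.n_mul w₀ s
  rw [hC.cen s hs] at ea
  have e : A.n (w₀ * s) = b⁻¹ * (A.n w₀ * A.n s) := by rw [eb]; group
  rw [e] at ea
  refine ⟨(A.n w₀)⁻¹ * (a * b⁻¹) * A.n w₀,
    A.n_conj_H' _ (mul_mem ha (inv_mem hb)), ?_⟩
  rw [mul_assoc, ea]; group

theorem Ctx.w₀_mul_self : A.n w₀ * A.n w₀ ∈ A.H := by
  obtain ⟨h, hh, e⟩ := A.n_mul w₀ w₀
  rw [e, hC.sq, A.n_one, mul_one]
  exact hh

theorem Ctx.Lg_conj_w₀ {t : W} (ht : t ∈ A.S) {y : G} (hy : y ∈ Lg A t) :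
    (A.n w₀)⁻¹ * y * A.n w₀ ∈ Lg A t := by
  induction hy using Subgroup.closure_induction with
  | mem z hz =>
    rcases hz with (hz | hz) | hz
    · obtain ⟨e, he, ee⟩ := hC.conj_w₀_Uw ht hz
      have hk := hC.w₀_mul_self
      rw [show (A.n w₀)⁻¹ * z * A.n w₀ = (A.n w₀ * A.n w₀)⁻¹ *
        (A.n w₀ * z * (A.n w₀)⁻¹) * (A.n w₀ * A.n w₀) by group, ee]
      exact mul_mem (mul_mem (inv_mem (H_le_Lg t hk))
        (mul_mem (mul_mem (n_mem_Lg t) (Uw_le_Lg t he)) (inv_mem (n_mem_Lg t)))) (H_le_Lg t hk)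
    · rw [Set.mem_singleton_iff] at hz
      subst hz
      obtain ⟨k, hk, e⟩ := hC.conj_w₀_n ht
      rw [e]
      exact mul_mem (H_le_Lg t hk) (n_mem_Lg t)
    · exact H_le_Lg t (A.n_conj_H' w₀ hz)
  | one => simp
  | mul a b _ _ iha ihb => convert mul_mem iha ihb using 1; group
  | inv a _ iha => convert inv_mem iha using 1; group

theorem Ctx.Lg_rad {t : W} (ht : t ∈ A.S) {y : G} (hy : y ∈ Lg A t) :
    ∀ d ∈ rad A t, y * d * y⁻¹ ∈ rad A t ∧ y⁻¹ * d * y ∈ rad A t := by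
  induction hy using Subgroup.closure_induction with
  | mem z hz =>
    intro d hd
    rcases hz with (hz | hz) | hz
    · exact ⟨hC.norm t ht z (A.Uw_le t hz) d hd,
        by simpa using hC.norm t ht z⁻¹ (inv_mem (A.Uw_le t hz)) d hd⟩
    · rw [Set.mem_singleton_iff] at hz
      subst hz
      exact ⟨hC.rad_conj_n ht hd, hC.rad_conj_n' ht hd⟩
    · exact ⟨hC.base.conj_H_rad t hz hd, by simpa using hC.base.conj_H_rad t (inv_mem hz) hd⟩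
  | one => intro d hd; simpa using hd
  | mul a b _ _ iha ihb =>
    intro d hd
    refine ⟨?_, ?_⟩
    · convert (iha _ (ihb d hd).1).1 using 1; group
    · convert (ihb _ (iha d hd).2).2 using 1; group
  | inv a _ iha => intro d hd; simpa using (iha d hd).symm

/-- An element of `Lg t` acts on the conjugate of the radical of `t` by the longest element. -/
theorem Ctx.Lg_rad_opp {t : W} (ht : t ∈ A.S) {y : G} (hy : y ∈ Lg A t) {d : G}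
    (hd : d ∈ rad A t) : ∃ d' ∈ rad A t,
      y * (A.n w₀ * d * (A.n w₀)⁻¹) * y⁻¹ = A.n w₀ * d' * (A.n w₀)⁻¹ :=
  ⟨_, (hC.Lg_rad ht (hC.Lg_conj_w₀ ht hy) d hd).1, by group⟩

/-- The three-part form of an element of `U⁻ H U` at a fundamental reflection. -/
theorem Ctx.exists_three {t : W} (ht : t ∈ A.S) {c k b : G} (hc : c ∈ A.U) (hb : b ∈ A.U) :
    ∃ r ∈ rad A t, ∃ e ∈ A.Uw t, ∃ e' ∈ A.Uw t, ∃ r' ∈ rad A t,
      A.n w₀ * c * (A.n w₀)⁻¹ * k * b =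
        A.n w₀ * r * (A.n w₀)⁻¹ * (A.n t * e * (A.n t)⁻¹ * k * e') * r' ∧
      (c ∉ rad A t → e ≠ 1) := by
  obtain ⟨r, hr, v, hv, rfl⟩ := hC.base.exists_rad_mul t hc
  obtain ⟨r1, hr1, e', he', rfl⟩ := hC.base.exists_rad_mul t hb
  obtain ⟨e, he, ee⟩ := hC.conj_w₀_Uw ht hv
  refine ⟨r, hr, e, he, e', he', e'⁻¹ * r1 * e', by
    simpa using hC.norm t ht e'⁻¹ (inv_mem (A.Uw_le t he')) r1 hr1, ?_, fun hrv h1 => hrv ?_⟩
  · rw [← ee]; group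
  · rw [h1, mul_one, mul_inv_cancel, mul_inv_eq_one, mul_eq_left] at ee
    rw [ee, mul_one]
    exact hr

end Cfsg.Agent.H84.Gauss
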