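import Cfsg.Agent.H84.Gauss.Prod

/-!
Conjugating an element into a product of the opposite unipotent group, the torus and the unipotent
group with a prescribed nontrivial root component.
-/

set_option autoImplicit false
set_option linter.unusedSectionVars false

namespace Cfsg.Agent.H84.Gauss

open Cfsg.Agent.H28 Cfsg.Agent.H54.BNC Cfsg.Agent.H13.Split Cfsg.Agent.H74.RootExt
open Cfsg.Agent.H37 (Tits.Ambient)

variable {G W : Type*} [Group G] [Group W] {A : Tits.Ambient G W} {p : ℕ} {w₀ : W}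
  [Finite G] (hC : Ctx A p w₀)
include hC

theorem Ctx.rad_conj_n {t : W} (ht : t ∈ A.S) {d : G} (hd : d ∈ rad A t) :
    A.n t * d * (A.n t)⁻¹ ∈ rad A t := by
  refine (mem_rad A).2 ⟨hd.2, ?_⟩
  obtain ⟨l, hl, el⟩ := A.n_mul t t
  rw [A.sq_S t ht, A.n_one, mul_one] at el
  rw [show A.n t * (A.n t * d * (A.n t)⁻¹) * (A.n t)⁻¹ =
    (A.n t * A.n t) * d * (A.n t * A.n t)⁻¹ by group, el]
  exact A.H_conj_U l hl d hd.1

theorem Ctx.rad_conj_n' {t : W} (ht : t ∈ A.S) {d : G} (hd : d ∈ rad A t) :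
    (A.n t)⁻¹ * d * A.n t ∈ rad A t := by
  obtain ⟨k, hk, ek⟩ := A.n_inv t
  rw [A.S_inv ht] at ek
  rw [show (A.n t)⁻¹ * d * A.n t = (A.n t)⁻¹ * d * ((A.n t)⁻¹)⁻¹ by group, ek,
    show k * A.n t * d * (k * A.n t)⁻¹ = k * (A.n t * d * (A.n t)⁻¹) * k⁻¹ by group]
  exact hC.base.conj_H_rad _ hk (hC.rad_conj_n ht hd)

/-- Twisting the second factor by the torus and the radical of `t` does not change the cell. -/
theorem Ctx.cell_twist {t v : W} (ht : t ∈ A.S) {x k r : G} (hx : x ∈ cell A t) (hk : k ∈ A.H)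
    (hr : r ∈ rad A t) (h : A.n w₀ * x ∈ cell A v) : A.n w₀ * (k * r * x) ∈ cell A v := by
  obtain ⟨u, hu, a, ha, w, hw, rfl⟩ := cell_nf A hx
  have hwB : w ∈ A.B := A.U_le_B (A.Uw_le t hw)
  have hd1 : (u⁻¹ * r * u) ∈ rad A t := by
    simpa using hC.norm t ht u⁻¹ (inv_mem hu) r hr
  set d := (A.n t)⁻¹ * (a⁻¹ * (u⁻¹ * r * u) * a) * A.n t with hd
  have hdB : d ∈ A.B := by
    refine A.U_le_B (hC.rad_conj_n' ht ?_).1
    simpa using hC.base.conj_H_rad t (inv_mem ha) hd1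
  rw [show A.n w₀ * (k * r * (u * a * A.n t * w)) =
    (A.n w₀ * k * (A.n w₀)⁻¹) * (A.n w₀ * (u * a * A.n t * w)) * (w⁻¹ * d * w) by
      simp only [hd]; group]
  exact cell_right A (cell_left A (A.H_le_B (A.n_conj_H w₀ k hk)) h)
    (mul_mem (mul_mem (inv_mem hwB) hdB) hwB)

/-- An element outside the parabolic subgroup missing `t` is conjugate to an element of
`U⁻ H U` whose component at `t` is nontrivial. -/
theorem Ctx.exists_gauss {t : W} (ht : t ∈ A.S) {w : W} (hw : w ∉ Subgroup.closure (A.S \ {t}))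
    {g : G} (hg : g ∈ cell A w) :
    ∃ u : G, ∃ c ∈ A.U, ∃ k ∈ A.H, ∃ b ∈ A.U,
      u * g * u⁻¹ = A.n w₀ * c * (A.n w₀)⁻¹ * k * b ∧ c ∉ rad A t := by
  obtain ⟨z, hz, hgz⟩ :=
    (hC.meets_big ht (m := w⁻¹) fun h => hw (by simpa using inv_mem h)).exists_right (cell_inv A hg)
  have hmt : Meets A w₀ t w₀ := by
    have := (hC.meets_w₀_self ht).inv
    rwa [A.S_inv ht, hC.inv_w₀] at this
  obtain ⟨y, hy, hgf⟩ := hmt.exists_right hgz
  have hf : z * y ∈ cell A w₀ := by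
    have e : w₀ * t * t = w₀ := by rw [mul_assoc, A.sq_S t ht, mul_one]
    have := cell_mul A (a := w₀ * t) (b := t)
      (by rw [e, ell_S A ht]; have := hC.ell_co ht; omega) hz hy
    rwa [e] at this
  obtain ⟨u, hu, h, hh, v, hv, ef⟩ := cell_nf A hf
  obtain ⟨u1, hu1, h1, hh1, v1, hv1, ef1⟩ := cell_nf A hgf
  set n := A.n w₀ with hn
  set a := n⁻¹ * h * n with ha
  set a1 := n⁻¹ * h1 * n with ha1
  have haH : a ∈ A.H := A.n_conj_H' w₀ hh
  have ha1H : a1 ∈ A.H := A.n_conj_H' w₀ hh1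
  set c := a * (v * v1⁻¹) * a⁻¹ with hc
  set k := a * a1⁻¹ with hk
  have hcU : c ∈ A.U :=
    A.H_conj_U a haH _ (mul_mem (A.Uw_le _ hv) (inv_mem (A.Uw_le _ hv1)))
  have hkH : k ∈ A.H := mul_mem haH (inv_mem ha1H)
  have eg : g = z * y * (g⁻¹ * z * y)⁻¹ := by group
  rw [ef, ef1] at eg
  refine ⟨u⁻¹, c, hcU, n * k * n⁻¹, A.n_conj_H w₀ k hkH, u1⁻¹ * u,
    mul_mem (inv_mem hu1) hu, ?_, ?_⟩
  · rw [eg]; simp only [hc, hk, ha, ha1]; group
  intro hmem
  set x := a * v * y⁻¹ with hx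
  have hzx : z = u * n * x := by
    rw [eq_mul_inv_iff_mul_eq.2 ef]; simp only [hx, ha]; group
  have hxt : x ∈ cell A t := by
    have := cell_inv A hy
    rw [A.S_inv ht] at this
    exact cell_left A (mul_mem (A.H_le_B haH) (A.U_le_B (A.Uw_le _ hv))) this
  have hnx : n * x ∈ cell A (w₀ * t) := by
    have := cell_left A (A.U_le_B (inv_mem hu)) hz
    rwa [hzx, show u⁻¹ * (u * n * x) = n * x by group] at this
  have h2 := hC.cell_twist ht hxt (inv_mem hkH) (inv_mem hmem) hnx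
  have h3 : u1 * (n * (k⁻¹ * c⁻¹ * x)) = g⁻¹ * z := by
    rw [eq_mul_inv_iff_mul_eq.2 ef1]; simp only [hx, hc, hk, ha, ha1]; group
  refine S_ne_one A ht (mul_eq_left.1 (cell_inj A (g := g⁻¹ * z) ?_ hgz))
  rw [← h3]
  exact cell_left A (A.U_le_B hu1) h2

end Cfsg.Agent.H84.Gauss
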