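import Cfsg.Agent.H40.Ree.Rep
import Cfsg.Agent.H84.Gauss.RankOneIso

/-!
The two rank one subgroups of `²F₄(q)`.
-/

set_option autoImplicit false
set_option maxRecDepth 100000
set_option linter.unusedSectionVars false

namespace Cfsg.Agent.H84.Gauss

open Cfsg.Lie Cfsg.Agent.H37 Cfsg.Agent.H37.RootSys Cfsg.Agent.H37.Twist Cfsg.Agent.H56.ChevAut
open Cfsg.Agent.H56.TwAut Cfsg.Agent.H56.TwAut.F4 Cfsg.Agent.H37.Twist.F4
open Cfsg.Agent.H13.Split Cfsg.Agent.H74.RootExt Cfsg.Agent.H40.Ree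
open Cfsg.Agent.H87 (upMat lowMat)
open scoped Matrix

universe u

variable {K : Type u} [Field K] [Fintype K] [CharP K 2] {φ : K →+* K} {m : ℕ}
variable (hφ : ∀ t, φ t = t ^ 2 ^ m) (hK : Fintype.card K = 2 ^ (2 * m + 1))

/-- The rank one subgroup of Suzuki type with its representation. -/
theorem suzuki_equiv (hm : 1 ≤ m) [Suzuki.SzField K m] : ∃ e : Lsub hφ hK 1 ≃* Cfsg.Sz K m,
    (∀ t c, ∀ h, e ⟨x1 hφ hK t c, h⟩ = Suzuki.u m (φ t) (c + t * φ t)) ∧
    (∀ t c, ∀ h, e ⟨y1 hφ hK t c, h⟩ =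
      Suzuki.w m * Suzuki.u m (φ t) (c + t * φ t) * Suzuki.w m) := by
  haveI := finiteGT hφ hK
  set st : Subgroup (GT hφ hK) :=
    (stabG (R := K) f1).comap ((Md hφ hK).T.subtype) with hst
  have hL : Lsub hφ hK 1 ≤ st := rk_le hφ hK
    (fun g hg => by
      obtain ⟨t, c, rfl⟩ := exists_x1 hφ hK hg
      exact (x1_act hφ hK t c).1)
    (fun g hg => by
      obtain ⟨t, c, rfl⟩ := opp1 hφ hK hg
      exact (y1_act hφ hK t c).1)
  let β : Lsub hφ hK 1 →* Matrix (Fin 4) (Fin 4) K :=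
    (blockHom f1 f_inj.1).comp (((Md hφ hK).T.subtype.comp (Lsub hφ hK 1).subtype).codRestrict
      (stabG (R := K) f1) fun g => hL g.2)
  let ι : Cfsg.Sz K m →* Matrix (Fin 4) (Fin 4) K :=
    { toFun := fun g => ((g : Matrix.SpecialLinearGroup (Fin 4) K) : Matrix (Fin 4) (Fin 4) K)
      map_one' := rfl
      map_mul' := fun _ _ => rfl }
  have hι : Function.Injective ι := fun a b h => Subtype.ext (Subtype.ext h)
  have hx : ∀ t c, ∀ h, β ⟨x1 hφ hK t c, h⟩ = ι (Suzuki.u m (φ t) (c + t * φ t)) := fun t c h =>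
    (x1_act hφ hK t c).2
  have hy : ∀ t c, ∀ h, β ⟨y1 hφ hK t c, h⟩ =
      ι (Suzuki.w m * Suzuki.u m (φ t) (c + t * φ t) * Suzuki.w m) := fun t c h =>
    (y1_act hφ hK t c).2
  have hex : ∀ g : Lsub hφ hK 1, ∃ s, ι s = β g := by
    rintro ⟨g, hg⟩
    have hle : Lsub hφ hK 1 ≤
        { carrier := {g | ∃ h : g ∈ Lsub hφ hK 1, ∃ s, ι s = β ⟨g, h⟩}
          one_mem' := ⟨one_mem _, 1, by rw [map_one]; exact (map_one β).symm⟩
          mul_mem' := by
            rintro a b ⟨ha, s, es⟩ ⟨hb, t, et⟩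
            exact ⟨mul_mem ha hb, s * t, by rw [map_mul, es, et, ← map_mul]; rfl⟩
          inv_mem' := by
            rintro a ⟨ha, s, es⟩
            refine ⟨inv_mem ha, s⁻¹, ?_⟩
            have h1 : ι s⁻¹ * ι s = 1 := by rw [← map_mul, inv_mul_cancel, map_one]
            have h2 : β ⟨a, ha⟩ * β ⟨a⁻¹, inv_mem ha⟩ = 1 := by
              rw [← map_mul]
              exact (congrArg β (Subtype.ext (mul_inv_cancel a))).trans (map_one β)
            rw [← es] at h2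
            exact left_inv_eq_right_inv h1 h2 : Subgroup (GT hφ hK) } := rk_le hφ hK
      (fun g hg => by
        obtain ⟨t, c, rfl⟩ := exists_x1 hφ hK hg
        exact ⟨x1_mem_Lsub hφ hK t c, _, (hx t c _).symm⟩)
      (fun g hg => by
        obtain ⟨t, c, rfl⟩ := opp1 hφ hK hg
        exact ⟨y1_mem_Lsub hφ hK t c, _, (hy t c _).symm⟩)
    obtain ⟨_, s, es⟩ := hle hg
    exact ⟨s, es⟩
  choose r hr using hex
  let ρ : Lsub hφ hK 1 →* Cfsg.Sz K m := MonoidHom.mk' r fun a b =>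
    hι (by rw [map_mul, hr, hr, hr, map_mul])
  have hρx : ∀ t c, ∀ h, ρ ⟨x1 hφ hK t c, h⟩ = Suzuki.u m (φ t) (c + t * φ t) := fun t c h =>
    hι ((hr _).trans (hx t c h))
  have hρy : ∀ t c, ∀ h, ρ ⟨y1 hφ hK t c, h⟩ =
      Suzuki.w m * Suzuki.u m (φ t) (c + t * φ t) * Suzuki.w m := fun t c h =>
    hι ((hr _).trans (hy t c h))
  have hsol : ∀ a b : K, ∃ t c, φ t = a ∧ c + t * φ t = b := fun a b => by
    obtain ⟨t, rfl⟩ := (phi_bij hφ).2 a
    exact ⟨t, b - t * φ t, rfl, sub_add_cancel _ _⟩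
  have hsurj : Function.Surjective ρ := by
    refine MonoidHom.range_eq_top.1 (suzuki_generated _ (fun a b => ?_) fun a b => ?_)
    · obtain ⟨t, c, rfl, rfl⟩ := hsol a b
      exact ⟨_, hρx t c (x1_mem_Lsub hφ hK t c)⟩
    · obtain ⟨t, c, rfl, rfl⟩ := hsol a b
      exact ⟨_, hρy t c (y1_mem_Lsub hφ hK t c)⟩
  refine ⟨MulEquiv.ofBijective ρ ⟨?_, hsurj⟩, hρx, hρy⟩
  refine rankone_injective (sbase hφ hK) (sW_cen hφ hK 1) (sW_mem hφ hK 1) (Suzuki.commutator_eq_top m)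
    oddRigid_suzuki ρ hsurj ?_ ?_ ?_ ?_
  · rintro ⟨a, haL⟩ ha h1
    obtain ⟨t, c, rfl⟩ := exists_x1 hφ hK ha
    rw [hρx, Suzuki.u_eq_one, map_eq_zero] at h1
    obtain ⟨rfl, h2⟩ := h1
    rw [zero_mul, add_zero] at h2
    subst h2
    exact Subtype.ext (x1_zero hφ hK)
  · rintro ⟨a, haL⟩ ha h1
    obtain ⟨t, c, rfl⟩ := opp1 hφ hK ha
    rw [hρy] at h1
    have h2 : Suzuki.u m (φ t) (c + t * φ t) = 1 := by
      have h3 := congrArg (fun g => Suzuki.w m * g * Suzuki.w m) h1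
      simp only [mul_one, Suzuki.w_mul_w] at h3
      rw [← h3, show ∀ w x : Cfsg.Sz K m, w * (w * x * w) * w = (w * w) * x * (w * w) from
        fun w x => by group, Suzuki.w_mul_w, one_mul, mul_one]
    rw [Suzuki.u_eq_one, map_eq_zero] at h2
    obtain ⟨rfl, h3⟩ := h2
    rw [zero_mul, add_zero] at h3
    subst h3
    refine Subtype.ext (lift_injective _ ?_)
    show pr nc φ 0 0 = 1
    obtain ⟨-, -, -, -, -, -, -, -, hb, ha', hab, haab, -⟩ := four_ok nc (by simp)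
    simp [pr, four, xe_zero hb, xe_zero ha', xe_zero hab, xe_zero haab]
  · refine ⟨⟨x1 hφ hK 1 0, x1_mem_Lsub hφ hK 1 0⟩, x1_mem hφ hK 1 0, ?_⟩
    rintro ⟨b, hbL⟩ hb he
    obtain ⟨t, c, rfl⟩ := opp1 hφ hK hb
    rw [hρx, hρy] at he
    have h1 := congrArg (fun g : Cfsg.Sz K m => g • Suzuki.oPt m (0 : K) 0) he
    simp only [mul_smul, Suzuki.w_smul_zero, Suzuki.u_smul_oInf, Suzuki.w_smul_oInf,
      Suzuki.u_smul_oPt, Suzuki.oPt_inj] at h1
    simp at h1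
  · rintro ⟨a, haL⟩ ha hN
    obtain ⟨t, c, rfl⟩ := exists_x1 hφ hK ha
    obtain ⟨⟨b, hbL⟩, hb, he⟩ := hN ⟨y1 hφ hK 1 0, y1_mem_Lsub hφ hK 1 0⟩ (y1_opp hφ hK 1 0)
    obtain ⟨t', c', rfl⟩ := opp1 hφ hK hb
    rw [hρx, hρy, hρy, mul_inv_eq_iff_eq_mul] at he
    rw [hρx]
    set α := φ t
    set β := c + t * φ t
    set γ := φ t'
    set δ := c' + t' * φ t'
    obtain ⟨x, y, hxy⟩ : ∃ x y, Suzuki.u m α β • Suzuki.oPt m (0 : K) 0 = Suzuki.oPt m x y :=
      ⟨_, _, Suzuki.u_smul_oPt m α β 0 0⟩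
    have hxy' := hxy
    rw [Suzuki.u_smul_oPt, Suzuki.oPt_inj] at hxy'
    by_contra hne
    have h0 : x ≠ 0 ∨ y ≠ 0 := by
      by_contra h
      push_neg at h
      refine hne ((Suzuki.u_eq_one m).2 ?_)
      obtain ⟨rfl, rfl⟩ := h
      constructor
      · simpa using hxy'.1
      · simpa [show α = 0 by simpa using hxy'.1] using hxy'.2
    have h1 := congrArg (fun g : Cfsg.Sz K m => g • Suzuki.oPt m (0 : K) 0) he
    simp only [mul_smul, Suzuki.w_smul_zero, Suzuki.u_smul_oInf, Suzuki.w_smul_oInf, hxy] at h1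
    have h2 := congrArg (fun p : suzukiOvoid K m => (Suzuki.w m : Cfsg.Sz K m) • p) h1
    simp only [← mul_smul (Suzuki.w m : Cfsg.Sz K m) (Suzuki.w m), Suzuki.w_mul_w, one_smul] at h2
    rw [Suzuki.w_smul_oPt m h0, Suzuki.u_smul_oPt, Suzuki.oPt_inj] at h2
    have hγ : γ = 0 := by simpa using h2.1.symm
    have hδ : δ = 0 := by simpa [hγ] using h2.2.symm
    rw [show Suzuki.u m γ δ = 1 from (Suzuki.u_eq_one m).2 ⟨hγ, hδ⟩, mul_one, Suzuki.w_mul_w] at he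
    simp only [one_mul] at he
    rw [mul_eq_left] at he
    have h3 := congrArg (fun g => Suzuki.w m * g * Suzuki.w m) he
    simp only [mul_one, Suzuki.w_mul_w] at h3
    rw [show ∀ w x : Cfsg.Sz K m, w * (w * x * w) * w = (w * w) * x * (w * w) from
      fun w x => by group, Suzuki.w_mul_w, one_mul, mul_one, Suzuki.u_eq_one, map_one] at h3
    exact one_ne_zero h3.1

/-- The rank one subgroup of linear type with its representation. -/
theorem sl2_equiv (hm : 1 ≤ m) : ∃ e : Lsub hφ hK 0 ≃* Matrix.SpecialLinearGroup (Fin 2) K,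
    (∀ t, ∀ h, e ⟨x0 hφ hK t, h⟩ = upMat t) ∧ (∀ t, ∀ h, e ⟨y0 hφ hK t, h⟩ = lowMat t) := by
  haveI := finiteGT hφ hK
  haveI : DecidableEq K := Classical.decEq K
  set st : Subgroup (GT hφ hK) :=
    (stabG (R := K) f0).comap ((Md hφ hK).T.subtype) with hst
  have hL : Lsub hφ hK 0 ≤ st := rk_le hφ hK
    (fun g hg => by
      obtain ⟨t, rfl⟩ := exists_x0 hφ hK hg
      exact (x0_act hφ hK t).1)
    (fun g hg => by
      obtain ⟨t, rfl⟩ := opp0 hφ hK hg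
      exact (y0_act hφ hK t).1)
  let β : Lsub hφ hK 0 →* Matrix (Fin 2) (Fin 2) K :=
    (blockHom f0 f_inj.2).comp (((Md hφ hK).T.subtype.comp (Lsub hφ hK 0).subtype).codRestrict
      (stabG (R := K) f0) fun g => hL g.2)
  let ι : Matrix.SpecialLinearGroup (Fin 2) K →* Matrix (Fin 2) (Fin 2) K :=
    { toFun := fun g => (g : Matrix (Fin 2) (Fin 2) K)
      map_one' := rfl
      map_mul' := fun _ _ => rfl }
  have hι : Function.Injective ι := fun a b h => Subtype.ext h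
  have hx : ∀ t, ∀ h, β ⟨x0 hφ hK t, h⟩ = ι (upMat t) := fun t h =>
    (x0_act hφ hK t).2
  have hy : ∀ t, ∀ h, β ⟨y0 hφ hK t, h⟩ =
      ι (lowMat t) := fun t h =>
    (y0_act hφ hK t).2
  have hex : ∀ g : Lsub hφ hK 0, ∃ s, ι s = β g := by
    rintro ⟨g, hg⟩
    have hle : Lsub hφ hK 0 ≤
        { carrier := {g | ∃ h : g ∈ Lsub hφ hK 0, ∃ s, ι s = β ⟨g, h⟩}
          one_mem' := ⟨one_mem _, 1, by rw [map_one]; exact (map_one β).symm⟩
          mul_mem' := by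
            rintro a b ⟨ha, s, es⟩ ⟨hb, t, et⟩
            exact ⟨mul_mem ha hb, s * t, by rw [map_mul, es, et, ← map_mul]; rfl⟩
          inv_mem' := by
            rintro a ⟨ha, s, es⟩
            refine ⟨inv_mem ha, s⁻¹, ?_⟩
            have h1 : ι s⁻¹ * ι s = 1 := by rw [← map_mul, inv_mul_cancel, map_one]
            have h2 : β ⟨a, ha⟩ * β ⟨a⁻¹, inv_mem ha⟩ = 1 := by
              rw [← map_mul]
              exact (congrArg β (Subtype.ext (mul_inv_cancel a))).trans (map_one β)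
            rw [← es] at h2
            exact left_inv_eq_right_inv h1 h2 : Subgroup (GT hφ hK) } := rk_le hφ hK
      (fun g hg => by
        obtain ⟨t, rfl⟩ := exists_x0 hφ hK hg
        exact ⟨x0_mem_Lsub hφ hK t, _, (hx t _).symm⟩)
      (fun g hg => by
        obtain ⟨t, rfl⟩ := opp0 hφ hK hg
        exact ⟨y0_mem_Lsub hφ hK t, _, (hy t _).symm⟩)
    obtain ⟨_, s, es⟩ := hle hg
    exact ⟨s, es⟩
  choose r hr using hex
  let ρ : Lsub hφ hK 0 →* Matrix.SpecialLinearGroup (Fin 2) K := MonoidHom.mk' r fun a b =>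
    hι (by rw [map_mul, hr, hr, hr, map_mul])
  have hρx : ∀ t, ∀ h, ρ ⟨x0 hφ hK t, h⟩ = upMat t := fun t h =>
    hι ((hr _).trans (hx t h))
  have hρy : ∀ t, ∀ h, ρ ⟨y0 hφ hK t, h⟩ =
      lowMat t := fun t h =>
    hι ((hr _).trans (hy t h))
  have hq8 : 8 ≤ Fintype.card K := by
    rw [hK]
    calc 8 = 2 ^ 3 := rfl
      _ ≤ _ := Nat.pow_le_pow_right two_pos (by omega)
  have hne9 : Fintype.card K ≠ 9 := by
    intro h
    have : 2 ∣ Fintype.card K := hK ▸ dvd_pow_self 2 (by omega)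
    omega
  have hsurj : Function.Surjective ρ := by
    refine MonoidHom.range_eq_top.1 (eq_top_iff.2 ?_)
    rw [← Chevalley.SL2Hom.closure_upMat_lowMat, Subgroup.closure_le]
    rintro _ (⟨t, rfl⟩ | ⟨t, rfl⟩)
    · exact ⟨_, hρx t (x0_mem_Lsub hφ hK t)⟩
    · exact ⟨_, hρy t (y0_mem_Lsub hφ hK t)⟩
  refine ⟨MulEquiv.ofBijective ρ ⟨?_, hsurj⟩, hρx, hρy⟩
  refine rankone_injective (sbase hφ hK) (sW_cen hφ hK 0) (sW_mem hφ hK 0)
    (Linear.commutator_SL_eq_top_of_card (Or.inr (by rw [Nat.card_eq_fintype_card]; omega)))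
    (oddRigid_of_trivial (Cfsg.Agent.S2117.result (by omega) hne9)) ρ hsurj ?_ ?_ ?_ ?_
  · rintro ⟨a, haL⟩ ha h1
    obtain ⟨t, rfl⟩ := exists_x0 hφ hK ha
    rw [hρx] at h1
    have h2 : t = 0 := by
      simpa [H87.upMat_coe] using congrArg (fun g : Matrix.SpecialLinearGroup (Fin 2) K => g.1 0 1) h1
    subst h2
    exact Subtype.ext (x0_zero hφ hK)
  · rintro ⟨a, haL⟩ ha h1
    obtain ⟨t, rfl⟩ := opp0 hφ hK ha
    rw [hρy] at h1
    have h2 : t = 0 := by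
      simpa [H87.lowMat_coe] using congrArg (fun g : Matrix.SpecialLinearGroup (Fin 2) K => g.1 1 0) h1
    subst h2
    refine Subtype.ext (Subtype.ext ?_)
    show ((xe 14 (φ 0) * xe 23 0 : ↥(chevF4.group K)) : GL chevF4.Idx K) = 1
    rw [map_zero, xe_zero (by decide), xe_zero (by decide), one_mul]
    rfl
  · refine ⟨⟨x0 hφ hK 1, x0_mem_Lsub hφ hK 1⟩, x0_mem hφ hK 1, ?_⟩
    rintro ⟨b, hbL⟩ hb he
    obtain ⟨t, rfl⟩ := opp0 hφ hK hb
    rw [hρx, hρy] at he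
    have := congrArg (fun g : Matrix.SpecialLinearGroup (Fin 2) K => g.1 0 1) he
    simp [H87.upMat_coe, H87.lowMat_coe] at this
  · rintro ⟨a, haL⟩ ha hN
    obtain ⟨t, rfl⟩ := exists_x0 hφ hK ha
    obtain ⟨⟨b, hbL⟩, hb, he⟩ := hN ⟨y0 hφ hK 1, y0_mem_Lsub hφ hK 1⟩ (y0_opp hφ hK 1)
    obtain ⟨t', rfl⟩ := opp0 hφ hK hb
    rw [hρx, hρy, hρy, mul_inv_eq_iff_eq_mul] at he
    rw [hρx]
    have h0 := congrArg (fun g : Matrix.SpecialLinearGroup (Fin 2) K => g.1 0 0) he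
    simp [H87.upMat_coe, H87.lowMat_coe, Matrix.mul_apply, Fin.sum_univ_two] at h0
    subst h0
    exact H87.upMat_zero

end Cfsg.Agent.H84.Gauss
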