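import Cfsg.Agent.H84.Gauss.Machine
import Cfsg.Agent.H84.Gauss.TitsData

/-!
The evaluator of `²F₄(2)` and its checks.
-/

set_option autoImplicit false

namespace Cfsg.Agent.H84.Gauss.TM

/-- The root group part and its inverse. -/
def part (r v : ℕ) : ℕ × ℕ :=
  if r = 0 then (v % 2, v % 2) else
    match v / 1024 % 4 with
    | 1 => (1024, TD.invL.getD 0 0 % 4096)
    | 2 => (2048, TD.invL.getD 1 0 % 4096)
    | 3 => (3072, TD.invL.getD 2 0 % 4096)
    | _ => (0, 0)

/-- The rank one relations. -/
def one (r e : ℕ) : Option (ℕ × ℕ) :=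
  if r = 0 then (if e = 1 then some (1, 1) else none) else
    if e = 1024 then some (1024, 2048) else
      if e = 2048 then some (3072, 1024) else
        if e = 3072 then some (2048, 3072) else none

/-- The image of a generator. -/
def img (r i : ℕ) : Option ℕ :=
  if (TD.imgL.getD r []).getD i 12 < 12 then some ((TD.imgL.getD r []).getD i 12) else none

/-- The machine. -/
def MT : Mach where
  k := 12
  tab := TD.tab
  rel j i := TD.relL.getD (12 * j + i) []
  img := img
  part := part
  one := one
  word w := TD.wordL.getD (w % 16) []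
  wr w r := (TD.wrL.getD (w % 16) []).getD r 0

theorem part_lt (r v : ℕ) : (MT.part r v).1 < 2 ^ MT.k ∧ (MT.part r v).2 < 2 ^ MT.k := by
  show (part r v).1 < 4096 ∧ (part r v).2 < 4096
  unfold part
  split_ifs
  · dsimp only; omega
  · split <;> dsimp only <;> omega

theorem one_lt (r e a b : ℕ) (h : MT.one r e = some (a, b)) : b < 2 ^ MT.k := by
  show b < 4096
  change one r e = some (a, b) at h
  unfold one at h
  split_ifs at h <;> cases h <;> norm_num

/-- Letters of a Weyl word. -/
def wlet (w : ℕ) : List ℕ := (MT.word w).map (12 + ·)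

/-- The parity of a unipotent element. -/
def par (v : ℕ) : Bool := ((v >>> 1) + (v >>> 4) + (v >>> 7) + (v >>> 10)) % 2 == 1

/-- The big cells. -/
def top (w : ℕ) : Bool := w == 13 || w == 14 || w == 15

/-- Rank and move. -/
def code (w v : ℕ) : ℕ :=
  ((if w = 13 then TD.next13 else if w = 14 then TD.next14 else TD.next15) >>> (16 * v)) % 65536

/-- A move leads to a smaller rank. -/
def moveOk (w v : ℕ) : Bool :=
  let c := code w v
  let m := TD.moveL.getD (c % 256) ([], [])
  match MT.key (m.1 ++ wlet w ++ MT.bits v ++ m.2) with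
  | some (w', v') => top w' && !par v' && decide (v' < 4096) && decide (code w' v' / 256 < c / 256)
  | none => false

/-- The root of an entry is its listed factorisation. -/
def rootOk (w v : ℕ) : Bool :=
  match TD.witL[code w v % 256]? with
  | some (_, w', v') => w' == w && v' == v
  | none => false

/-- An entry of the move forest is correct. -/
def nodeOk (w v : ℕ) : Bool :=
  par v || if code w v / 256 = 0 then rootOk w v else moveOk w v

/-- A factorisation is correct. -/
def witOk (t : List (List ℕ) × ℕ × ℕ) : Bool :=
  match t.1 with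
  | [z, zi, y, yi, u, ui] =>
    MT.key (z ++ zi) == some (0, 0) && MT.key (y ++ yi) == some (0, 0) &&
      MT.key (u ++ ui) == some (0, 0) &&
      MT.key (z ++ (y ++ TD.xW ++ yi ++ (u ++ TD.xW ++ ui)) ++ zi) == some (t.2.1, t.2.2)
  | _ => false

end Cfsg.Agent.H84.Gauss.TM
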