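import Cfsg.Agent.H84.Gauss.TitsTab
import Cfsg.Agent.H40.Tits.Main

/-!
The evaluator describes the generators of the fixed points.
-/

set_option autoImplicit false
set_option maxRecDepth 100000
set_option maxHeartbeats 1000000
set_option synthInstance.maxHeartbeats 400000

namespace Cfsg.Agent.H84.Gauss.TM

open Cfsg.Lie Cfsg.Agent.H37 Cfsg.Agent.H37.RootSys Cfsg.Agent.H37.Twist Cfsg.Agent.H37.NormalForm
open Cfsg.Agent.H40 (Tits.GT Tits.GF Tits.gW Tits.gensR Tits.rev8 Tits.goodW Tits.elW Tits.nfEq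
  Tits.rep Tits.repG Tits.dpar Tits.gW_append Tits.sact Tits.Pos Tits.nWd Tits.rep_gen_gW Tits.rep_gen_word Tits.nfEq_spec Tits.gW_eq_of_check)

/-- The generators of the fixed unipotent subgroup as root words. -/
def gwd (i : ℕ) : List ℕ := (Tits.gensR Tits.rev8).getD (4 * (i / 3) + i % 3) []

/-- The words of a vector. -/
def lwd (l : List ℕ) : List ℕ := l.flatMap gwd

theorem gwd_good : ∀ i < 12, Tits.goodW (gwd i) = true := by decide +kernel

/-- The generators. -/
noncomputable def gT (i : ℕ) : Tits.GT :=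
  if h : Tits.goodW (gwd i) = true then (Tits.elW (gwd i) h : Tits.GT) else 1

/-- The index of a reflection. -/
def fj (r : ℕ) : Fin 2 := if r = 0 then 0 else 1

/-- The representatives of the reflections. -/
noncomputable def nT (r : ℕ) : Tits.GT := Tits.repG (F4.gens (fj r))

theorem gT_val {i : ℕ} (hi : i < 12) : ((gT i : Tits.GT) : Tits.GF) = Tits.gW (gwd i) := by
  rw [gT, dif_pos (gwd_good i hi)]
  rfl

theorem prod_val : ∀ {l : List ℕ}, (∀ i ∈ l, i < 12) →
    ((prodL gT l : Tits.GT) : Tits.GF) = Tits.gW (lwd l)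
  | [], _ => rfl
  | a :: t, h => by
    rw [prodL, List.map_cons, List.prod_cons, Subgroup.coe_mul, gT_val (h a List.mem_cons_self),
      lwd, List.flatMap_cons, Tits.gW_append]
    congr 1
    exact prod_val fun i hi => h i (List.mem_cons_of_mem _ hi)

theorem rel_ok : ∀ j < 12, ∀ i ≤ j,
    (MT.rel j i).all (fun a => decide (a < 12)) = true ∧
      Tits.nfEq (gwd j ++ gwd i) (lwd (MT.rel j i)) = true := by
  decide +kernel

theorem img_ok : ∀ r < 2, ∀ i < 12, ∀ σ < 12, MT.img r i = some σ →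
    Tits.nfEq ((gwd i).map (Tits.sact (fj r))) (gwd σ) = true := by
  decide +kernel

theorem img_lt (r i σ : ℕ) (h : MT.img r i = some σ) : σ < 12 := by
  change img r i = some σ at h
  unfold img at h
  split_ifs at h with h'
  cases h
  exact h'

theorem gwd_pos : ∀ i < 12, ∀ a ∈ gwd i, Tits.Pos a := by decide +kernel

/-- A rank one relation holds in the ambient group. -/
def oneOk (p : ℕ × ℕ) : Bool :=
  match MT.one p.1 p.2 with
  | some (a, b) => sameWordP 2 chevF4
      ((Tits.nWd (fj p.1) ++ lwd (MT.bits p.2) ++ Tits.nWd (fj p.1)).map fun r => (r, (1 : ℤ)))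
      ((lwd (MT.bits a) ++ Tits.nWd (fj p.1) ++ lwd (MT.bits b)).map fun r => (r, (1 : ℤ)))
  | none => false

theorem rank_one_ok : ∀ p ∈ [(0, 1), (1, 1024), (1, 2048), (1, 3072)], oneOk p = true := by
  decide +kernel

theorem one_dom {r e : ℕ} {ab : ℕ × ℕ} (hr : r < 2) (h : MT.one r e = some ab) :
    (r, e) ∈ [(0, 1), (1, 1024), (1, 2048), (1, 3072)] := by
  change one r e = some ab at h
  unfold one at h
  interval_cases r <;> simp only [one_ne_zero, if_true, if_false] at h <;> split_ifs at h <;>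
    simp [*]

theorem word_lt : ∀ w, ∀ r ∈ MT.word w, r < 2 := by
  intro w r hr
  have key : ∀ u < 16, ∀ r ∈ MT.word u, r < 2 := by decide +kernel
  refine key (w % 16) (Nat.mod_lt _ (by norm_num)) r ?_
  show r ∈ TD.wordL.getD (w % 16 % 16) []
  rwa [Nat.mod_mod]

/-- The element of the dihedral group of a word. -/
def dW (w : ℕ) : DihedralGroup 8 := ((MT.word w).map fun r => F4.gens (fj r)).prod

theorem wr_ok : ∀ r < 2, ∀ w < 16, dW w * F4.gens (fj r) = dW (MT.wr w r) ∧ MT.wr w r < 16 := by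
  decide +kernel

theorem dW_surj : ∀ a : DihedralGroup 8, ∃ w < 16, dW w = a := by decide +kernel

theorem prodN_eq (w : ℕ) : prodL nT (MT.word w) = Tits.repG (dW w) := by
  rw [dW, prodL, map_list_prod, List.map_map]
  rfl

theorem sound : MT.Sound gT nT where
  table := tab_ok
  rel i j hij hj := by
    obtain ⟨h1, h2⟩ := rel_ok j hj i hij
    simp only [List.all_eq_true, decide_eq_true_eq] at h1
    refine Subtype.ext ?_
    rw [prod_val h1, Subgroup.coe_mul, gT_val hj, gT_val (lt_of_le_of_lt hij hj), ← Tits.gW_append]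
    exact Tits.nfEq_spec h2
  img r i σ hr hi h := by
    have hσ := img_lt r i σ h
    refine ⟨hσ, Subtype.ext ?_⟩
    rw [Subgroup.coe_mul, Subgroup.coe_mul, Subgroup.coe_inv, gT_val hi, gT_val hσ]
    show Tits.rep (F4.gens (fj r)) * Tits.gW (gwd i) * (Tits.rep (F4.gens (fj r)))⁻¹ = _
    rw [Tits.rep_gen_gW _ (gwd_pos i hi)]
    exact Tits.nfEq_spec (img_ok r hr i hi σ hσ h)
  sq r _ := by
    rw [nT, ← map_mul, (by decide : ∀ j : Fin 2, F4.gens j * F4.gens j = 1), map_one]
  one r e a b hr h := by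
    have hd := rank_one_ok _ (one_dom hr h)
    simp only [oneOk, h] at hd
    have hb : ∀ u, ∀ i ∈ MT.bits u, i < 12 := fun u i hi => Mach.bits_lt MT hi
    refine Subtype.ext ?_
    simp only [Subgroup.coe_mul]
    rw [prod_val (hb e), prod_val (hb a), prod_val (hb b)]
    show Tits.rep (F4.gens (fj r)) * _ * Tits.rep (F4.gens (fj r)) =
      _ * Tits.rep (F4.gens (fj r)) * _
    rw [Tits.rep_gen_word, ← Tits.gW_append, ← Tits.gW_append, ← Tits.gW_append, ← Tits.gW_append]
    exact Tits.gW_eq_of_check hd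
  word_lt := word_lt
  word_zero := rfl
  wr w r hr := by
    have e : dW w * F4.gens (fj r) = dW (MT.wr w r) := by
      have h1 := (wr_ok r hr (w % 16) (Nat.mod_lt _ (by norm_num))).1
      simp only [dW, MT, Nat.mod_mod] at h1 ⊢
      exact h1
    rw [prodN_eq, prodN_eq, nT, ← map_mul, e]

end Cfsg.Agent.H84.Gauss.TM
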