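import Cfsg.Agent.H84.Gauss.TitsMach

/-!
The multiplication tables of the unipotent fixed points of `²F₄(2)`.
-/

set_option autoImplicit false
set_option maxRecDepth 100000

namespace Cfsg.Agent.H84.Gauss.TM

theorem tab_ok0 : MT.tableOk 0 = true ∧ MT.tableOk 1 = true ∧ MT.tableOk 2 = true ∧ MT.tableOk 3 = true := by
  decide +kernel

theorem tab_ok1 : MT.tableOk 4 = true ∧ MT.tableOk 5 = true ∧ MT.tableOk 6 = true ∧ MT.tableOk 7 = true := by
  decide +kernel

theorem tab_ok2 :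
    MT.tableOk 8 = true ∧ MT.tableOk 9 = true ∧ MT.tableOk 10 = true ∧ MT.tableOk 11 = true := by
  decide +kernel

theorem tab_ok : ∀ i < 12, MT.tableOk i = true := by
  intro i hi
  obtain ⟨a0, a1, a2, a3⟩ := tab_ok0
  obtain ⟨b0, b1, b2, b3⟩ := tab_ok1
  obtain ⟨c0, c1, c2, c3⟩ := tab_ok2
  interval_cases i <;> assumption

end Cfsg.Agent.H84.Gauss.TM
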